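import Cfsg.Agent.Lib.Root.SL2

/-!
# Recognition of the natural module of `SL₂(F)`

A nontrivial irreducible module on which the upper unitriangular subgroup acts quadratically
is the natural module.
-/

set_option autoImplicit false

namespace Cfsg.Agent.Lib.LocalEven2.NatSL2

open Subgroup Cfsg Cfsg.Agent.Lib.Root

section Rel

variable {F : Type*} [Field F]

/-- The diagonal element `diag(t, t⁻¹)`. -/
def tt (t : F) (ht : t ≠ 0) : Matrix.SpecialLinearGroup (Fin 2) F :=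
  ⟨!![t, 0; 0, t⁻¹], by simp [Matrix.det_fin_two, ht]⟩

/-- The antidiagonal element. -/
def nnA (a : F) (ha : a ≠ 0) : Matrix.SpecialLinearGroup (Fin 2) F :=
  ⟨!![0, a; -a⁻¹, 0], by simp [Matrix.det_fin_two, ha]⟩

@[simp] lemma tt_00 (t : F) (ht : t ≠ 0) : (tt t ht).1 0 0 = t := rfl
@[simp] lemma tt_01 (t : F) (ht : t ≠ 0) : (tt t ht).1 0 1 = 0 := rfl
@[simp] lemma tt_10 (t : F) (ht : t ≠ 0) : (tt t ht).1 1 0 = 0 := rfl
@[simp] lemma tt_11 (t : F) (ht : t ≠ 0) : (tt t ht).1 1 1 = t⁻¹ := rfl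
@[simp] lemma nnA_00 (t : F) (ht : t ≠ 0) : (nnA t ht).1 0 0 = 0 := rfl
@[simp] lemma nnA_01 (t : F) (ht : t ≠ 0) : (nnA t ht).1 0 1 = t := rfl
@[simp] lemma nnA_10 (t : F) (ht : t ≠ 0) : (nnA t ht).1 1 0 = -t⁻¹ := rfl
@[simp] lemma nnA_11 (t : F) (ht : t ≠ 0) : (nnA t ht).1 1 1 = 0 := rfl

theorem rel_bruhat (a b : F) (ht : 1 + a * b ≠ 0) :
    bU a * aL b = aL (b / (1 + a * b)) * tt (1 + a * b) ht * bU (a / (1 + a * b)) := by
  generalize ht2 : 1 + a * b = t at ht
  apply sl2_ext <;> simp only [sl2_mul_apply, bU_00, bU_01, bU_10, bU_11, aL_00, aL_01, aL_10, aL_11,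
    tt_00, tt_01, tt_10, tt_11]
  · simp [← ht2]
  · field_simp
    simp
  · field_simp
    simp [mul_comm]
  · field_simp
    linear_combination -ht2

theorem rel_tt_mul (s t : F) (hs : s ≠ 0) (ht : t ≠ 0) :
    tt s hs * tt t ht = tt (s * t) (mul_ne_zero hs ht) := by
  apply sl2_ext <;> simp [sl2_mul_apply, mul_comm]

theorem rel_tt_upper (t c : F) (ht : t ≠ 0) : bU c * tt t ht = tt t ht * bU (c * t⁻¹ * t⁻¹) := by
  apply sl2_ext <;> simp only [sl2_mul_apply, bU_00, bU_01, bU_10, bU_11, tt_00, tt_01, tt_10, tt_11] <;>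
    field_simp <;> ring

theorem rel_tt_lower (t c : F) (ht : t ≠ 0) : aL c * tt t ht = tt t ht * aL (c * t * t) := by
  apply sl2_ext <;> simp only [sl2_mul_apply, aL_00, aL_01, aL_10, aL_11, tt_00, tt_01, tt_10, tt_11] <;>
    field_simp <;> ring

theorem rel_weyl (a : F) (ha : a ≠ 0) : bU a * aL (-a⁻¹) * bU a = nnA a ha := by
  apply sl2_ext <;> simp only [sl2_mul_apply, bU_00, bU_01, bU_10, bU_11, aL_00, aL_01, aL_10, aL_11,
    nnA_00, nnA_01, nnA_10, nnA_11] <;> field_simp <;> ring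

theorem rel_weyl' (b : F) (hb : b ≠ 0) (hb' : -b⁻¹ ≠ 0) : aL b * bU (-b⁻¹) * aL b = nnA (-b⁻¹) hb' := by
  apply sl2_ext <;> simp only [sl2_mul_apply, bU_00, bU_01, bU_10, bU_11, aL_00, aL_01, aL_10, aL_11,
    nnA_00, nnA_01, nnA_10, nnA_11] <;> field_simp <;> ring

theorem rel_lower_nn (c a : F) (ha : a ≠ 0) : aL c * nnA a ha = nnA a ha * bU (-(c * a * a)) := by
  apply sl2_ext <;> simp only [sl2_mul_apply, bU_00, bU_01, bU_10, bU_11, aL_00, aL_01, aL_10, aL_11,
    nnA_00, nnA_01, nnA_10, nnA_11] <;> field_simp <;> ring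

theorem rel_upper_nn (c a : F) (ha : a ≠ 0) : bU c * nnA a ha = nnA a ha * aL (-(c * a⁻¹ * a⁻¹)) := by
  apply sl2_ext <;> simp only [sl2_mul_apply, bU_00, bU_01, bU_10, bU_11, aL_00, aL_01, aL_10, aL_11,
    nnA_00, nnA_01, nnA_10, nnA_11] <;> field_simp <;> ring

theorem rel_upper_bruhat (a : F) (ha : a ≠ 0) : bU a = aL a⁻¹ * nnA a ha * aL a⁻¹ := by
  apply sl2_ext <;> simp only [sl2_mul_apply, bU_00, bU_01, bU_10, bU_11, aL_00, aL_01, aL_10, aL_11,
    nnA_00, nnA_01, nnA_10, nnA_11] <;> field_simp <;> ring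

theorem rel_nn_inv (a : F) (ha : a ≠ 0) (ha' : -a ≠ 0) : nnA a ha * nnA (-a) ha' = 1 := by
  apply sl2_ext <;> simp only [sl2_mul_apply, nnA_00, nnA_01, nnA_10, nnA_11,
    Matrix.SpecialLinearGroup.coe_one, Matrix.one_apply] <;> simp <;> field_simp

theorem aL_zero' : (aL (0 : F)) = 1 := aL_zero
theorem bU_zero' : (bU (0 : F)) = 1 := bU_zero

end Rel

section Act

variable {F : Type*} [Field F] {V : Type*} [AddCommGroup V]
  [DistribMulAction (Matrix.SpecialLinearGroup (Fin 2) F) V]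

variable (F) in
/-- Fixed by the upper unitriangular group. -/
def Fx (v : V) : Prop := ∀ a : F, bU a • v = v

variable (F) in
/-- Fixed by the lower unitriangular group. -/
def Fy (v : V) : Prop := ∀ a : F, aL a • v = v

variable (F) in
/-- The fixed points of the upper unitriangular group. -/
def V0 : AddSubgroup V where
  carrier := {v | Fx F v}
  add_mem' := fun {x y} hx hy a => by rw [smul_add, hx a, hy a]
  zero_mem' := fun a => smul_zero _
  neg_mem' := fun {x} hx a => by rw [smul_neg, hx a]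

variable (F) in
/-- The fixed points of the lower unitriangular group. -/
def V1 : AddSubgroup V where
  carrier := {v | Fy F v}
  add_mem' := fun {x y} hx hy a => by rw [smul_add, hx a, hy a]
  zero_mem' := fun a => smul_zero _
  neg_mem' := fun {x} hx a => by rw [smul_neg, hx a]

omit [DistribMulAction (Matrix.SpecialLinearGroup (Fin 2) F) V] in
theorem mem_closure_all (H : Subgroup (Matrix.SpecialLinearGroup (Fin 2) F))
    (hU : ∀ a : F, bU a ∈ H) (hL : ∀ a : F, aL a ∈ H) : H = ⊤ := by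
  rw [eq_top_iff, ← sup_lower_upper, sup_le_iff]
  constructor
  · intro g hg
    rw [eq_aL hg]
    exact hL _
  · intro g hg
    rw [eq_bU hg]
    exact hU _

/-- Invariance of a subgroup under all of `SL₂` from the two root groups. -/
theorem invariant_of_roots (W : AddSubgroup V) (hU : ∀ (a : F), ∀ v ∈ W, bU a • v ∈ W)
    (hL : ∀ (a : F), ∀ v ∈ W, aL a • v ∈ W) (g : Matrix.SpecialLinearGroup (Fin 2) F) :
    ∀ v ∈ W, g • v ∈ W := by
  let H : Subgroup (Matrix.SpecialLinearGroup (Fin 2) F) :=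
    { carrier := {g | (∀ v ∈ W, g • v ∈ W) ∧ ∀ v ∈ W, g⁻¹ • v ∈ W}
      mul_mem' := fun {x y} hx hy => by
        refine ⟨fun v hv => ?_, fun v hv => ?_⟩
        · rw [mul_smul]
          exact hx.1 _ (hy.1 _ hv)
        · rw [mul_inv_rev, mul_smul]
          exact hy.2 _ (hx.2 _ hv)
      one_mem' := by simp
      inv_mem' := fun {x} hx => ⟨hx.2, by simpa using hx.1⟩ }
  have hH : H = ⊤ := mem_closure_all H
    (fun a => ⟨hU a, fun v hv => by rw [bU_inv]; exact hU _ v hv⟩)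
    (fun a => ⟨hL a, fun v hv => by rw [aL_inv]; exact hL _ v hv⟩)
  have : g ∈ H := by rw [hH]; trivial
  exact this.1

/-- Triviality from the two root groups. -/
theorem fixed_of_roots {v : V} (hU : Fx F v) (hL : Fy F v) (g : Matrix.SpecialLinearGroup (Fin 2) F) :
    g • v = v := by
  let H : Subgroup (Matrix.SpecialLinearGroup (Fin 2) F) :=
    { carrier := {g | g • v = v}
      mul_mem' := fun {x y} hx hy => by
        show (x * y) • v = v
        rw [mul_smul, hy, hx]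
      one_mem' := one_smul _ _
      inv_mem' := fun {x} hx => by
        show x⁻¹ • v = v
        rw [inv_smul_eq_iff]
        exact hx.symm }
  have hH : H = ⊤ := mem_closure_all H hU hL
  have : g ∈ H := by rw [hH]; trivial
  exact this

theorem Fx.tt {v : V} (h : Fx F v) (t : F) (ht : t ≠ 0) : Fx F (tt t ht • v) := by
  intro a
  rw [← mul_smul, rel_tt_upper, mul_smul, h]

theorem Fy.tt {v : V} (h : Fy F v) (t : F) (ht : t ≠ 0) : Fy F (tt t ht • v) := by
  intro a
  rw [← mul_smul, rel_tt_lower, mul_smul, h]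

theorem Fx.nn {v : V} (h : Fx F v) (t : F) (ht : t ≠ 0) : Fy F (nnA t ht • v) := by
  intro a
  rw [← mul_smul, rel_lower_nn, mul_smul, h]

theorem Fy.nn {v : V} (h : Fy F v) (t : F) (ht : t ≠ 0) : Fx F (nnA t ht • v) := by
  intro a
  rw [← mul_smul, rel_upper_nn, mul_smul, h]

/-- The quadratic decomposition data. -/
structure QD (F V : Type*) [Field F] [AddCommGroup V]
    [DistribMulAction (Matrix.SpecialLinearGroup (Fin 2) F) V] : Prop where
  dec : ∀ v : V, ∃ w z, v = w + z ∧ Fx F w ∧ Fy F z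
  uni : ∀ w : V, Fx F w → Fy F w → w = 0
  qu : ∀ (b : F) (v : V), Fx F (bU b • v - v)
  ql : ∀ (b : F) (v : V), Fy F (aL b • v - v)

/-- `α`. -/
def al (a : F) (v : V) : V := bU a • v - v

/-- `β`. -/
def be (a : F) (v : V) : V := aL a • v - v

theorem uniq (huni : ∀ w : V, Fx F w → Fy F w → w = 0) {w w' z z' : V} (h : w + z = w' + z')
    (hw : Fx F w) (hw' : Fx F w') (hz : Fy F z) (hz' : Fy F z') : w = w' ∧ z = z' := by
  have h1 : w - w' = z' - z := by
    rw [sub_eq_sub_iff_add_eq_add, h, add_comm]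
  have h2 : w - w' = 0 := by
    apply huni
    · exact (V0 F).sub_mem hw hw'
    · rw [h1]
      exact (V1 F).sub_mem hz' hz
  have h3 : z' - z = 0 := by rw [← h1, h2]
  exact ⟨sub_eq_zero.mp h2, (sub_eq_zero.mp h3).symm⟩

namespace QD

variable (hQ : QD F V)
include hQ

theorem al_fx (a : F) (v : V) : Fx F (al a v) := hQ.qu a v
theorem be_fy (a : F) (v : V) : Fy F (be a v) := hQ.ql a v

theorem al_add_left (a a' : F) (v : V) : al (a + a') v = al a v + al a' v := by
  have h1 := hQ.qu a' v a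
  simp only [al]
  rw [← bU_mul, mul_smul]
  have h2 : bU a' • v = v + (bU a' • v - v) := by abel
  nth_rewrite 1 [h2]
  rw [smul_add, h1]
  abel

theorem be_add_left (a a' : F) (v : V) : be (a + a') v = be a v + be a' v := by
  have h1 := hQ.ql a' v a
  simp only [be]
  rw [← aL_mul, mul_smul]
  have h2 : aL a' • v = v + (aL a' • v - v) := by abel
  nth_rewrite 1 [h2]
  rw [smul_add, h1]
  abel

theorem al_add_right (a : F) (v v' : V) : al a (v + v') = al a v + al a v' := by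
  simp only [al, smul_add]
  abel

theorem be_add_right (a : F) (v v' : V) : be a (v + v') = be a v + be a v' := by
  simp only [be, smul_add]
  abel

theorem al_sub_right (a : F) (v v' : V) : al a (v - v') = al a v - al a v' := by
  simp only [al, smul_sub]
  abel

theorem be_sub_right (a : F) (v v' : V) : be a (v - v') = be a v - be a v' := by
  simp only [be, smul_sub]
  abel

omit hQ in
theorem al_zero_left (v : V) : al (0 : F) v = 0 := by
  simp [al, bU_zero]

omit hQ in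
theorem be_zero_left (v : V) : be (0 : F) v = 0 := by
  simp [be, aL_zero]

omit hQ in
theorem al_zero_right (a : F) : al a (0 : V) = 0 := by simp [al]

omit hQ in
theorem be_zero_right (a : F) : be a (0 : V) = 0 := by simp [be]

/-- The action of the torus on `C_V(U⁺)` (Bruhat). -/
theorem tt_eq (a b : F) {w : V} (hw : Fx F w) (ht : 1 + a * b ≠ 0) :
    tt (1 + a * b) ht • w = w + al a (be b w) := by
  have h1 : bU a • aL b • w = aL (b / (1 + a * b)) • tt (1 + a * b) ht • w := by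
    rw [← mul_smul, rel_bruhat a b ht, mul_smul, mul_smul, hw]
  set y := tt (1 + a * b) ht • w with hy
  have hyF : Fx F y := hw.tt _ _
  have h2 : bU a • aL b • w = (w + al a (be b w)) + be b w := by
    have h3 : aL b • w = w + be b w := by simp [be]
    rw [h3, smul_add, hw]
    have h4 : bU a • be b w = be b w + al a (be b w) := by simp [al]
    rw [h4]
    abel
  have h5 : aL (b / (1 + a * b)) • y = y + be (b / (1 + a * b)) y := by simp [be]
  rw [h2, h5] at h1
  exact (uniq hQ.uni h1 ((V0 F).add_mem hw (hQ.al_fx _ _)) hyF (hQ.be_fy _ _) (hQ.be_fy _ _)).1.symm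

/-- The Weyl relation on `C_V(U⁺)`. -/
theorem weyl_eq (a : F) (ha : a ≠ 0) {w : V} (hw : Fx F w) : w + al a (be (-a⁻¹) w) = 0 := by
  have h1 : nnA a ha • w = (w + al a (be (-a⁻¹) w)) + be (-a⁻¹) w := by
    rw [← rel_weyl a ha, mul_smul, mul_smul, hw]
    have h3 : aL (-a⁻¹) • w = w + be (-a⁻¹) w := by simp [be]
    rw [h3, smul_add, hw]
    have h4 : bU a • be (-a⁻¹) w = be (-a⁻¹) w + al a (be (-a⁻¹) w) := by simp [al]
    rw [h4]
    abel
  have hY : Fy F (nnA a ha • w) := hw.nn a ha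
  have h2 : (w + al a (be (-a⁻¹) w)) + be (-a⁻¹) w = 0 + nnA a ha • w := by
    rw [← h1, zero_add]
  exact (uniq hQ.uni h2 ((V0 F).add_mem hw (hQ.al_fx _ _)) (V0 F).zero_mem (hQ.be_fy _ _) hY).1

/-- The Weyl relation on `C_V(U⁻)`. -/
theorem weyl_eq' (b : F) (hb : b ≠ 0) {z : V} (hz : Fy F z) : z + be b (al (-b⁻¹) z) = 0 := by
  have hb' : -b⁻¹ ≠ 0 := neg_ne_zero.mpr (inv_ne_zero hb)
  have h1 : nnA (-b⁻¹) hb' • z = al (-b⁻¹) z + (z + be b (al (-b⁻¹) z)) := by
    rw [← rel_weyl' b hb hb', mul_smul, mul_smul, hz]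
    have h3 : bU (-b⁻¹) • z = z + al (-b⁻¹) z := by simp [al]
    rw [h3, smul_add, hz]
    have h4 : aL b • al (-b⁻¹) z = al (-b⁻¹) z + be b (al (-b⁻¹) z) := by simp [be]
    rw [h4]
    abel
  have hY : Fx F (nnA (-b⁻¹) hb' • z) := hz.nn _ hb'
  have h2 : nnA (-b⁻¹) hb' • z + 0 = al (-b⁻¹) z + (z + be b (al (-b⁻¹) z)) := by
    rw [h1, add_zero]
  exact (uniq hQ.uni h2 hY (hQ.al_fx _ _) (V1 F).zero_mem ((V1 F).add_mem hz (hQ.be_fy _ _))).2.symm

/-- `R`. -/
def Rf (s : F) (w : V) : V := al s (be (1 : F) w)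

theorem Rf_fx (s : F) (w : V) : Fx F (Rf s w) := hQ.al_fx _ _

/-- Key relation: `E(a, b) = R(ab)`. -/
theorem al_be (a b : F) {w : V} (hw : Fx F w) : al a (be b w) = Rf (a * b) w := by
  by_cases ht : 1 + a * b = 0
  · have ha : a ≠ 0 := by
      rintro rfl
      simp at ht
    have hb : b = -a⁻¹ := by
      field_simp
      linear_combination ht
    have h1 := hQ.weyl_eq a ha hw
    have h2 : a * b = -1 := by linear_combination ht
    have h3 := hQ.weyl_eq (-1) (by simp) hw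
    simp only [inv_neg, inv_one, neg_neg] at h3
    rw [h2, Rf]
    rw [← hb] at h1
    have h4 : al a (be b w) = -w := by
      rw [eq_neg_iff_add_eq_zero, add_comm]
      exact h1
    have h5 : al (-1 : F) (be (1 : F) w) = -w := by
      rw [eq_neg_iff_add_eq_zero, add_comm]
      exact h3
    rw [h4, h5]
  · have ht2 : 1 + (a * b) * (1 : F) ≠ 0 := by rwa [mul_one]
    have h1 := hQ.tt_eq a b hw ht
    have h2 := hQ.tt_eq (a * b) 1 hw ht2
    have h3 : tt (1 + (a * b) * (1 : F)) ht2 = tt (1 + a * b) ht := by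
      congr 1
      ring
    rw [h3, h1] at h2
    exact add_left_cancel h2

theorem Rf_add (s s' : F) (w : V) : Rf (s + s') w = Rf s w + Rf s' w := hQ.al_add_left _ _ _

theorem Rf_add_right (s : F) (w w' : V) : Rf s (w + w') = Rf s w + Rf s w' := by
  simp only [Rf]
  rw [hQ.be_add_right, hQ.al_add_right]

omit hQ in
theorem Rf_zero (w : V) : Rf (0 : F) w = 0 := al_zero_left _

omit hQ in
theorem Rf_zero_right (s : F) : Rf s (0 : V) = 0 := by
  simp [Rf, be_zero_right, al_zero_right]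

theorem Rf_neg_one {w : V} (hw : Fx F w) : Rf (-1 : F) w = -w := by
  have h3 := hQ.weyl_eq (-1) (by simp) hw
  simp only [inv_neg, inv_one, neg_neg] at h3
  rw [Rf, eq_neg_iff_add_eq_zero, add_comm]
  exact h3

theorem Rf_one {w : V} (hw : Fx F w) : Rf (1 : F) w = w := by
  have h1 := hQ.Rf_add (1 : F) (-1) w
  rw [add_neg_cancel, Rf_zero, hQ.Rf_neg_one hw] at h1
  exact (eq_of_sub_eq_zero (by rw [sub_eq_add_neg]; exact h1.symm))

theorem Rf_eq_tt (t : F) (ht : t ≠ 0) {w : V} (hw : Fx F w) : Rf t w = tt t ht • w := by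
  have ht' : 1 + (t - 1) * (1 : F) ≠ 0 := by
    rw [mul_one, add_sub_cancel]
    exact ht
  have h1 := hQ.tt_eq (t - 1) 1 hw ht'
  have h2 : tt (1 + (t - 1) * (1 : F)) ht' = tt t ht := by
    congr 1
    ring
  rw [h2] at h1
  rw [h1]
  have h3 := hQ.Rf_add (t - 1) 1 w
  rw [sub_add_cancel, hQ.Rf_one hw] at h3
  rw [h3, add_comm]
  simp only [Rf, mul_one]

theorem Rf_mul (s t : F) {w : V} (hw : Fx F w) : Rf (s * t) w = Rf s (Rf t w) := by
  by_cases hs : s = 0
  · rw [hs, zero_mul, Rf_zero, Rf_zero]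
  by_cases ht : t = 0
  · rw [ht, mul_zero, Rf_zero, Rf_zero_right]
  rw [hQ.Rf_eq_tt _ (mul_ne_zero hs ht) hw, hQ.Rf_eq_tt t ht hw, hQ.Rf_eq_tt s hs (hw.tt t ht),
    ← mul_smul, rel_tt_mul]

theorem be_Rf (b c : F) {w : V} (hw : Fx F w) : be b (Rf c w) = be (b * c) w := by
  have h1 : al (1 : F) (be b (Rf c w)) = al (1 : F) (be (b * c) w) := by
    rw [hQ.al_be 1 b (hQ.Rf_fx c w), hQ.al_be 1 (b * c) hw, one_mul, one_mul, hQ.Rf_mul b c hw]
  have h2 : al (1 : F) (be b (Rf c w) - be (b * c) w) = 0 := by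
    rw [hQ.al_sub_right, h1, sub_self]
  have h3 : Fy F (be b (Rf c w) - be (b * c) w) := (V1 F).sub_mem (hQ.be_fy _ _) (hQ.be_fy _ _)
  have h4 := hQ.weyl_eq' (-1) (by simp) h3
  simp only [inv_neg, inv_one, neg_neg] at h4
  rw [h2, be_zero_right, add_zero] at h4
  exact sub_eq_zero.mp h4

/-- The coordinate map. -/
def psiF (w₀ : V) (x : Fin 2 → F) : V := al (x 0) (be (1 : F) w₀) + be (x 1) w₀

omit hQ in
theorem mulVec_apply (g : Matrix.SpecialLinearGroup (Fin 2) F) (x : Fin 2 → F) (i : Fin 2) :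
    (g.1.mulVec x) i = g.1 i 0 * x 0 + g.1 i 1 * x 1 := by
  simp [Matrix.mulVec, dotProduct, Fin.sum_univ_two]

theorem psi_add (w₀ : V) (x y : Fin 2 → F) : psiF w₀ (x + y) = psiF w₀ x + psiF w₀ y := by
  simp only [psiF, Pi.add_apply]
  rw [hQ.al_add_left, hQ.be_add_left]
  abel

theorem psi_bU {w₀ : V} (hw₀ : Fx F w₀) (a : F) (x : Fin 2 → F) :
    bU a • psiF w₀ x = psiF w₀ ((bU a).1.mulVec x) := by
  simp only [psiF, mulVec_apply, bU_00, bU_01, bU_10, bU_11, one_mul, zero_mul, zero_add]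
  rw [smul_add, hQ.al_fx _ _ a, hQ.al_add_left]
  have h1 : bU a • be (x 1) w₀ = be (x 1) w₀ + al a (be (x 1) w₀) := by simp [al]
  rw [h1, hQ.al_be a (x 1) hw₀, Rf]
  abel

theorem psi_aL {w₀ : V} (hw₀ : Fx F w₀) (b : F) (x : Fin 2 → F) :
    aL b • psiF w₀ x = psiF w₀ ((aL b).1.mulVec x) := by
  simp only [psiF, mulVec_apply, aL_00, aL_01, aL_10, aL_11, one_mul, zero_mul, add_zero]
  rw [smul_add, hQ.be_fy _ _ b, hQ.be_add_left]
  have h1 : aL b • al (x 0) (be (1 : F) w₀) = al (x 0) (be (1 : F) w₀) + be b (al (x 0) (be (1 : F) w₀)) := by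
    simp [be]
  rw [h1]
  have h2 := hQ.be_Rf b (x 0) hw₀
  rw [Rf] at h2
  rw [h2]
  abel

theorem psi_equiv {w₀ : V} (hw₀ : Fx F w₀) (g : Matrix.SpecialLinearGroup (Fin 2) F) (x : Fin 2 → F) :
    g • psiF w₀ x = psiF w₀ (g.1.mulVec x) := by
  let H : Subgroup (Matrix.SpecialLinearGroup (Fin 2) F) :=
    { carrier := {g | ∀ x, g • psiF w₀ x = psiF w₀ (g.1.mulVec x)}
      mul_mem' := fun {a b} ha hb x => by
        rw [mul_smul, hb, ha, Matrix.SpecialLinearGroup.coe_mul, Matrix.mulVec_mulVec]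
      one_mem' := fun x => by simp
      inv_mem' := fun {a} ha x => by
        have h : a.1 * (a⁻¹).1 = 1 := congrArg Subtype.val (mul_inv_cancel a)
        rw [inv_smul_eq_iff, ha, Matrix.mulVec_mulVec, h, Matrix.one_mulVec] }
  have hH : H = ⊤ := mem_closure_all H (fun a x => hQ.psi_bU hw₀ a x) (fun b x => hQ.psi_aL hw₀ b x)
  have : g ∈ H := by rw [hH]; trivial
  exact this x

/-- The natural module. -/
theorem natural (hirr : ∀ W : AddSubgroup V, (∀ (g : Matrix.SpecialLinearGroup (Fin 2) F), ∀ v ∈ W, g • v ∈ W) →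
      W = ⊥ ∨ W = ⊤) {w₀ : V} (hw₀ : Fx F w₀) (hne : w₀ ≠ 0) :
    ∃ Ψ : (Fin 2 → F) ≃+ V, ∀ (g : Matrix.SpecialLinearGroup (Fin 2) F) (x : Fin 2 → F),
      g • Ψ x = Ψ (g.1.mulVec x) := by
  let Ψ₀ : (Fin 2 → F) →+ V := AddMonoidHom.mk' (psiF w₀) (hQ.psi_add w₀)
  have hΨ₀ : ∀ x, Ψ₀ x = psiF w₀ x := fun _ => rfl
  have hinj : Function.Injective Ψ₀ := by
    rw [injective_iff_map_eq_zero]
    intro x hx
    rw [hΨ₀, psiF] at hx
    have h1 : al (x 0) (be (1 : F) w₀) + be (x 1) w₀ = 0 + 0 := by rw [hx, add_zero]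
    obtain ⟨h2, h3⟩ := uniq hQ.uni h1 (hQ.al_fx _ _) (V0 F).zero_mem (hQ.be_fy _ _) (V1 F).zero_mem
    have hx0 : x 0 = 0 := by
      by_contra hc
      have h4 := hQ.Rf_mul (x 0)⁻¹ (x 0) hw₀
      rw [inv_mul_cancel₀ hc, hQ.Rf_one hw₀] at h4
      have h5 : Rf (x 0) w₀ = 0 := h2
      rw [h5, Rf_zero_right] at h4
      exact hne h4
    have hx1 : x 1 = 0 := by
      by_contra hc
      have h4 := hQ.al_be (x 1)⁻¹ (x 1) hw₀
      rw [inv_mul_cancel₀ hc, hQ.Rf_one hw₀, h3, al_zero_right] at h4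
      exact hne h4.symm
    funext i
    fin_cases i
    · exact hx0
    · exact hx1
  have hsurj : Function.Surjective Ψ₀ := by
    rw [← AddMonoidHom.range_eq_top]
    rcases hirr Ψ₀.range (by
      rintro g _ ⟨x, rfl⟩
      exact ⟨g.1.mulVec x, by rw [hΨ₀, hΨ₀, hQ.psi_equiv hw₀]⟩) with h | h
    · exfalso
      have h1 : Ψ₀ ![1, 0] ∈ Ψ₀.range := ⟨_, rfl⟩
      rw [h, AddSubgroup.mem_bot, hΨ₀, psiF] at h1
      simp only [Matrix.cons_val_zero, Matrix.cons_val_one, be_zero_left, add_zero] at h1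
      have h2 : Rf (1 : F) w₀ = 0 := h1
      rw [hQ.Rf_one hw₀] at h2
      exact hne h2
    · exact h
  refine ⟨AddEquiv.ofBijective Ψ₀ ⟨hinj, hsurj⟩, fun g x => ?_⟩
  exact hQ.psi_equiv hw₀ g x

end QD

/-- The Weyl conjugation of quadratic behaviour. -/
theorem ql_of_qu (hqu : ∀ (b : F) (v : V), Fx F (bU b • v - v)) (b : F) (v : V) :
    Fy F (aL b • v - v) := by
  intro a
  have h1 : (1 : F) ≠ 0 := one_ne_zero
  have h2 : (-1 : F) ≠ 0 := neg_ne_zero.mpr h1
  have hn : nnA (1 : F) h1 * nnA (-1 : F) h2 = 1 := rel_nn_inv 1 h1 h2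
  have hn' : nnA (-1 : F) h2 * nnA (1 : F) h1 = 1 := by
    have := rel_nn_inv (-1 : F) h2 (by simp)
    simpa using this
  set u := nnA (-1 : F) h2 • v with hu
  have hv : v = nnA (1 : F) h1 • u := by rw [hu, ← mul_smul, hn, one_smul]
  have e : ∀ c : F, aL c • v = nnA (1 : F) h1 • (bU (-c) • u) := by
    intro c
    rw [hv, ← mul_smul, rel_lower_nn, mul_smul]
    simp
  have e2 : aL b • v - v = nnA (1 : F) h1 • (bU (-b) • u - u) := by
    rw [e, smul_sub, ← hv]
  rw [e2]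
  exact (Fx.nn (hqu (-b) u) 1 h1) a

/-- Building the decomposition data. -/
theorem qd_of_quadratic (hirr : ∀ W : AddSubgroup V, (∀ (g : Matrix.SpecialLinearGroup (Fin 2) F), ∀ v ∈ W, g • v ∈ W) →
      W = ⊥ ∨ W = ⊤)
    (hnt : ∃ (g : Matrix.SpecialLinearGroup (Fin 2) F) (v : V), g • v ≠ v)
    (hqu : ∀ (b : F) (v : V), Fx F (bU b • v - v)) :
    QD F V ∧ ∃ w₀ : V, Fx F w₀ ∧ w₀ ≠ 0 := by
  have hql := ql_of_qu hqu
  have huni : ∀ w : V, Fx F w → Fy F w → w = 0 := by
    have hW := hirr (V0 F ⊓ V1 F) (by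
      intro g v hv
      rw [fixed_of_roots hv.1 hv.2 g]
      exact hv)
    rcases hW with h | h
    · intro w h1 h2
      have : w ∈ V0 F ⊓ V1 F := ⟨h1, h2⟩
      rw [h] at this
      exact this
    · exfalso
      obtain ⟨g, v, hgv⟩ := hnt
      have : v ∈ V0 F ⊓ V1 F := by rw [h]; trivial
      exact hgv (fixed_of_roots this.1 this.2 g)
  have hex : ∃ w₀ : V, Fx F w₀ ∧ w₀ ≠ 0 := by
    by_contra hc
    push Not at hc
    obtain ⟨g, v, hgv⟩ := hnt
    have h1 : ∀ v : V, Fx F v := by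
      intro v a
      have h2 := hc _ (hqu a v)
      exact sub_eq_zero.mp h2
    have hv0 : v ≠ 0 := by
      rintro rfl
      exact hgv (smul_zero g)
    exact hv0 (hc v (h1 v))
  refine ⟨⟨?_, huni, hqu, hql⟩, hex⟩
  obtain ⟨w₀, hw₀, hne⟩ := hex
  have hW := hirr (V0 F ⊔ V1 F) (by
    apply invariant_of_roots
    · intro a v hv
      obtain ⟨w, hw, z, hz, rfl⟩ := AddSubgroup.mem_sup.mp hv
      rw [smul_add, hw a]
      have h1 : bU a • z = (bU a • z - z) + z := by abel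
      rw [h1, ← add_assoc]
      exact AddSubgroup.add_mem_sup ((V0 F).add_mem hw (hqu a z)) hz
    · intro a v hv
      obtain ⟨w, hw, z, hz, rfl⟩ := AddSubgroup.mem_sup.mp hv
      rw [smul_add, hz a]
      have h1 : aL a • w = w + (aL a • w - w) := by abel
      rw [h1, add_assoc]
      exact AddSubgroup.add_mem_sup hw ((V1 F).add_mem (hql a w) hz))
  rcases hW with h | h
  · exfalso
    have h1 : w₀ ∈ V0 F ⊔ V1 F := AddSubgroup.mem_sup_left hw₀
    rw [h] at h1
    exact hne h1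
  · intro v
    have h1 : v ∈ V0 F ⊔ V1 F := by rw [h]; trivial
    obtain ⟨w, hw, z, hz, rfl⟩ := AddSubgroup.mem_sup.mp h1
    exact ⟨w, z, rfl, hw, hz⟩

/-- **Recognition of the natural module**. -/
theorem natural_of_quadratic
    (hirr : ∀ W : AddSubgroup V, (∀ (g : Matrix.SpecialLinearGroup (Fin 2) F), ∀ v ∈ W, g • v ∈ W) →
      W = ⊥ ∨ W = ⊤)
    (hnt : ∃ (g : Matrix.SpecialLinearGroup (Fin 2) F) (v : V), g • v ≠ v)
    (hqu : ∀ (b : F) (v : V), Fx F (bU b • v - v)) :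
    ∃ Ψ : (Fin 2 → F) ≃+ V, ∀ (g : Matrix.SpecialLinearGroup (Fin 2) F) (x : Fin 2 → F),
      g • Ψ x = Ψ (g.1.mulVec x) := by
  obtain ⟨hQ, w₀, hw₀, hne⟩ := qd_of_quadratic hirr hnt hqu
  exact hQ.natural hirr hw₀ hne

/-! ### From the order condition to quadratic action -/

variable (F) in
/-- The vectors of `C_V(U⁻)` moved by `U⁺` into `C_V(U⁺)`. -/
def V1p : AddSubgroup V where
  carrier := {z | Fy F z ∧ ∀ a : F, Fx F (bU a • z - z)}
  add_mem' := fun {x y} hx hy => ⟨(V1 F).add_mem hx.1 hy.1, fun a => by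
    have : bU a • (x + y) - (x + y) = (bU a • x - x) + (bU a • y - y) := by
      rw [smul_add]; abel
    rw [this]
    exact (V0 F).add_mem (hx.2 a) (hy.2 a)⟩
  zero_mem' := ⟨(V1 F).zero_mem, fun a => by
    simp only [smul_zero, sub_zero]
    exact (V0 F).zero_mem⟩
  neg_mem' := fun {x} hx => ⟨(V1 F).neg_mem hx.1, fun a => by
    have : bU a • (-x) - (-x) = -(bU a • x - x) := by
      rw [smul_neg]; abel
    rw [this]
    exact (V0 F).neg_mem (hx.2 a)⟩

variable (F) in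
/-- The vectors of `C_V(U⁺)` moved by `U⁻` into `C_V(U⁻)`. -/
def V0p : AddSubgroup V where
  carrier := {z | Fx F z ∧ ∀ a : F, Fy F (aL a • z - z)}
  add_mem' := fun {x y} hx hy => ⟨(V0 F).add_mem hx.1 hy.1, fun a => by
    have : aL a • (x + y) - (x + y) = (aL a • x - x) + (aL a • y - y) := by
      rw [smul_add]; abel
    rw [this]
    exact (V1 F).add_mem (hx.2 a) (hy.2 a)⟩
  zero_mem' := ⟨(V0 F).zero_mem, fun a => by
    simp only [smul_zero, sub_zero]
    exact (V1 F).zero_mem⟩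
  neg_mem' := fun {x} hx => ⟨(V0 F).neg_mem hx.1, fun a => by
    have : aL a • (-x) - (-x) = -(aL a • x - x) := by
      rw [smul_neg]; abel
    rw [this]
    exact (V1 F).neg_mem (hx.2 a)⟩

theorem nn_V1p {z : V} (hz : z ∈ V1p F (V := V)) (a : F) (ha : a ≠ 0) : nnA a ha • z ∈ V0p F (V := V) := by
  refine ⟨hz.1.nn a ha, fun b => ?_⟩
  have : aL b • nnA a ha • z - nnA a ha • z = nnA a ha • (bU (-(b * a * a)) • z - z) := by
    rw [← mul_smul, rel_lower_nn, mul_smul, smul_sub]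
  rw [this]
  exact (hz.2 _).nn a ha

theorem nn_V0p {w : V} (hw : w ∈ V0p F (V := V)) (a : F) (ha : a ≠ 0) : nnA a ha • w ∈ V1p F (V := V) := by
  refine ⟨hw.1.nn a ha, fun b => ?_⟩
  have : bU b • nnA a ha • w - nnA a ha • w = nnA a ha • (aL (-(b * a⁻¹ * a⁻¹)) • w - w) := by
    rw [← mul_smul, rel_upper_nn, mul_smul, smul_sub]
  rw [this]
  exact (hw.2 _).nn a ha

theorem step_iv (huni : ∀ w : V, Fx F w → Fy F w → w = 0) {z : V} (hz : z ∈ V1p F (V := V)) (a : F) :
    bU a • z - z ∈ V0p F (V := V) := by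
  by_cases ha : a = 0
  · subst ha
    rw [bU_zero, one_smul, sub_self]
    exact (V0p F).zero_mem
  have h1 : bU a • z = aL a⁻¹ • (nnA a ha • z) := by
    rw [rel_upper_bruhat a ha, mul_smul, mul_smul, hz.1]
  have hy := nn_V1p hz a ha
  set y₀ := nnA a ha • z with hy₀
  have h2 : (bU a • z - z) + z = y₀ + (aL a⁻¹ • y₀ - y₀) := by
    rw [h1]; abel
  have h3 := (uniq huni h2 (hz.2 a) hy.1 hz.1 (hy.2 a⁻¹)).1
  rw [h3]
  exact hy

theorem step_v (huni : ∀ w : V, Fx F w → Fy F w → w = 0) {w : V} (hw : w ∈ V0p F (V := V)) (b : F) :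
    aL b • w - w ∈ V1p F (V := V) := by
  have h1 : (1 : F) ≠ 0 := one_ne_zero
  have h2 : (-1 : F) ≠ 0 := neg_ne_zero.mpr h1
  have hn' : nnA (-1 : F) h2 * nnA (1 : F) h1 = 1 := by
    have := rel_nn_inv (-1 : F) h2 (by simp)
    simpa using this
  have hz₁ := nn_V0p hw 1 h1
  set z₁ := nnA (1 : F) h1 • w with hz₁d
  have hw' : w = nnA (-1 : F) h2 • z₁ := by rw [hz₁d, ← mul_smul, hn', one_smul]
  have e : aL b • w - w = nnA (-1 : F) h2 • (bU (-b) • z₁ - z₁) := by
    have h3 : aL b • w = nnA (-1 : F) h2 • (bU (-b) • z₁) := by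
      rw [hw', ← mul_smul, rel_lower_nn, mul_smul]
      simp
    rw [h3, smul_sub, ← hw']
  rw [e]
  exact nn_V0p (step_iv huni hz₁ _) _ _

theorem all_fixed_of_V0 (h : ∀ v : V, Fx F v) (g : Matrix.SpecialLinearGroup (Fin 2) F) (v : V) : g • v = v := by
  have h1 : (1 : F) ≠ 0 := one_ne_zero
  have h2 : (-1 : F) ≠ 0 := neg_ne_zero.mpr h1
  have hn : nnA (1 : F) h1 * nnA (-1 : F) h2 = 1 := rel_nn_inv 1 h1 h2
  have hy : ∀ v : V, Fy F v := by
    intro v
    have hv : v = nnA (1 : F) h1 • (nnA (-1 : F) h2 • v) := by rw [← mul_smul, hn, one_smul]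
    rw [hv]
    exact (h _).nn 1 h1
  exact fixed_of_roots (h v) (hy v) g

/-- The order condition gives quadratic action, given the decomposition. -/
theorem quadratic_of_dec
    (hirr : ∀ W : AddSubgroup V, (∀ (g : Matrix.SpecialLinearGroup (Fin 2) F), ∀ v ∈ W, g • v ∈ W) →
      W = ⊥ ∨ W = ⊤)
    (hnt : ∃ (g : Matrix.SpecialLinearGroup (Fin 2) F) (v : V), g • v ≠ v)
    (hdec : ∀ v : V, ∃ w z, v = w + z ∧ Fx F w ∧ Fy F z)
    (huni : ∀ w : V, Fx F w → Fy F w → w = 0)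
    (hfix : ∀ Y : AddSubgroup V, Y ≠ ⊤ → (∀ (a : F), ∀ y ∈ Y, bU a • y ∈ Y) →
      ∃ v, v ∉ Y ∧ ∀ c : F, bU c • v - v ∈ Y)
    (b : F) (v : V) : Fx F (bU b • v - v) := by
  have hV0 : V0 F (V := V) ≠ ⊤ := by
    intro h
    obtain ⟨g, v, hgv⟩ := hnt
    apply hgv
    apply all_fixed_of_V0 (F := F)
    intro u
    have : u ∈ V0 F (V := V) := by rw [h]; trivial
    exact this
  obtain ⟨v₁, hv₁, hv₁c⟩ := hfix (V0 F) hV0 (fun a y hy => by
    have h1 : bU a • y = y := hy a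
    rw [h1]
    exact hy)
  obtain ⟨w, z, e, hw, hz⟩ := hdec v₁
  have hzp : z ∈ V1p F (V := V) := by
    refine ⟨hz, fun a => ?_⟩
    have h1 := hv₁c a
    have h2 : bU a • v₁ - v₁ = bU a • z - z := by
      rw [e, smul_add, hw a]
      abel
    rw [h2] at h1
    exact h1
  have hz0 : z ≠ 0 := by
    rintro rfl
    apply hv₁
    rw [e, add_zero]
    exact hw
  have hW := hirr (V0p F ⊔ V1p F) (by
    apply invariant_of_roots
    · intro a u hu
      obtain ⟨w', hw', z', hz', rfl⟩ := AddSubgroup.mem_sup.mp hu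
      rw [smul_add, hw'.1 a]
      have h1 : bU a • z' = (bU a • z' - z') + z' := by abel
      rw [h1, ← add_assoc]
      exact AddSubgroup.add_mem_sup ((V0p F).add_mem hw' (step_iv huni hz' a)) hz'
    · intro a u hu
      obtain ⟨w', hw', z', hz', rfl⟩ := AddSubgroup.mem_sup.mp hu
      rw [smul_add, hz'.1 a]
      have h1 : aL a • w' = w' + (aL a • w' - w') := by abel
      rw [h1, add_assoc]
      exact AddSubgroup.add_mem_sup hw' ((V1p F).add_mem (step_v huni hw' a) hz'))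
  rcases hW with h | h
  · exfalso
    have h1 : z ∈ V0p F ⊔ V1p F := AddSubgroup.mem_sup_right hzp
    rw [h] at h1
    exact hz0 h1
  · have h1 : v ∈ V0p F ⊔ V1p F := by rw [h]; trivial
    obtain ⟨w', hw', z', hz', rfl⟩ := AddSubgroup.mem_sup.mp h1
    have h2 : bU b • (w' + z') - (w' + z') = bU b • z' - z' := by
      rw [smul_add, hw'.1 b]
      abel
    rw [h2]
    exact hz'.2 b

/-- The decomposition from the order condition. -/
theorem dec_of_card [Finite V] (huni : ∀ w : V, Fx F w → Fy F w → w = 0)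
    (hcard : Nat.card V ≤ Nat.card (V0 F (V := V)) ^ 2) (v : V) :
    ∃ w z, v = w + z ∧ Fx F w ∧ Fy F z := by
  have h1 : (1 : F) ≠ 0 := one_ne_zero
  have h2 : (-1 : F) ≠ 0 := neg_ne_zero.mpr h1
  have hn : nnA (1 : F) h1 * nnA (-1 : F) h2 = 1 := rel_nn_inv 1 h1 h2
  have hn' : nnA (-1 : F) h2 * nnA (1 : F) h1 = 1 := by
    have := rel_nn_inv (-1 : F) h2 (by simp)
    simpa using this
  have hcV : Nat.card (V0 F (V := V)) = Nat.card (V1 F (V := V)) := by
    refine Nat.card_congr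
      { toFun := fun w => ⟨nnA (1 : F) h1 • (w : V), Fx.nn w.2 1 h1⟩
        invFun := fun z => ⟨nnA (-1 : F) h2 • (z : V), Fy.nn z.2 (-1) h2⟩
        left_inv := fun w => Subtype.ext ?_
        right_inv := fun z => Subtype.ext ?_ }
    · show nnA (-1 : F) h2 • nnA (1 : F) h1 • (w : V) = w
      rw [← mul_smul, hn', one_smul]
    · show nnA (1 : F) h1 • nnA (-1 : F) h2 • (z : V) = z
      rw [← mul_smul, hn, one_smul]
  let f : (V0 F (V := V)) × (V1 F (V := V)) → V := fun x => (x.1 : V) + x.2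
  have hinj : Function.Injective f := by
    rintro ⟨⟨w, hw⟩, ⟨z, hz⟩⟩ ⟨⟨w', hw'⟩, ⟨z', hz'⟩⟩ h
    obtain ⟨h3, h4⟩ := uniq huni h hw hw' hz hz'
    subst h3 h4
    rfl
  have hbij := hinj.bijective_of_nat_card_le (by
    rw [Nat.card_prod, ← hcV, ← pow_two]
    exact hcard)
  obtain ⟨⟨w, z⟩, hx⟩ := hbij.2 v
  exact ⟨w, z, hx.symm, w.2, z.2⟩

/-- A `p`-group acting on an elementary abelian `p`-group acts nilpotently. -/
theorem exists_fixed_mod [Finite V] {p : ℕ} [hp : Fact p.Prime] [CharP F p] (hV : ∀ v : V, p • v = 0)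
    (Y : AddSubgroup V) (hne : Y ≠ ⊤) (hY : ∀ (a : F), ∀ y ∈ Y, bU a • y ∈ Y) :
    ∃ v, v ∉ Y ∧ ∀ c : F, bU c • v - v ∈ Y := by
  classical
  have hP : IsPGroup p (Multiplicative F) := fun g => ⟨1, by
    rw [pow_one]
    apply Multiplicative.toAdd.injective
    rw [toAdd_pow, toAdd_one, nsmul_eq_mul, CharP.cast_eq_zero, zero_mul]⟩
  let toE : F → V →+ V := fun c => DistribMulAction.toAddMonoidHom V (bU c)
  have hle : ∀ c : F, Y ≤ Y.comap (toE c) := fun c y hy => hY c y hy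
  let act : Multiplicative F → (V ⧸ Y) → (V ⧸ Y) := fun c q =>
    QuotientAddGroup.map Y Y (toE (Multiplicative.toAdd c)) (hle _) q
  letI : MulAction (Multiplicative F) (V ⧸ Y) :=
    { smul := act
      one_smul := fun q => by
        induction q using QuotientAddGroup.induction_on with
        | H v =>
          show ((bU (0 : F) • v : V) : V ⧸ Y) = v
          rw [bU_zero, one_smul]
      mul_smul := fun a b q => by
        induction q using QuotientAddGroup.induction_on with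
        | H v =>
          show ((bU (Multiplicative.toAdd a + Multiplicative.toAdd b) • v : V) : V ⧸ Y) =
            ((bU (Multiplicative.toAdd a) • bU (Multiplicative.toAdd b) • v : V) : V ⧸ Y)
          rw [← mul_smul, bU_mul] }
  have hsm : ∀ (c : Multiplicative F) (v : V), c • (v : V ⧸ Y) = ((bU (Multiplicative.toAdd c) • v : V) : V ⧸ Y) :=
    fun _ _ => rfl
  obtain ⟨v₀, hv₀⟩ : ∃ v, v ∉ Y := by
    by_contra hc
    push Not at hc
    exact hne (eq_top_iff.mpr fun v _ => hc v)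
  have hq0 : (v₀ : V ⧸ Y) ≠ 0 := fun h => hv₀ ((QuotientAddGroup.eq_zero_iff v₀).mp h)
  have hcard : p ∣ Nat.card (V ⧸ Y) := by
    have h1 : addOrderOf (v₀ : V ⧸ Y) = p := by
      apply addOrderOf_eq_prime
      · rw [← QuotientAddGroup.mk_nsmul, hV, QuotientAddGroup.mk_zero]
      · exact hq0
    rw [← h1]
    exact addOrderOf_dvd_natCard _
  have hfix0 : (0 : V ⧸ Y) ∈ MulAction.fixedPoints (Multiplicative F) (V ⧸ Y) := by
    intro c
    have := hsm c 0
    rw [smul_zero] at this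
    exact this
  obtain ⟨b, hb, hb0⟩ := hP.exists_fixed_point_of_prime_dvd_card_of_fixed_point (V ⧸ Y) hcard hfix0
  obtain ⟨v, rfl⟩ := QuotientAddGroup.mk_surjective b
  refine ⟨v, fun h => hb0 ((QuotientAddGroup.eq_zero_iff v).mpr h).symm, fun c => ?_⟩
  have h1 := hb (Multiplicative.ofAdd c)
  rw [hsm] at h1
  have h2 := (QuotientAddGroup.eq_iff_sub_mem).mp h1
  exact h2

/-- Quadratic action from the order condition. -/
theorem quadratic_of_card [Finite V] {p : ℕ} [hp : Fact p.Prime] [CharP F p] (hV : ∀ v : V, p • v = 0)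
    (hirr : ∀ W : AddSubgroup V, (∀ (g : Matrix.SpecialLinearGroup (Fin 2) F), ∀ v ∈ W, g • v ∈ W) →
      W = ⊥ ∨ W = ⊤)
    (hnt : ∃ (g : Matrix.SpecialLinearGroup (Fin 2) F) (v : V), g • v ≠ v)
    (hcard : Nat.card V ≤ Nat.card (V0 F (V := V)) ^ 2)
    (b : F) (v : V) : Fx F (bU b • v - v) := by
  have huni : ∀ w : V, Fx F w → Fy F w → w = 0 := by
    have hW := hirr (V0 F ⊓ V1 F) (by
      intro g v hv
      rw [fixed_of_roots hv.1 hv.2 g]
      exact hv)
    rcases hW with h | h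
    · intro w h1 h2
      have : w ∈ V0 F ⊓ V1 F := ⟨h1, h2⟩
      rw [h] at this
      exact this
    · exfalso
      obtain ⟨g, v, hgv⟩ := hnt
      have : v ∈ V0 F ⊓ V1 F := by rw [h]; trivial
      exact hgv (fixed_of_roots this.1 this.2 g)
  exact quadratic_of_dec hirr hnt (dec_of_card huni hcard) huni
    (fun Y hY h => exists_fixed_mod hV Y hY h) b v

end Act

end Cfsg.Agent.Lib.LocalEven2.NatSL2
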