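import Cfsg.Prelude.Def_BaumannBlocks
import Cfsg.Agent.Lib.OddLocal.Thompson
import Cfsg.Agent.Lib.PLocal.ThompsonMap
import Cfsg.Agent.Lib.LocalEven.PClosed
import Cfsg.Agent.Lib.LocalEven.WeakClosed
import Cfsg.Agent.Lib.LocalEven2.Sylow
import Cfsg.Agent.Lib.Struct.Basic

/-!
# Baumann blocks: `B(T)` under conjugation; invariant `p`-subgroups normalize a block
-/

set_option autoImplicit false
set_option linter.unusedSectionVars false
set_option linter.unusedVariables false

namespace Cfsg.Agent.Lib.LocalEven2.BB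

open Subgroup Cfsg Cfsg.Agent.Lib.PLocal
open Cfsg.Agent.Lib.OddLocal (MaxEA thompsonSubgroupOf_eq le_thompsonSubgroupOf mem_centerThompsonOf)
open Cfsg.Agent.Lib.LocalEven (cj cj_inv_cj cj_cj_inv le_cj_iff cj_mono isPGroup_cj card_cj mem_cj cj_eq_of_mem_normalizer)
open scoped commutatorElement

variable {G : Type*} [Group G] {p : ℕ} [Finite G] [Fact p.Prime]

theorem centralizer_cj (g : G) (X : Subgroup G) :
    centralizer (cj g X : Set G) = cj g (centralizer (X : Set G)) := by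
  ext x
  rw [mem_cj, Subgroup.mem_centralizer_iff, Subgroup.mem_centralizer_iff]
  constructor
  · intro h y hy
    have h1 := h (g * y * g⁻¹) (by
      show g * y * g⁻¹ ∈ cj g X
      rw [mem_cj]; simpa [mul_assoc] using hy)
    have : y * (g⁻¹ * x * g) = g⁻¹ * (g * y * g⁻¹ * x) * g := by group
    rw [this, h1]; group
  · intro h y hy
    have hy' : g⁻¹ * y * g ∈ X := mem_cj.1 hy
    have h1 := h _ hy'
    have : y * x = g * (g⁻¹ * y * g * (g⁻¹ * x * g)) * g⁻¹ := by group
    rw [this, h1]; group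

theorem inf_cj (g : G) (X Y : Subgroup G) : cj g (X ⊓ Y) = cj g X ⊓ cj g Y := by
  ext x; simp only [mem_cj, Subgroup.mem_inf]

theorem omegaOne_cj (g : G) (X : Subgroup G) : omegaOne p (cj g X) = cj g (omegaOne p X) := by
  have key : ∀ (g : G) (X : Subgroup G), cj g (omegaOne p X) ≤ omegaOne p (cj g X) := by
    intro g X
    unfold cj omegaOne
    rw [Subgroup.map_le_iff_le_comap, Subgroup.closure_le]
    rintro x ⟨hx1, hx2⟩
    apply Subgroup.subset_closure
    refine ⟨⟨x, hx1, rfl⟩, ?_⟩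
    show (g * x * g⁻¹) ^ p = 1
    rw [conj_pow, hx2]; group
  apply le_antisymm _ (key g X)
  rw [le_cj_iff]
  have := key g⁻¹ (cj g X)
  rwa [cj_inv_cj] at this

theorem thompson_cj (g : G) (T : Subgroup G) : thompsonSubgroupOf p (cj g T) = cj g (thompsonSubgroupOf p T) :=
  (Cfsg.Agent.Lib.PLocal.thompsonOf_conj T g).symm

theorem centerThompson_cj (g : G) (T : Subgroup G) :
    centerThompsonOf p (cj g T) = cj g (centerThompsonOf p T) := by
  unfold centerThompsonOf
  rw [thompson_cj, inf_cj, centralizer_cj]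

theorem baumann_cj (g : G) (T : Subgroup G) :
    baumannSubgroupOf p (cj g T) = cj g (baumannSubgroupOf p T) := by
  unfold baumannSubgroupOf
  rw [inf_cj, centerThompson_cj, omegaOne_cj, centralizer_cj]

theorem thompson_le (T : Subgroup G) : thompsonSubgroupOf p T ≤ T := by
  rintro _ ⟨x, _, rfl⟩
  exact x.2

theorem centerThompson_le (T : Subgroup G) : centerThompsonOf p T ≤ thompsonSubgroupOf p T := inf_le_left

theorem omegaOne_le (X : Subgroup G) : omegaOne p X ≤ X := by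
  unfold omegaOne
  rw [Subgroup.closure_le]
  exact fun x hx => hx.1

theorem thompson_le_baumann (T : Subgroup G) : thompsonSubgroupOf p T ≤ baumannSubgroupOf p T := by
  intro x hx
  refine ⟨thompson_le T hx, ?_⟩
  show x ∈ centralizer _
  rw [Subgroup.mem_centralizer_iff]
  intro z hz
  have hz' : z ∈ centerThompsonOf p T := omegaOne_le _ hz
  exact ((mem_centerThompsonOf.1 hz').2 x hx).symm

/-- An elementary abelian subgroup under conjugation. -/
theorem isElementaryAbelian_cj {A : Subgroup G} (g : G) (hA : IsElementaryAbelian p A) :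
    IsElementaryAbelian p (cj g A) :=
  Cfsg.Agent.Lib.OddLocal.isElementaryAbelian_map _ hA

/-- Two Sylow subgroups `T, T₂` with `J(T) ≤ T₂` have the same Thompson subgroup. -/
theorem thompson_eq_of_le (T T₂ : Sylow p G) (h : thompsonSubgroupOf p (T : Subgroup G) ≤ T₂) :
    thompsonSubgroupOf p (T : Subgroup G) = thompsonSubgroupOf p (T₂ : Subgroup G) := by
  obtain ⟨g, hg⟩ := MulAction.exists_smul_eq G T₂ T
  have hT : (T : Subgroup G) = cj g (T₂ : Subgroup G) := by
    rw [← hg]; rfl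
  have hT' : (T₂ : Subgroup G) = cj g⁻¹ (T : Subgroup G) := by
    rw [hT, cj_inv_cj]
  apply Subgroup.eq_of_le_of_card_ge
  · rw [thompsonSubgroupOf_eq p (T : Subgroup G), sSup_le_iff]
    intro A hA
    apply le_thompsonSubgroupOf
    refine ⟨(le_thompsonSubgroupOf hA).trans h, hA.2.1, fun B hB hBe => ?_⟩
    have h1 := hA.2.2 (cj g B) (by rw [hT]; exact cj_mono hB) (isElementaryAbelian_cj g hBe)
    rwa [card_cj] at h1
  · rw [hT, thompson_cj, card_cj]

/-- `B(T)` for two Sylow subgroups with `B(T) ≤ T₂`. -/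
theorem baumann_eq_of_le (T T₂ : Sylow p G) (h : baumannSubgroupOf p (T : Subgroup G) ≤ T₂) :
    baumannSubgroupOf p (T : Subgroup G) = baumannSubgroupOf p (T₂ : Subgroup G) := by
  have hJ := thompson_eq_of_le T T₂ ((thompson_le_baumann _).trans h)
  obtain ⟨g, hg⟩ := MulAction.exists_smul_eq G T T₂
  have hT : (T₂ : Subgroup G) = cj g (T : Subgroup G) := by
    rw [← hg]; rfl
  apply Subgroup.eq_of_le_of_card_ge
  · intro x hx
    refine ⟨h hx, ?_⟩
    have := hx.2
    unfold centerThompsonOf at this ⊢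
    rwa [← hJ]
  · rw [hT, baumann_cj, card_cj]

/-- A Sylow subgroup normalizes its `B`. -/
theorem sylow_le_normalizer_baumann (T : Subgroup G) :
    ∀ t ∈ T, t ∈ normalizer (baumannSubgroupOf p T : Set G) := by
  intro t ht
  rw [← Cfsg.Agent.Lib.Coprime.conj_map_eq_iff_mem_normalizer]
  have h1 : cj t T = T := cj_eq_of_mem_normalizer (Subgroup.le_normalizer ht)
  have h2 := baumann_cj (p := p) t T
  rw [h1] at h2
  exact h2.symm

/-- Three subgroups lemma modulo a subgroup normalized by the three. -/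
theorem three_mod {N H₁ H₂ H₃ : Subgroup G} (n₁ : H₁ ≤ normalizer (N : Set G))
    (n₂ : H₂ ≤ normalizer (N : Set G)) (n₃ : H₃ ≤ normalizer (N : Set G))
    (h1 : ⁅⁅H₂, H₃⁆, H₁⁆ ≤ N) (h2 : ⁅⁅H₃, H₁⁆, H₂⁆ ≤ N) : ⁅⁅H₁, H₂⁆, H₃⁆ ≤ N := by
  set Γ : Subgroup G := normalizer (N : Set G) with hΓ
  haveI : (N.subgroupOf Γ).Normal := Subgroup.normal_in_normalizer
  have emap : ∀ {H : Subgroup G}, H ≤ Γ → (H.subgroupOf Γ).map Γ.subtype = H := by
    intro H hH
    rw [Subgroup.subgroupOf_map_subtype, inf_eq_left.2 hH]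
  have key : ∀ {A B C : Subgroup G}, A ≤ Γ → B ≤ Γ → C ≤ Γ → ⁅⁅A, B⁆, C⁆ ≤ N →
      ⁅⁅A.subgroupOf Γ, B.subgroupOf Γ⁆, C.subgroupOf Γ⁆ ≤ N.subgroupOf Γ := by
    intro A B C hA hB hC h
    show _ ≤ N.comap Γ.subtype
    rw [← Subgroup.map_le_iff_le_comap, Subgroup.map_commutator, Subgroup.map_commutator,
      emap hA, emap hB, emap hC]
    exact h
  have h3 := Cfsg.Agent.Lib.Struct.three_subgroups (key n₂ n₃ n₁ h1) (key n₃ n₁ n₂ h2)
  have h4 := Subgroup.map_mono (f := Γ.subtype) h3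
  rw [Subgroup.map_commutator, Subgroup.map_commutator, emap n₁, emap n₂, emap n₃] at h4
  refine h4.trans ?_
  rw [Subgroup.subgroupOf_map_subtype]
  exact inf_le_left

/-- `[A, B] ≤ B` when `A` normalizes `B`. -/
theorem commutator_le_right_of_norm {A B : Subgroup G} (h : A ≤ normalizer (B : Set G)) : ⁅A, B⁆ ≤ B := by
  rw [Subgroup.commutator_le]
  intro a ha b hb
  have h1 : a * b * a⁻¹ ∈ B := (Subgroup.mem_normalizer_iff.1 (h ha) b).1 hb
  have : ⁅a, b⁆ = a * b * a⁻¹ * b⁻¹ := rfl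
  rw [this]
  exact B.mul_mem h1 (B.inv_mem hb)

/-- `[A, B] ≤ A` when `B` normalizes `A`. -/
theorem commutator_le_left_of_norm {A B : Subgroup G} (h : B ≤ normalizer (A : Set G)) : ⁅A, B⁆ ≤ A := by
  rw [Subgroup.commutator_comm]
  exact commutator_le_right_of_norm h

/-- If `⁅E, B⁆ = E` then `B` normalizes `E`. -/
theorem le_normalizer_of_commutator_eq {E B : Subgroup G} (h : ⁅E, B⁆ = E) : B ≤ normalizer (E : Set G) := by
  intro b hb
  apply Cfsg.Agent.Lib.Coprime.mem_normalizer_of_conj_le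
  intro e he
  have h1 : ⁅e⁻¹, b⁆ ∈ ⁅E, B⁆ := Subgroup.commutator_mem_commutator (E.inv_mem he) hb
  rw [h] at h1
  have : b * e * b⁻¹ = e * ⁅e⁻¹, b⁆ := by
    show b * e * b⁻¹ = e * (e⁻¹ * b * e⁻¹⁻¹ * b⁻¹)
    group
  rw [this]
  exact E.mul_mem he h1

/-- Conjugates of the generators of `O^p(E)`. -/
theorem conj_le_of_residual {E : Subgroup G} (hres : pResidualOf p E = E) {y : G}
    (hy : ∀ x ∈ E, (orderOf x).Coprime p → y * x * y⁻¹ ∈ E) : y ∈ normalizer (E : Set G) := by
  apply Cfsg.Agent.Lib.Coprime.mem_normalizer_of_conj_le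
  have : E ≤ E.comap (MulAut.conj y).toMonoidHom := by
    conv_lhs => rw [← hres]
    rw [pResidualOf, pResidual, MonoidHom.map_closure, Subgroup.closure_le]
    rintro _ ⟨x, hx, rfl⟩
    show y * (x : G) * y⁻¹ ∈ E
    apply hy _ x.2
    have : orderOf (x : G) = orderOf x := Subgroup.orderOf_coe x
    rw [this]
    exact hx
  intro x hx
  exact this hx

/-- **Invariant `p`-subgroups normalize a block** (the elementary form). -/
theorem norm_of_invariant (T : Sylow p G) {E H : Subgroup G} (hres : pResidualOf p E = E)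
    (hEB : ⁅E, baumannSubgroupOf p (T : Subgroup G)⁆ = E) (hH : IsPGroup p H)
    (hBH : baumannSubgroupOf p (T : Subgroup G) ≤ normalizer (H : Set G))
    (hEH : E ≤ normalizer (H : Set G)) : H ≤ normalizer (E : Set G) := by
  set B := baumannSubgroupOf p (T : Subgroup G) with hB
  have hBE : B ≤ normalizer (E : Set G) := le_normalizer_of_commutator_eq hEB
  have hBp : IsPGroup p B := T.isPGroup'.to_le inf_le_left
  obtain ⟨T₂, hT₂⟩ := (IsPGroup.to_sup_of_normal_left' hH hBp hBH).exists_le_sylow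
  have hBT₂ : B ≤ T₂ := le_sup_right.trans hT₂
  have hHT₂ : H ≤ T₂ := le_sup_left.trans hT₂
  have hBeq := baumann_eq_of_le T T₂ hBT₂
  have hHB : H ≤ normalizer (B : Set G) := by
    intro h hh
    rw [hB, hBeq]
    exact sylow_le_normalizer_baumann _ h (hHT₂ hh)
  set C : Subgroup G := H ⊓ normalizer (E : Set G) with hC
  by_contra hne
  have hCH : C < H := lt_of_le_of_ne inf_le_left (fun h => hne (by rw [← h]; exact inf_le_right))
  obtain ⟨y, hy, hyC⟩ := SetLike.exists_of_lt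
    (Cfsg.Agent.Lib.LocalEven2.lt_inf_normalizer_of_lt hH hCH)
  have hnorm_C : ∀ x, x ∈ normalizer (H : Set G) → x ∈ normalizer (E : Set G) → x ∈ normalizer (C : Set G) := by
    intro x hx1 hx2
    apply Cfsg.Agent.Lib.Coprime.mem_normalizer_of_conj_le
    intro c hc
    refine ⟨(Subgroup.mem_normalizer_iff.1 hx1 c).1 hc.1, ?_⟩
    exact Subgroup.mul_mem _ (Subgroup.mul_mem _ hx2 hc.2) (Subgroup.inv_mem _ hx2)
  set D : Subgroup G := H ⊓ normalizer (C : Set G) with hD
  have hyD : y ∈ D := hy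
  have hEC : E ≤ normalizer (C : Set G) := fun e he => hnorm_C e (hEH he) (Subgroup.le_normalizer he)
  have hBC : B ≤ normalizer (C : Set G) := fun b hb => hnorm_C b (hBH hb) (hBE hb)
  have hDC : D ≤ normalizer (C : Set G) := inf_le_right
  have hED : E ≤ normalizer (D : Set G) := by
    intro e he
    apply Cfsg.Agent.Lib.Coprime.mem_normalizer_of_conj_le
    intro d hd
    refine ⟨(Subgroup.mem_normalizer_iff.1 (hEH he) d).1 hd.1, ?_⟩
    exact Subgroup.mul_mem _ (Subgroup.mul_mem _ (hEC he) hd.2) (Subgroup.inv_mem _ (hEC he))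
  have hBHC : ⁅B, D⁆ ≤ C := by
    have h1 : ⁅B, D⁆ ≤ H := (Subgroup.commutator_mono le_rfl inf_le_left).trans (commutator_le_right_of_norm hBH)
    have h2 : ⁅B, D⁆ ≤ B := (Subgroup.commutator_mono le_rfl (inf_le_left.trans le_rfl)).trans
      (commutator_le_left_of_norm hHB)
    exact le_inf h1 (h2.trans hBE)
  have hCE : ⁅C, E⁆ ≤ C := commutator_le_left_of_norm hEC
  have h1 : ⁅⁅B, D⁆, E⁆ ≤ C := (Subgroup.commutator_mono hBHC le_rfl).trans hCE
  have h2 : ⁅⁅D, E⁆, B⁆ ≤ C := by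
    have h3 : ⁅D, E⁆ ≤ D := commutator_le_left_of_norm hED
    refine (Subgroup.commutator_mono h3 le_rfl).trans ?_
    rw [Subgroup.commutator_comm]
    exact hBHC
  have h3 := three_mod hEC hBC hDC h1 h2
  rw [hEB] at h3
  have hCp : IsPGroup p C := hH.to_le inf_le_left
  have hCnE : C ≤ normalizer (E : Set G) := inf_le_right
  apply hyC
  refine ⟨hy.1, ?_⟩
  apply conj_le_of_residual hres
  intro x hx hcop
  have h4 : y * x * y⁻¹ * x⁻¹ ∈ C := by
    have : ⁅x, y⁆ ∈ ⁅E, D⁆ := Subgroup.commutator_mem_commutator hx hyD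
    have h5 := h3 this
    have h6 : y * x * y⁻¹ * x⁻¹ = ⁅x, y⁆⁻¹ := by
      rw [commutatorElement_inv]; rfl
    rw [h6]
    exact C.inv_mem h5
  have h5 : y * x * y⁻¹ ∈ E ⊔ C := by
    have : y * x * y⁻¹ = (y * x * y⁻¹ * x⁻¹) * x := by group
    rw [this]
    exact (E ⊔ C).mul_mem (Subgroup.mem_sup_right h4) (Subgroup.mem_sup_left hx)
  refine Cfsg.Agent.Lib.LocalEven.coprime_mem_of_mem_sup hCnE hCp h5 ?_
  rw [Cfsg.Agent.Lib.LocalEven.orderOf_conj_eq]
  exact hcop

end Cfsg.Agent.Lib.LocalEven2.BB
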