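import Cfsg.Agent.Lib.LocalEven2.BB1
import Cfsg.Agent.Lib.LocalEven2.BB2
import Cfsg.Agent.Lib.LocalEven.Asym2
import Cfsg.Agent.Lib.LocalEven.Kieler

/-!
# Baumann blocks: the module data; `E = O^p(E O_p(G))`, `W_E ≤ Ω₁ Z(O_p(G))`, `[W_E, J(T)] ≠ 1`
-/

set_option autoImplicit false
set_option linter.unusedSectionVars false
set_option linter.unusedVariables false

namespace Cfsg.Agent.Lib.LocalEven2.BB

open Subgroup Cfsg Cfsg.Agent.Lib.PLocal
open Cfsg.Agent.Lib.LocalEven2.S50 (SL2 uu vv)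
open Cfsg.Agent.Lib.OddLocal (MaxEA thompsonSubgroupOf_eq le_thompsonSubgroupOf mem_centerThompsonOf mem_of_MaxEA MaxEA_nonempty)
open Cfsg.Agent.Lib.LocalEven (cj cj_inv_cj cj_cj_inv le_cj_iff cj_mono isPGroup_cj card_cj mem_cj cj_eq_of_mem_normalizer
  pCoreOf_le pCoreOf_isPGroup le_normalizer_pCoreOf le_pCoreOf pCoreOf_cj)
open scoped commutatorElement

variable {G : Type*} [Group G] {p : ℕ}

/-- The module data of a block. -/
structure ModData (E W Z : Subgroup G) : Prop where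
  hle : Z ≤ W
  hne : Z ≠ W
  irr : ∀ W₁ : Subgroup G, Z ≤ W₁ → W₁ ≤ W → Z ≠ W₁ → E ≤ normalizer (W₁ : Set G) → W₁ = W
  nontriv : ¬ ⁅W, E⁆ ≤ Z

/-- The generic irreducibility step. -/
theorem irr_generic {V : Type*} [AddCommGroup V] {E W Z W₁ : Subgroup G} (ψ : ↥W →* Multiplicative V)
    (hker : ∀ u : ↥W, ψ u = 1 ↔ (u : G) ∈ Z) (hZ₁ : Z ≤ W₁) (hW₁ : W₁ ≤ W) (hne : Z ≠ W₁)
    (hall : ∀ S : AddSubgroup V, (∃ u : ↥W, Multiplicative.toAdd (ψ u) ∈ S ∧ Multiplicative.toAdd (ψ u) ≠ 0) →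
       (∀ (e : ↥E) (u w : ↥W), (w : G) = e * u * (e : G)⁻¹ →
          Multiplicative.toAdd (ψ u) ∈ S → Multiplicative.toAdd (ψ w) ∈ S) →
       ∀ u : ↥W, Multiplicative.toAdd (ψ u) ∈ S)
    (hEW₁ : E ≤ normalizer (W₁ : Set G)) : W₁ = W := by
  let S : AddSubgroup V :=
    { carrier := {v | ∃ u : ↥W, (u : G) ∈ W₁ ∧ Multiplicative.toAdd (ψ u) = v}
      zero_mem' := ⟨1, W₁.one_mem, by simp⟩
      add_mem' := by
        rintro _ _ ⟨u, hu, rfl⟩ ⟨v, hv, rfl⟩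
        exact ⟨u * v, W₁.mul_mem hu hv, by simp⟩
      neg_mem' := by
        rintro _ ⟨u, hu, rfl⟩
        exact ⟨u⁻¹, W₁.inv_mem hu, by simp⟩ }
  have hmem : ∀ u : ↥W, Multiplicative.toAdd (ψ u) ∈ S → (u : G) ∈ W₁ := by
    rintro u ⟨u₁, hu₁, e⟩
    have h1 : ψ u₁ = ψ u := Multiplicative.toAdd.injective e
    have h2 : ψ (u * u₁⁻¹) = 1 := by rw [map_mul, map_inv, h1, mul_inv_cancel]
    have h3 := hZ₁ ((hker _).1 h2)
    have h4 : (u : G) = ((u * u₁⁻¹ : ↥W) : G) * u₁ := by simp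
    rw [h4]
    exact W₁.mul_mem h3 hu₁
  obtain ⟨x, hx, hxZ⟩ := SetLike.exists_of_lt (lt_of_le_of_ne hZ₁ hne)
  have h1 := hall S ⟨⟨x, hW₁ hx⟩, ⟨_, hx, rfl⟩, fun h => hxZ ((hker ⟨x, hW₁ hx⟩).1 (Multiplicative.toAdd.injective h))⟩
    (fun e u w hw hu => ⟨w, by
      rw [hw]
      exact (Subgroup.mem_normalizer_iff.1 (hEW₁ e.2) _).1 (hmem u hu), rfl⟩)
  apply le_antisymm hW₁
  intro y hy
  exact hmem ⟨y, hy⟩ (h1 ⟨y, hy⟩)

theorem modData_linear {F : Type*} [Field F] [Fintype F] {E W Z : Subgroup G}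
    (h : ActsAsSL2OnSection F (commutator (Matrix.SpecialLinearGroup (Fin 2) F)) E W Z) : ModData E W Z := by
  obtain ⟨hEW, hZW, ρ, ψ, hρ, hsurj, hker, hequiv⟩ := h
  have hrange : ∀ g ∈ commutator (SL2 F), ∃ e : ↥E, ρ e = g := by
    intro g hg
    rw [← hρ] at hg
    exact hg
  have hsurj' : ∀ v : Fin 2 → F, ∃ u : ↥W, Multiplicative.toAdd (ψ u) = v := by
    intro v
    obtain ⟨u, hu⟩ := hsurj (Multiplicative.ofAdd v)
    exact ⟨u, by rw [hu]; rfl⟩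
  refine ⟨hZW, ?_, ?_, ?_⟩
  · intro hZ
    obtain ⟨u, hu⟩ := hsurj' ![1, 0]
    have h1 : ψ u = 1 := (hker u).2 (by rw [hZ]; exact u.2)
    rw [h1] at hu
    have h2 := congrFun hu 0
    simp at h2
  · intro W₁ hZ₁ hW₁ hne hEW₁
    refine irr_generic ψ hker hZ₁ hW₁ hne ?_ hEW₁
    rintro S ⟨u, hu, hu0⟩ hinv u'
    refine sl2_irr S ⟨_, hu, hu0⟩ ?_ _
    intro g hg v hv
    obtain ⟨e, rfl⟩ := hrange g hg
    obtain ⟨u₀, rfl⟩ := hsurj' v
    obtain ⟨w₀, hw₀, hw₀'⟩ := hequiv e u₀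
    rw [← hw₀']
    exact hinv e u₀ w₀ hw₀ hv
  · intro hle
    have hc : ⁅uu (1 : F), vv (1 : F)⁆ ∈ commutator (SL2 F) := Subgroup.commutator_mem_commutator trivial trivial
    obtain ⟨e, he⟩ := hrange _ hc
    obtain ⟨u₀, hu₀⟩ := hsurj' ![1, 0]
    obtain ⟨w₀, hw₀, hw₀'⟩ := hequiv e u₀
    have h1 : ⁅(u₀ : G), (e : G)⁆ ∈ Z := hle (Subgroup.commutator_mem_commutator u₀.2 e.2)
    have h2 : ψ (u₀ * w₀⁻¹) = 1 := by
      rw [hker]
      convert h1 using 1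
      rw [commutatorElement_def]
      simp only [Subgroup.coe_mul, Subgroup.coe_inv, hw₀]
      group
    have h3 : ψ u₀ = ψ w₀ := by
      rw [map_mul, map_inv] at h2
      exact mul_inv_eq_one.1 h2
    have h4 := hw₀'
    rw [← h3, hu₀, he, cc_coe, mv2] at h4
    have h5 := congrFun h4 1
    simp at h5

theorem modData_alt {m : ℕ} (hm : m ≠ 0) {E W Z : Subgroup G}
    (h : ActsAsOddPermModuleOnSection (2 * m + 1) (alternatingGroup (Fin (2 * m + 1))) E W Z) : ModData E W Z := by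
  classical
  obtain ⟨hEW, hZW, ρ, ψ, hρ, hsum, hsurj, hker, hequiv⟩ := h
  have hodd : Odd (2 * m + 1) := ⟨m, rfl⟩
  have hrange : ∀ g ∈ alternatingGroup (Fin (2 * m + 1)), ∃ e : ↥E, ρ e = g := by
    intro g hg
    rw [← hρ] at hg
    exact hg
  have hn : 3 ≤ 2 * m + 1 := by omega
  let i₀ : Fin (2 * m + 1) := ⟨0, by omega⟩
  let i₁ : Fin (2 * m + 1) := ⟨1, by omega⟩
  let i₂ : Fin (2 * m + 1) := ⟨2, by omega⟩
  have h01 : i₀ ≠ i₁ := by simp [i₀, i₁, Fin.ext_iff]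
  have h12 : i₁ ≠ i₂ := by simp [i₁, i₂, Fin.ext_iff]
  have h02 : i₀ ≠ i₂ := by simp [i₀, i₂, Fin.ext_iff]
  refine ⟨hZW, ?_, ?_, ?_⟩
  · intro hZ
    obtain ⟨u, hu⟩ := hsurj (pv i₀ i₁) (pv_sum _ _)
    have h1 : ψ u = 1 := (hker u).2 (by rw [hZ]; exact u.2)
    rw [h1] at hu
    have h2 := congrFun hu i₀
    rw [pv_apply, if_pos rfl, if_neg h01] at h2
    simp at h2
  · intro W₁ hZ₁ hW₁ hne hEW₁
    refine irr_generic ψ hker hZ₁ hW₁ hne ?_ hEW₁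
    rintro S ⟨u, hu, hu0⟩ hinv u'
    refine alt_irr hodd S hu hu0 (hsum u) ?_ _ (hsum u')
    intro g hg v hv hvS
    obtain ⟨e, rfl⟩ := hrange g hg
    obtain ⟨u₀, rfl⟩ := hsurj v hv
    obtain ⟨w₀, hw₀, hw₀'⟩ := hequiv e u₀
    have : (fun i => Multiplicative.toAdd (ψ u₀) ((ρ e)⁻¹ i)) = Multiplicative.toAdd (ψ w₀) := by
      ext i; rw [hw₀']
    rw [this]
    exact hinv e u₀ w₀ hw₀ hvS
  · intro hle
    set σ : Equiv.Perm (Fin (2 * m + 1)) := Equiv.swap i₀ i₁ * Equiv.swap i₁ i₂ with hσ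
    have hσm : σ ∈ alternatingGroup (Fin (2 * m + 1)) := by
      rw [Equiv.Perm.mem_alternatingGroup, hσ, Equiv.Perm.sign_mul, Equiv.Perm.sign_swap h01,
        Equiv.Perm.sign_swap h12]
      simp
    obtain ⟨e, he⟩ := hrange _ hσm
    obtain ⟨u₀, hu₀⟩ := hsurj (pv i₀ i₁) (pv_sum _ _)
    obtain ⟨w₀, hw₀, hw₀'⟩ := hequiv e u₀
    have h1 : ⁅(u₀ : G), (e : G)⁆ ∈ Z := hle (Subgroup.commutator_mem_commutator u₀.2 e.2)
    have h2 : ψ (u₀ * w₀⁻¹) = 1 := by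
      rw [hker]
      convert h1 using 1
      rw [commutatorElement_def]
      simp only [Subgroup.coe_mul, Subgroup.coe_inv, hw₀]
      group
    have h3 : ψ u₀ = ψ w₀ := by
      rw [map_mul, map_inv] at h2
      exact mul_inv_eq_one.1 h2
    have h4 := hw₀' i₂
    rw [← h3, hu₀, he] at h4
    have hinvσ : σ⁻¹ = Equiv.swap i₁ i₂ * Equiv.swap i₀ i₁ := by
      rw [hσ, _root_.mul_inv_rev, Equiv.swap_inv, Equiv.swap_inv]
    rw [hinvσ, Equiv.Perm.coe_mul, Function.comp_apply, Equiv.swap_apply_of_ne_of_ne h02.symm h12.symm,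
      Equiv.swap_apply_right, pv_apply, pv_apply, if_neg h02.symm, if_neg h12.symm, if_neg h01.symm, if_pos rfl] at h4
    simp at h4

variable [Finite G] [Fact p.Prime]

/-- Elements of `Ω₁(Z(X))`. -/
theorem mem_omegaOneCenter_iff {X : Subgroup G} {x : G} :
    x ∈ omegaOneCenter p X ↔ x ∈ X ∧ (∀ y ∈ X, y * x = x * y) ∧ x ^ p = 1 := by
  constructor
  · intro hx
    unfold omegaOneCenter omegaOne at hx
    induction hx using Subgroup.closure_induction with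
    | mem a ha =>
      obtain ⟨h1, h2⟩ := ha
      exact ⟨h1.1, Subgroup.mem_centralizer_iff.1 h1.2, h2⟩
    | one => exact ⟨X.one_mem, by simp, by simp⟩
    | mul a b _ _ ha hb =>
      obtain ⟨a1, a2, a3⟩ := ha
      obtain ⟨b1, b2, b3⟩ := hb
      have hcomm : Commute a b := (a2 b b1).symm
      refine ⟨X.mul_mem a1 b1, ?_, ?_⟩
      · intro y hy
        rw [← mul_assoc, a2 y hy, mul_assoc, b2 y hy, ← mul_assoc]
      · rw [hcomm.mul_pow, a3, b3, one_mul]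
    | inv a _ ha =>
      obtain ⟨a1, a2, a3⟩ := ha
      refine ⟨X.inv_mem a1, ?_, ?_⟩
      · intro y hy
        exact ((show Commute y a from a2 y hy).inv_right).eq
      · rw [inv_pow, a3, inv_one]
  · rintro ⟨h1, h2, h3⟩
    exact Subgroup.subset_closure ⟨⟨h1, Subgroup.mem_centralizer_iff.2 h2⟩, h3⟩

theorem omegaOneCenter_le (X : Subgroup G) : omegaOneCenter p X ≤ X := fun _ hx => (mem_omegaOneCenter_iff.1 hx).1

theorem omegaOneCenter_cj (g : G) (X : Subgroup G) : omegaOneCenter p (cj g X) = cj g (omegaOneCenter p X) := by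
  unfold omegaOneCenter
  rw [centralizer_cj, ← inf_cj, omegaOne_cj]

theorem norm_omega {X : Subgroup G} {g : G} (hg : g ∈ normalizer (X : Set G)) :
    g ∈ normalizer (omegaOneCenter p X : Set G) := by
  rw [← Cfsg.Agent.Lib.Coprime.conj_map_eq_iff_mem_normalizer] at hg ⊢
  have := omegaOneCenter_cj (p := p) g X
  unfold cj at this
  rw [hg] at this
  exact this.symm

theorem norm_pCoreOf {X : Subgroup G} {g : G} (hg : g ∈ normalizer (X : Set G)) :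
    g ∈ normalizer (pCoreOf p X : Set G) := by
  rw [← Cfsg.Agent.Lib.Coprime.conj_map_eq_iff_mem_normalizer] at hg ⊢
  have := pCoreOf_cj (p := p) g X
  unfold cj at this
  rw [hg] at this
  exact this.symm

theorem norm_inf {X Y : Subgroup G} {g : G} (h1 : g ∈ normalizer (X : Set G)) (h2 : g ∈ normalizer (Y : Set G)) :
    g ∈ normalizer ((X ⊓ Y : Subgroup G) : Set G) := by
  rw [← Cfsg.Agent.Lib.Coprime.conj_map_eq_iff_mem_normalizer] at h1 h2 ⊢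
  have := inf_cj g X Y
  unfold cj at this
  rw [this, h1, h2]

theorem norm_centralizer {X : Subgroup G} {g : G} (h1 : g ∈ normalizer (X : Set G)) :
    g ∈ normalizer (centralizer (X : Set G) : Set G) := by
  rw [← Cfsg.Agent.Lib.Coprime.conj_map_eq_iff_mem_normalizer] at h1 ⊢
  have := centralizer_cj g X
  unfold cj at this
  rw [← this, h1]

theorem norm_commutator {X Y : Subgroup G} {g : G} (h1 : g ∈ normalizer (X : Set G)) (h2 : g ∈ normalizer (Y : Set G)) :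
    g ∈ normalizer ((⁅X, Y⁆ : Subgroup G) : Set G) := by
  rw [← Cfsg.Agent.Lib.Coprime.conj_map_eq_iff_mem_normalizer] at h1 h2 ⊢
  rw [Subgroup.map_commutator, h1, h2]

/-- An element of order dividing `p` of `T` centralized by `J(T)` lies in `Ω₁ Z(J(T))`. -/
theorem mem_omega_of_cent_J {T : Subgroup G} {x : G} (hxT : x ∈ T) (hx : x ^ p = 1)
    (hc : ∀ j ∈ thompsonSubgroupOf p T, j * x = x * j) : x ∈ omegaOne p (centerThompsonOf p T) := by
  obtain ⟨A, hA⟩ := MaxEA_nonempty p T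
  have h1 : x ∈ A := mem_of_MaxEA hA hxT hx (fun a ha => (hc a (le_thompsonSubgroupOf hA ha)).symm)
  exact Subgroup.subset_closure ⟨mem_centerThompsonOf.2 ⟨le_thompsonSubgroupOf hA h1, hc⟩, hx⟩

/-- Fixed points modulo a subgroup in a `p`-group. -/
theorem exists_fixed_mod {Y Z W : Subgroup G} (hY : IsPGroup p Y) (hZW : Z ≤ W) (hWY : W ≤ Y) (hne : Z ≠ W)
    (hZ : Y ≤ normalizer (Z : Set G)) (hW : Y ≤ normalizer (W : Set G)) :
    ∃ w ∈ W, w ∉ Z ∧ ∀ y ∈ Y, y * w * y⁻¹ * w⁻¹ ∈ Z := by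
  haveI : (Z.subgroupOf Y).Normal := Subgroup.normal_subgroupOf_of_le_normalizer hZ
  haveI hWn : (W.subgroupOf Y).Normal := Subgroup.normal_subgroupOf_of_le_normalizer hW
  have hYq : IsPGroup p (↥Y ⧸ Z.subgroupOf Y) := hY.to_quotient _
  haveI : Group.IsNilpotent (↥Y ⧸ Z.subgroupOf Y) := hYq.isNilpotent
  set π := QuotientGroup.mk' (Z.subgroupOf Y) with hπ
  have hπs : Function.Surjective π := QuotientGroup.mk'_surjective _
  haveI hN : ((W.subgroupOf Y).map π).Normal := Subgroup.Normal.map hWn _ hπs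
  obtain ⟨w₀, hw₀, hw₀Z⟩ := SetLike.exists_of_lt (lt_of_le_of_ne hZW hne)
  have hNne : (W.subgroupOf Y).map π ≠ ⊥ := by
    intro h
    have h1 : π ⟨w₀, hWY hw₀⟩ ∈ (W.subgroupOf Y).map π := ⟨_, hw₀, rfl⟩
    rw [h, Subgroup.mem_bot, hπ, QuotientGroup.mk'_apply, QuotientGroup.eq_one_iff] at h1
    exact hw₀Z h1
  have h2 := Cfsg.Agent.Lib.Basic.normal_inf_center_ne_bot _ hNne
  obtain ⟨⟨z, hz⟩, hz1⟩ := Subgroup.ne_bot_iff_exists_ne_one.1 h2
  obtain ⟨⟨w, hw⟩, hw1, rfl⟩ := hz.1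
  have hwZ : w ∉ Z := by
    intro h
    apply hz1
    apply Subtype.ext
    show π ⟨w, hw⟩ = 1
    rw [hπ, QuotientGroup.mk'_apply, QuotientGroup.eq_one_iff]
    exact h
  refine ⟨w, hw1, hwZ, fun y hy => ?_⟩
  have h3 := (Subgroup.mem_center_iff.1 hz.2) (π ⟨y, hy⟩)
  have h4 : π (⟨y, hy⟩ * ⟨w, hw⟩ * ⟨y, hy⟩⁻¹ * ⟨w, hw⟩⁻¹) = 1 := by
    rw [map_mul, map_mul, map_mul, h3, map_inv, map_inv]
    group
  rw [hπ, QuotientGroup.mk'_apply, QuotientGroup.eq_one_iff] at h4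
  exact h4

end Cfsg.Agent.Lib.LocalEven2.BB
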