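import Cfsg.Agent.Lib.LocalEven2.BB3

/-!
# Baumann blocks: `E = O^p(E O_p(G))`, `W_E ≤ Ω₁ Z(O_p(G))`, `[W_E, J(T)] ≠ 1`
-/

set_option autoImplicit false
set_option linter.unusedSectionVars false
set_option linter.unusedVariables false

namespace Cfsg.Agent.Lib.LocalEven2.BB

open Subgroup Cfsg Cfsg.Agent.Lib.PLocal
open Cfsg.Agent.Lib.OddLocal (MaxEA thompsonSubgroupOf_eq le_thompsonSubgroupOf mem_centerThompsonOf mem_of_MaxEA MaxEA_nonempty)
open Cfsg.Agent.Lib.LocalEven (cj cj_inv_cj cj_cj_inv le_cj_iff cj_mono isPGroup_cj card_cj mem_cj cj_eq_of_mem_normalizer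
  pCoreOf_le pCoreOf_isPGroup le_normalizer_pCoreOf le_pCoreOf pCoreOf_cj)
open scoped commutatorElement

variable {G : Type*} [Group G] [Finite G] {p : ℕ} [Fact p.Prime]

/-- A `p`-group with `O^p` everything is trivial. -/
theorem eq_bot_of_residual {E : Subgroup G} (hres : pResidualOf p E = E) (hp : IsPGroup p E) : E = ⊥ := by
  rw [← hres, pResidualOf, pResidual, MonoidHom.map_closure]
  rw [Subgroup.closure_eq_bot_iff]
  rintro _ ⟨x, hx, rfl⟩
  obtain ⟨k, hk⟩ := hp x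
  have h1 : orderOf x ∣ p ^ k := orderOf_dvd_of_pow_eq_one hk
  have h2 : (orderOf x).Coprime (p ^ k) := Nat.Coprime.pow_right k hx
  have h3 : orderOf x = 1 := Nat.Coprime.eq_one_of_dvd h2 h1
  rw [orderOf_eq_one_iff] at h3
  rw [h3]
  exact map_one _

/-- No alternating block of degree one. -/
theorem alt_m_ne_zero {E X : Subgroup G} (hres : pResidualOf p E = E) (hne : ⁅E, X⁆ ≠ ⊥) {m : ℕ}
    (h : Nonempty (↥E ⧸ pCore p ↥E ≃* ↥(alternatingGroup (Fin (2 * m + 1))))) : m ≠ 0 := by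
  rintro rfl
  obtain ⟨e⟩ := h
  haveI : Subsingleton (alternatingGroup (Fin (2 * 0 + 1))) := by
    constructor
    rintro ⟨a, _⟩ ⟨b, _⟩
    apply Subtype.ext
    apply Equiv.ext
    intro x
    haveI : Subsingleton (Fin (2 * 0 + 1)) := Fin.subsingleton_one
    exact Subsingleton.elim _ _
  haveI : Subsingleton (↥E ⧸ pCore p ↥E) := e.toEquiv.subsingleton
  have htop : pCore p ↥E = ⊤ := QuotientGroup.subgroup_eq_top_of_subsingleton _ this
  have hp : IsPGroup p E := by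
    intro x
    have h1 := Cfsg.Agent.Lib.Basic.pCore_isPGroup (G := ↥E) p
    obtain ⟨k, hk⟩ := h1 ⟨x, by rw [htop]; trivial⟩
    exact ⟨k, congrArg Subtype.val hk⟩
  apply hne
  rw [eq_bot_of_residual hres hp, Subgroup.commutator_bot_left]

theorem modData_of_block {T E : Subgroup G} (hE : IsBaumannBlock p T E) :
    ModData E (omegaOneCenter p (pCoreOf p E)) (omegaOneCenter p (pCoreOf p E) ⊓ centralizer (E : Set G)) := by
  rcases hE.2.2.2.2 with ⟨F, _, _, n, _, _, hact, _⟩ | ⟨_, m, hiso, hact, _⟩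
  · exact modData_linear hact
  · exact modData_alt (alt_m_ne_zero hE.1 hE.2.2.2.1 hiso) hact

theorem le_norm_pCore (H : Subgroup G) : H ≤ normalizer ((pCore p G : Subgroup G) : Set G) := by
  intro h _
  exact Subgroup.mem_normalizer_iff.2 fun x =>
    ⟨fun hx => (Cfsg.Agent.Lib.Basic.pCore_normal p).conj_mem x hx h, fun hx => by
      have := (Cfsg.Agent.Lib.Basic.pCore_normal p).conj_mem _ hx h⁻¹
      simpa [mul_assoc] using this⟩

/-- `O_p(G)` normalizes a block. -/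
theorem R_le_norm (T : Sylow p G) {E : Subgroup G} (hE : IsBaumannBlock p (T : Subgroup G) E) :
    pCore p G ≤ normalizer (E : Set G) :=
  norm_of_invariant T hE.1 hE.2.1 (Cfsg.Agent.Lib.Basic.pCore_isPGroup p) (le_norm_pCore _) (le_norm_pCore _)

/-- `O^p(E R) = E`. -/
theorem residual_sup {E R : Subgroup G} (hres : pResidualOf p E = E) (hR : IsPGroup p R)
    (hRE : R ≤ normalizer (E : Set G)) : pResidualOf p (E ⊔ R) = E := by
  apply le_antisymm
  · rw [pResidualOf, pResidual, Subgroup.map_le_iff_le_comap, Subgroup.closure_le]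
    intro x hx
    show (x : G) ∈ E
    apply Cfsg.Agent.Lib.LocalEven.coprime_mem_of_mem_sup hRE hR x.2
    rw [Subgroup.orderOf_coe]
    exact hx
  · conv_lhs => rw [← hres]
    rw [pResidualOf, pResidual, Subgroup.map_le_iff_le_comap, Subgroup.closure_le]
    intro x hx
    have h1 : (⟨x, Subgroup.mem_sup_left x.2⟩ : ↥(E ⊔ R)) ∈ pResidual p ↥(E ⊔ R) := by
      apply Subgroup.subset_closure
      show (orderOf (⟨x, Subgroup.mem_sup_left x.2⟩ : ↥(E ⊔ R))).Coprime p
      have : orderOf (⟨x, Subgroup.mem_sup_left x.2⟩ : ↥(E ⊔ R)) = orderOf (x : G) := by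
        rw [← Subgroup.orderOf_coe]
      rw [this, Subgroup.orderOf_coe]
      exact hx
    exact ⟨_, h1, rfl⟩

/-- The fixed points modulo `Z`, as a subgroup. -/
theorem exists_fix_subgroup {R Z W : Subgroup G} (hWab : ∀ a ∈ W, ∀ b ∈ W, a * b = b * a)
    (hRW : R ≤ normalizer (W : Set G)) (hZW : Z ≤ W) :
    ∃ W₁ : Subgroup G, ∀ x, x ∈ W₁ ↔ x ∈ W ∧ ∀ r ∈ R, r * x * r⁻¹ * x⁻¹ ∈ Z := by
  refine ⟨{ carrier := {x | x ∈ W ∧ ∀ r ∈ R, r * x * r⁻¹ * x⁻¹ ∈ Z}
            mul_mem' := ?_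
            one_mem' := ⟨W.one_mem, fun r _ => by simp [Z.one_mem]⟩
            inv_mem' := ?_ }, fun x => Iff.rfl⟩
  · rintro a b ⟨ha, ha'⟩ ⟨hb, hb'⟩
    refine ⟨W.mul_mem ha hb, fun r hr => ?_⟩
    have hA : r * a * r⁻¹ ∈ W := (Subgroup.mem_normalizer_iff.1 (hRW hr) a).1 ha
    have hB : r * b * r⁻¹ * b⁻¹ ∈ W := W.mul_mem ((Subgroup.mem_normalizer_iff.1 (hRW hr) b).1 hb) (W.inv_mem hb)
    have h1 := hWab _ hA _ hB
    have h2 : r * (a * b) * r⁻¹ * (a * b)⁻¹ = (r * a * r⁻¹) * (r * b * r⁻¹ * b⁻¹) * a⁻¹ := by group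
    rw [h2, h1, mul_assoc]
    exact Z.mul_mem (hb' r hr) (ha' r hr)
  · rintro a ⟨ha, ha'⟩
    refine ⟨W.inv_mem ha, fun r hr => ?_⟩
    have hA : r * a⁻¹ * r⁻¹ ∈ W := (Subgroup.mem_normalizer_iff.1 (hRW hr) a⁻¹).1 (W.inv_mem ha)
    have h1 := hWab _ hA _ ha
    have h2 : r * a⁻¹ * r⁻¹ * a⁻¹⁻¹ = a * (r * a⁻¹ * r⁻¹) := by
      rw [inv_inv]; exact h1
    rw [h2]
    have h3 := Z.inv_mem (ha' r hr)
    convert h3 using 1
    group

section main

variable (T : Sylow p G) {E : Subgroup G} (hE : IsBaumannBlock p (T : Subgroup G) E)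
include hE

/-- Abbreviations: `W ≤ E`. -/
theorem W_le_E : omegaOneCenter p (pCoreOf p E) ≤ E := (omegaOneCenter_le _).trans (pCoreOf_le E)

theorem norm_Q {g : G} (hg : g ∈ normalizer (E : Set G)) : g ∈ normalizer (pCoreOf p E : Set G) := norm_pCoreOf hg

theorem norm_W {g : G} (hg : g ∈ normalizer (E : Set G)) : g ∈ normalizer (omegaOneCenter p (pCoreOf p E) : Set G) :=
  norm_omega (norm_pCoreOf hg)

theorem norm_Z {g : G} (hg : g ∈ normalizer (E : Set G)) :
    g ∈ normalizer ((omegaOneCenter p (pCoreOf p E) ⊓ centralizer (E : Set G) : Subgroup G) : Set G) :=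
  norm_inf (norm_W T hE hg) (norm_centralizer hg)

theorem W_ab : ∀ a ∈ omegaOneCenter p (pCoreOf p E), ∀ b ∈ omegaOneCenter p (pCoreOf p E), a * b = b * a := by
  intro a ha b hb
  obtain ⟨a1, a2, a3⟩ := mem_omegaOneCenter_iff.1 ha
  obtain ⟨b1, b2, b3⟩ := mem_omegaOneCenter_iff.1 hb
  exact b2 a a1

/-- `R` acts trivially on `W / Z`. -/
theorem R_W_le_Z : ⁅pCore p G, omegaOneCenter p (pCoreOf p E)⁆ ≤
    omegaOneCenter p (pCoreOf p E) ⊓ centralizer (E : Set G) := by
  set Q := pCoreOf p E with hQ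
  set W := omegaOneCenter p Q with hW
  set Z := W ⊓ centralizer (E : Set G) with hZ
  set R := pCore p G with hR
  have hM := modData_of_block hE
  have hRE : R ≤ normalizer (E : Set G) := R_le_norm T hE
  have hRW : R ≤ normalizer (W : Set G) := fun r hr => norm_W T hE (hRE hr)
  have hRZ : R ≤ normalizer (Z : Set G) := fun r hr => norm_Z T hE (hRE hr)
  have hWE : W ≤ E := W_le_E T hE
  have hEW : E ≤ normalizer (W : Set G) := fun e he => norm_W T hE (Subgroup.le_normalizer he)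
  have hEZ : E ≤ normalizer (Z : Set G) := fun e he => norm_Z T hE (Subgroup.le_normalizer he)
  have hWp : IsPGroup p W := (pCoreOf_isPGroup E).to_le (omegaOneCenter_le _)
  have hRp : IsPGroup p R := Cfsg.Agent.Lib.Basic.pCore_isPGroup p
  have hYp : IsPGroup p (W ⊔ R : Subgroup G) := IsPGroup.to_sup_of_normal_left' hWp hRp hRW
  obtain ⟨W₁, hW₁⟩ := exists_fix_subgroup (W_ab T hE) hRW hM.hle
  obtain ⟨w, hw, hwZ, hw'⟩ := exists_fixed_mod hYp hM.hle le_sup_left hM.hne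
    (sup_le (hWE.trans hEZ) hRZ) (sup_le (hWE.trans hEW) hRW)
  have hZ₁ : Z ≤ W₁ := by
    intro z hz
    rw [hW₁]
    refine ⟨hz.1, fun r hr => Z.mul_mem ((Subgroup.mem_normalizer_iff.1 (hRZ hr) z).1 hz) (Z.inv_mem hz)⟩
  have hWW₁ : W₁ ≤ W := fun x hx => ((hW₁ x).1 hx).1
  have hne : Z ≠ W₁ := by
    intro h
    have hwZ' : w ∈ Z := by
      rw [h, hW₁]
      exact ⟨hw, fun r hr => hw' r (Subgroup.mem_sup_right hr)⟩
    exact hwZ hwZ'
  have hEW₁ : E ≤ normalizer (W₁ : Set G) := by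
    intro e he
    apply Cfsg.Agent.Lib.Coprime.mem_normalizer_of_conj_le
    intro x hx
    obtain ⟨hx1, hx2⟩ := (hW₁ x).1 hx
    rw [hW₁]
    refine ⟨(Subgroup.mem_normalizer_iff.1 (hEW he) x).1 hx1, fun r hr => ?_⟩
    have hr' : e⁻¹ * r * e ∈ R := by
      have := (Cfsg.Agent.Lib.Basic.pCore_normal (G := G) p).conj_mem r hr e⁻¹
      simpa using this
    have h1 := hx2 _ hr'
    have h2 := (Subgroup.mem_normalizer_iff.1 (hEZ he) _).1 h1
    convert h2 using 1
    group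
  have hEq : W₁ = W := hM.irr W₁ hZ₁ hWW₁ hne hEW₁
  rw [Subgroup.commutator_le]
  intro r hr x hx
  rw [← hEq] at hx
  exact ((hW₁ x).1 hx).2 r hr

/-- `[W, E, R] = 1`. -/
theorem WE_R : ⁅⁅omegaOneCenter p (pCoreOf p E), E⁆, pCore p G⁆ = ⊥ := by
  set Q := pCoreOf p E with hQ
  set W := omegaOneCenter p Q with hW
  set R := pCore p G with hR
  apply Subgroup.commutator_commutator_eq_bot_of_rotate
  · have hRE : R ≤ normalizer (E : Set G) := R_le_norm T hE
    have h1 : ⁅E, R⁆ ≤ Q := by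
      apply le_pCoreOf
      · exact commutator_le_left_of_norm hRE
      · intro e he
        exact norm_commutator (Subgroup.le_normalizer he) (le_norm_pCore E he)
      · exact (Cfsg.Agent.Lib.Basic.pCore_isPGroup p).to_le (commutator_le_right_of_norm (le_norm_pCore E))
    rw [Subgroup.commutator_eq_bot_iff_le_centralizer]
    intro x hx
    rw [Subgroup.mem_centralizer_iff]
    intro y hy
    exact (mem_omegaOneCenter_iff.1 hy).2.1 x (h1 hx) |>.symm
  · have h1 := R_W_le_Z T hE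
    rw [Subgroup.commutator_eq_bot_iff_le_centralizer]
    intro x hx
    rw [Subgroup.mem_centralizer_iff]
    intro y hy
    exact Subgroup.mem_centralizer_iff.1 (h1 hx).2 y hy

theorem WE_le_W : ⁅omegaOneCenter p (pCoreOf p E), E⁆ ≤ omegaOneCenter p (pCoreOf p E) :=
  commutator_le_left_of_norm fun e he => norm_W T hE (Subgroup.le_normalizer he)

/-- `W_E ≤ Ω₁ Z(O_p(G))`. -/
theorem WE_le_omega (hG : centralizer (pCore p G : Set G) ≤ pCore p G) :
    ⁅omegaOneCenter p (pCoreOf p E), E⁆ ≤ omegaOneCenter p (pCore p G) := by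
  intro x hx
  have h1 := WE_R T hE
  rw [Subgroup.commutator_eq_bot_iff_le_centralizer] at h1
  have h2 := h1 hx
  have h3 := Subgroup.mem_centralizer_iff.1 h2
  rw [mem_omegaOneCenter_iff]
  refine ⟨hG (Subgroup.mem_centralizer_iff.2 fun y hy => ?_), ?_, (mem_omegaOneCenter_iff.1 (WE_le_W T hE hx)).2.2⟩
  · exact h3 y hy
  · intro y hy
    exact h3 y hy

/-- `[W_E, J(T)] ≠ 1`. -/
theorem WE_J_ne (hG : centralizer (pCore p G : Set G) ≤ pCore p G) :
    ⁅⁅omegaOneCenter p (pCoreOf p E), E⁆, thompsonSubgroupOf p (T : Subgroup G)⁆ ≠ ⊥ := by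
  intro hJ
  set W := omegaOneCenter p (pCoreOf p E) with hW
  set WE := ⁅W, E⁆ with hWE
  set B := baumannSubgroupOf p (T : Subgroup G) with hB
  have hM := modData_of_block hE
  have hWEΞ : WE ≤ omegaOne p (centerThompsonOf p (T : Subgroup G)) := by
    intro x hx
    have hxR : x ∈ pCore p G := (omegaOneCenter_le _) (WE_le_omega T hE hG hx)
    have hxT : x ∈ (T : Subgroup G) := Cfsg.Agent.Lib.Basic.pCore_le_sylow T hxR
    have hxp : x ^ p = 1 := (mem_omegaOneCenter_iff.1 (WE_le_W T hE hx)).2.2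
    apply mem_omega_of_cent_J hxT hxp
    intro j hj
    have := Subgroup.commutator_eq_bot_iff_le_centralizer.1 hJ hx
    exact Subgroup.mem_centralizer_iff.1 this j hj
  have hBW : ⁅B, WE⁆ = ⊥ := by
    rw [Subgroup.commutator_eq_bot_iff_le_centralizer]
    intro b hb
    rw [Subgroup.mem_centralizer_iff]
    intro x hx
    exact Subgroup.mem_centralizer_iff.1 hb.2 x (hWEΞ hx)
  have h1 : ⁅⁅B, WE⁆, E⁆ = ⊥ := by rw [hBW, Subgroup.commutator_bot_left]
  have hEnWE : E ≤ normalizer (WE : Set G) := fun e he =>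
    norm_commutator (norm_W T hE (Subgroup.le_normalizer he)) (Subgroup.le_normalizer he)
  have h2 : ⁅⁅WE, E⁆, B⁆ = ⊥ := by
    have h3 : ⁅WE, E⁆ ≤ WE := commutator_le_left_of_norm hEnWE
    have h4 := Subgroup.commutator_mono h3 (le_refl B)
    rw [Subgroup.commutator_comm WE B, hBW] at h4
    exact le_bot_iff.1 h4
  have h3 := Subgroup.commutator_commutator_eq_bot_of_rotate h1 h2
  rw [hE.2.1, Subgroup.commutator_eq_bot_iff_le_centralizer] at h3
  apply hM.nontriv
  refine le_inf (WE_le_W T hE) ?_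
  intro x hx
  rw [Subgroup.mem_centralizer_iff]
  intro e he
  exact (Subgroup.mem_centralizer_iff.1 (h3 he) x hx).symm

end main

end Cfsg.Agent.Lib.LocalEven2.BB
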