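/-
Thompson replacement with control of where the replacement lives.
`replacement_step`: if `x` sends `A` into its own normalizer and `[A, x] ≤ B` with `B` normal abelian,
then either `x` normalizes `A` or there is an abelian subgroup of largest order in `A ⊔ A^x` that
meets `B` in a larger subgroup.
-/
import Cfsg.Agent.Lib.LocalEven2.DStar

set_option autoImplicit false

namespace Cfsg.Agent.Lib.LocalEven2

open Subgroup Cfsg
open Cfsg.Agent.Lib.Coprime (mem_conj_map card_conj_map)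
open scoped commutatorElement

variable {G : Type*} [Group G] {p : ℕ} [Fact p.Prime]

theorem replacement_step [Finite G] {A B : Subgroup G}
    (hA : A ∈ maxAbelianSubgroups G) (hBc : ∀ a ∈ B, ∀ b ∈ B, a * b = b * a) (hBn : B.Normal)
    {x : G} (hxB : ∀ a ∈ A, x * a * x⁻¹ * a⁻¹ ∈ B)
    (hxN : ∀ a ∈ A, x * a * x⁻¹ ∈ normalizer (A : Set G))
    (hxA : x ∉ normalizer (A : Set G)) :
    ∃ A' ∈ maxAbelianSubgroups G, A' ≤ normalizer (A : Set G) ∧
      A' ≤ A ⊔ A.map (MulAut.conj x).toMonoidHom ∧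
      Nat.card (A ⊓ B : Subgroup G) < Nat.card (A' ⊓ B : Subgroup G) := by
  have hAc : ∀ a ∈ A, ∀ b ∈ A, a * b = b * a := fun _ ha _ hb => comm_of_abelian hA.1 ha hb
  set A₁ : Subgroup G := A.map (MulAut.conj x).toMonoidHom with hA₁
  have hA₁N : A₁ ≤ normalizer (A : Set G) := by
    rintro _ ⟨a, ha, rfl⟩
    exact hxN a ha
  have hmemA₁ : ∀ t, t ∈ A₁ ↔ x⁻¹ * t * x ∈ A := by
    intro t
    rw [hA₁, mem_conj_map]
  have hAc₁ : ∀ a ∈ A₁, ∀ b ∈ A₁, a * b = b * a := by
    rintro _ ⟨a, ha, rfl⟩ _ ⟨b, hb, rfl⟩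
    show x * a * x⁻¹ * (x * b * x⁻¹) = x * b * x⁻¹ * (x * a * x⁻¹)
    have := hAc a ha b hb
    calc x * a * x⁻¹ * (x * b * x⁻¹) = x * (a * b) * x⁻¹ := by group
      _ = x * (b * a) * x⁻¹ := by rw [this]
      _ = _ := by group
  set P : Subgroup G := A ⊔ A₁ with hP
  have hPN : P ≤ normalizer (A : Set G) := sup_le le_normalizer hA₁N
  set C : Subgroup G := A ⊓ A₁ with hC
  have hCP : C ≤ centralizer (P : Set G) := by
    rw [hP, centralizer_sup']
    intro c hc
    refine Subgroup.mem_inf.2 ⟨?_, ?_⟩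
    · rw [mem_centralizer_iff]
      intro t ht
      exact hAc _ ht _ (Subgroup.mem_inf.1 hc).1
    · rw [mem_centralizer_iff]
      intro t ht
      exact hAc₁ _ ht _ (Subgroup.mem_inf.1 hc).2
  set E : Subgroup G := B ⊓ P with hE
  have hEP : E ≤ P := inf_le_right
  have hAP : A ≤ P := le_sup_left
  -- `P = A ⊔ E`
  have hPAE : A ⊔ E = P := by
    apply le_antisymm (sup_le hAP hEP)
    apply sup_le le_sup_left
    rintro _ ⟨a, ha, rfl⟩
    show x * a * x⁻¹ ∈ A ⊔ E
    have e : x * a * x⁻¹ = (x * a * x⁻¹ * a⁻¹) * a := by group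
    rw [e]
    refine Subgroup.mul_mem _ ?_ (le_sup_left (α := Subgroup G) ha)
    refine le_sup_right (α := Subgroup G) (Subgroup.mem_inf.2 ⟨?_, ?_⟩)
    · exact hxB a ha
    · refine P.mul_mem (le_sup_right (α := Subgroup G) ⟨a, ha, rfl⟩) (P.inv_mem (hAP ha))
  -- the candidate
  set A' : Subgroup G := C ⊔ E with hA'
  have hCab : IsMulCommutative C :=
    abelian_of_comm fun a ha b hb => hAc a (Subgroup.mem_inf.1 ha).1 b (Subgroup.mem_inf.1 hb).1
  have hEab : IsMulCommutative E :=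
    abelian_of_comm fun a ha b hb => hBc a (Subgroup.mem_inf.1 ha).1 b (Subgroup.mem_inf.1 hb).1
  have hA'ab : IsMulCommutative A' := by
    apply Cfsg.Agent.Lib.Basic.isMulCommutative_sup_of_commute
    intro c hc
    rw [mem_centralizer_iff]
    intro e he
    exact (mem_centralizer_iff.1 (hCP hc) e (hEP he))
  -- counting
  have hc1 := Cfsg.Agent.Lib.OddLocal.card_sup_mul_card_inf hA₁N
  have hc2 := Cfsg.Agent.Lib.OddLocal.card_sup_mul_card_inf (hEP.trans hPN)
  have hc3 := card_mul_card_le C E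
  have hcardA₁ : Nat.card A₁ = Nat.card A := card_conj_map A x
  rw [← hP, ← hC, hcardA₁] at hc1
  rw [hPAE] at hc2
  rw [← hA'] at hc3
  have hCEle : C ⊓ E ≤ A ⊓ E := inf_le_inf_right _ inf_le_left
  have hc4 : Nat.card (C ⊓ E : Subgroup G) ≤ Nat.card (A ⊓ E : Subgroup G) :=
    Nat.le_of_dvd Nat.card_pos (Subgroup.card_dvd_of_le hCEle)
  have hPpos : 0 < Nat.card P := Nat.card_pos
  have hApos : 0 < Nat.card A := Nat.card_pos
  have hc5 : Nat.card C * Nat.card E = Nat.card A * Nat.card (A ⊓ E : Subgroup G) := by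
    have : Nat.card P * (Nat.card C * Nat.card E) = Nat.card P * (Nat.card A * Nat.card (A ⊓ E : Subgroup G)) := by
      calc Nat.card P * (Nat.card C * Nat.card E) = (Nat.card P * Nat.card C) * Nat.card E := by ring
        _ = (Nat.card A * Nat.card A) * Nat.card E := by rw [hc1]
        _ = Nat.card A * (Nat.card A * Nat.card E) := by ring
        _ = Nat.card A * (Nat.card P * Nat.card (A ⊓ E : Subgroup G)) := by rw [hc2]
        _ = _ := by ring
    exact Nat.eq_of_mul_eq_mul_left hPpos this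
  have hge : Nat.card A ≤ Nat.card A' := by
    have hpos : 0 < Nat.card (C ⊓ E : Subgroup G) := Nat.card_pos
    apply Nat.le_of_mul_le_mul_right _ hpos
    calc Nat.card A * Nat.card (C ⊓ E : Subgroup G) ≤ Nat.card A * Nat.card (A ⊓ E : Subgroup G) :=
          Nat.mul_le_mul_left _ hc4
      _ = Nat.card C * Nat.card E := hc5.symm
      _ ≤ _ := hc3
  have heq : Nat.card A' = Nat.card A := le_antisymm (hA.2 A' hA'ab) hge
  refine ⟨A', ⟨hA'ab, fun X hX => heq ▸ hA.2 X hX⟩, ?_, ?_, ?_⟩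
  · exact sup_le ((inf_le_left).trans le_normalizer) (hEP.trans hPN)
  · exact sup_le ((inf_le_left).trans le_sup_left) hEP
  · by_contra hcon
    push Not at hcon
    have hle1 : A ⊓ B ≤ E := le_inf inf_le_right (inf_le_left.trans hAP)
    have hle2 : E ≤ A' ⊓ B := le_inf le_sup_right inf_le_left
    have hEq := Subgroup.eq_of_le_of_card_ge (hle1.trans hle2) hcon
    have hEA : E ≤ A := by
      calc E ≤ A' ⊓ B := hle2
        _ = A ⊓ B := hEq.symm
        _ ≤ A := inf_le_left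
    have hPA : P = A := by rw [← hPAE]; exact sup_eq_left.2 hEA
    have hA₁A : A₁ ≤ A := by rw [← hPA]; exact le_sup_right
    have hA₁eq : A₁ = A := Subgroup.eq_of_le_of_card_ge hA₁A (by rw [hcardA₁])
    apply hxA
    rw [mem_normalizer_iff]
    intro t
    constructor
    · intro ht
      have : x * t * x⁻¹ ∈ A₁ := ⟨t, ht, rfl⟩
      rwa [hA₁eq] at this
    · intro ht
      rw [← hA₁eq] at ht
      rw [hmemA₁] at ht
      have e : x⁻¹ * (x * t * x⁻¹) * x = t := by group
      rwa [e] at ht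

theorem thompson_replacement_le [Finite G] (hS : IsPGroup p G) {A B K : Subgroup G}
    (hA : A ∈ maxAbelianSubgroups G) (hBc : ∀ a ∈ B, ∀ b ∈ B, a * b = b * a) (hBn : B.Normal)
    (h : ¬ B ≤ normalizer (A : Set G)) (hK : K.Normal) (hAK : A ≤ K) :
    ∃ A' ∈ maxAbelianSubgroups G, A' ≤ K ∧
      Nat.card (A ⊓ B : Subgroup G) < Nat.card (A' ⊓ B : Subgroup G) := by
  have hAc : ∀ a ∈ A, ∀ b ∈ A, a * b = b * a := fun _ ha _ hb => comm_of_abelian hA.1 ha hb
  -- the element `x`
  set T : Subgroup G := A ⊔ B with hT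
  set N : Subgroup G := T ⊓ normalizer (A : Set G) with hN
  have hNT : N < T := by
    refine lt_of_le_of_ne inf_le_left ?_
    intro e
    apply h
    have : T ≤ normalizer (A : Set G) := by rw [← e]; exact inf_le_right
    exact (le_sup_right).trans this
  have hlt := lt_inf_normalizer_of_lt (hS.to_subgroup T) hNT
  obtain ⟨y, hy, hyN⟩ := SetLike.exists_of_lt hlt
  have hAN : A ≤ N := le_inf le_sup_left le_normalizer
  obtain ⟨hyT, hyNN⟩ := Subgroup.mem_inf.1 hy
  have hyT' : y ∈ ((A ⊔ B : Subgroup G) : Set G) := hyT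
  rw [Subgroup.mul_normal] at hyT'
  obtain ⟨a₀, ha₀, x, hx, rfl⟩ := hyT'
  have hxNN : x ∈ normalizer (N : Set G) := by
    have e : x = a₀⁻¹ * (a₀ * x) := by group
    rw [e]
    exact Subgroup.mul_mem _ (Subgroup.inv_mem _ (le_normalizer (hAN ha₀))) hyNN
  have hxT : x ∈ T := le_sup_right (α := Subgroup G) hx
  have hxA : x ∉ normalizer (A : Set G) := by
    intro hc
    apply hyN
    have : x ∈ N := Subgroup.mem_inf.2 ⟨hxT, hc⟩
    exact N.mul_mem (hAN ha₀) this
  obtain ⟨A', hA', -, hle, hlt'⟩ := replacement_step hA hBc hBn (x := x)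
    (fun a ha => by
      have e2 : x * a * x⁻¹ * a⁻¹ = x * (a * x⁻¹ * a⁻¹) := by group
      rw [e2]
      exact B.mul_mem hx (hBn.conj_mem _ (B.inv_mem hx) a))
    (fun a ha => by
      have h1 : x * a * x⁻¹ ∈ N := (mem_normalizer_iff.1 hxNN a).1 (hAN ha)
      exact (Subgroup.mem_inf.1 h1).2) hxA
  refine ⟨A', hA', hle.trans (sup_le hAK ?_), hlt'⟩
  rintro _ ⟨a, ha, rfl⟩
  exact hK.conj_mem _ (hAK ha) x

end Cfsg.Agent.Lib.LocalEven2
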