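import Mathlib

/-! Rigidity of representations of `SL₂(K)` in characteristic two into `2 × 2` matrices. -/

set_option autoImplicit false
set_option linter.unusedVariables false
set_option linter.unusedSectionVars false

namespace Cfsg.Agent.Lib.LocalEven2.S50

open Matrix

/-- `SL₂`. -/
abbrev SL2 (K : Type*) [Field K] := Matrix.SpecialLinearGroup (Fin 2) K

theorem mat2_ext {R : Type*} {a b c d a' b' c' d' : R} (h1 : a = a') (h2 : b = b') (h3 : c = c') (h4 : d = d') :
    !![a, b; c, d] = !![a', b'; c', d'] := by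
  subst h1 h2 h3 h4
  rfl

theorem mat2_inj {R : Type*} {a b c d a' b' c' d' : R} (h : !![a, b; c, d] = !![a', b'; c', d']) :
    a = a' ∧ b = b' ∧ c = c' ∧ d = d' := by
  refine ⟨?_, ?_, ?_, ?_⟩
  · simpa using congrFun (congrFun h 0) 0
  · simpa using congrFun (congrFun h 0) 1
  · simpa using congrFun (congrFun h 1) 0
  · simpa using congrFun (congrFun h 1) 1

section elements

variable {K : Type*} [Field K]

def uu (a : K) : SL2 K := ⟨!![1, a; 0, 1], by simp [Matrix.det_fin_two]⟩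
def vv (a : K) : SL2 K := ⟨!![1, 0; a, 1], by simp [Matrix.det_fin_two]⟩
def dd (c : K) (hc : c ≠ 0) : SL2 K := ⟨!![c, 0; 0, c⁻¹], by simp [Matrix.det_fin_two, hc]⟩

theorem sl_ext {g h : SL2 K} (e : (g : Matrix (Fin 2) (Fin 2) K) = h) : g = h := Subtype.ext e

@[simp] theorem uu_coe (a : K) : ((uu a : SL2 K) : Matrix (Fin 2) (Fin 2) K) = !![1, a; 0, 1] := rfl
@[simp] theorem vv_coe (a : K) : ((vv a : SL2 K) : Matrix (Fin 2) (Fin 2) K) = !![1, 0; a, 1] := rfl
@[simp] theorem dd_coe (c : K) (hc : c ≠ 0) : ((dd c hc : SL2 K) : Matrix (Fin 2) (Fin 2) K) = !![c, 0; 0, c⁻¹] := rfl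

theorem uu_add (a b : K) : uu (a + b) = uu a * uu b := by
  apply sl_ext
  rw [Matrix.SpecialLinearGroup.coe_mul, uu_coe, uu_coe, uu_coe, Matrix.mul_fin_two]
  apply mat2_ext <;> ring

theorem vv_add (a b : K) : vv (a + b) = vv a * vv b := by
  apply sl_ext
  rw [Matrix.SpecialLinearGroup.coe_mul, vv_coe, vv_coe, vv_coe, Matrix.mul_fin_two]
  apply mat2_ext <;> ring

theorem uu_zero : uu (0 : K) = 1 := by
  apply sl_ext
  rw [uu_coe, Matrix.SpecialLinearGroup.coe_one]
  ext i j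
  fin_cases i <;> fin_cases j <;> simp

theorem vv_zero : vv (0 : K) = 1 := by
  apply sl_ext
  rw [vv_coe, Matrix.SpecialLinearGroup.coe_one]
  ext i j
  fin_cases i <;> fin_cases j <;> simp

theorem uu_comm (a b : K) : uu a * uu b = uu b * uu a := by
  rw [← uu_add, ← uu_add, add_comm]

/-- Weyl-type element. -/
def ww (c : K) : SL2 K := uu c * vv c⁻¹ * uu c

/-- `g₀`, the standard element of order three. -/
def g0 : SL2 K := uu 1 * vv 1

theorem dd_uu_rel (c : K) (hc : c ≠ 0) :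
    uu (c * c) * vv (c * c)⁻¹ = dd c hc * g0 * (dd c hc)⁻¹ := by
  rw [eq_mul_inv_iff_mul_eq]
  apply sl_ext
  simp only [g0, Matrix.SpecialLinearGroup.coe_mul, uu_coe, vv_coe, dd_coe, Matrix.mul_fin_two]
  apply mat2_ext <;> field_simp <;> ring

theorem dd_vu_rel (c : K) (hc : c ≠ 0) :
    vv (c * c)⁻¹ * uu (c * c) = dd c hc * (vv 1 * uu 1) * (dd c hc)⁻¹ := by
  rw [eq_mul_inv_iff_mul_eq]
  apply sl_ext
  simp only [Matrix.SpecialLinearGroup.coe_mul, uu_coe, vv_coe, dd_coe, Matrix.mul_fin_two]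
  apply mat2_ext <;> field_simp <;> ring

theorem ww_coe (c : K) (hc : c ≠ 0) (h2 : (2 : K) = 0) :
    ((ww c : SL2 K) : Matrix (Fin 2) (Fin 2) K) = !![0, c; c⁻¹, 0] := by
  simp only [ww, Matrix.SpecialLinearGroup.coe_mul, uu_coe, vv_coe, Matrix.mul_fin_two]
  apply mat2_ext
  · field_simp
    linear_combination h2
  · field_simp
    linear_combination c * h2
  · field_simp
    linear_combination 0 * h2
  · field_simp
    linear_combination h2

theorem rel_dd (c : K) (hc : c ≠ 0) (h2 : (2 : K) = 0) : dd c hc = ww c * ww 1 := by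
  apply sl_ext
  rw [Matrix.SpecialLinearGroup.coe_mul, ww_coe c hc h2, ww_coe 1 one_ne_zero h2, dd_coe, Matrix.mul_fin_two]
  apply mat2_ext <;> simp

theorem rel_uu_sq (c : K) (hc : c ≠ 0) (h2 : (2 : K) = 0) : uu (c * c) = ww c * vv 1 * ww c := by
  apply sl_ext
  rw [Matrix.SpecialLinearGroup.coe_mul, Matrix.SpecialLinearGroup.coe_mul, ww_coe c hc h2, uu_coe, vv_coe, Matrix.mul_fin_two, Matrix.mul_fin_two]
  apply mat2_ext
  · field_simp
    linear_combination 0 * h2
  · field_simp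
    linear_combination 0 * h2
  · field_simp
    linear_combination 0 * h2
  · field_simp
    linear_combination 0 * h2

theorem rel_vv (a : K) (h2 : (2 : K) = 0) : vv a = ww 1 * uu a * ww 1 := by
  apply sl_ext
  rw [Matrix.SpecialLinearGroup.coe_mul, Matrix.SpecialLinearGroup.coe_mul, ww_coe 1 one_ne_zero h2, uu_coe, vv_coe, Matrix.mul_fin_two, Matrix.mul_fin_two]
  apply mat2_ext <;> simp

theorem ww_one : ww (1 : K) = uu 1 * vv 1 * uu 1 := by
  simp [ww]

theorem rel_g0_sq (h2 : (2 : K) = 0) : (g0 : SL2 K) * g0 = vv 1 * uu 1 := by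
  apply sl_ext
  simp only [g0, Matrix.SpecialLinearGroup.coe_mul, uu_coe, vv_coe, Matrix.mul_fin_two]
  apply mat2_ext
  · linear_combination 2 * h2
  · linear_combination h2
  · linear_combination h2
  · linear_combination 0 * h2

theorem rel_uv (a b c : K) (hc : c ≠ 0) (hcc : c = 1 + a * b) :
    uu a * vv b = vv (b * c⁻¹) * dd c hc * uu (a * c⁻¹) := by
  apply sl_ext
  simp only [Matrix.SpecialLinearGroup.coe_mul, uu_coe, vv_coe, dd_coe, Matrix.mul_fin_two]
  apply mat2_ext
  · simp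
    linear_combination -hcc
  · field_simp
    ring
  · field_simp
    ring
  · field_simp
    linear_combination hcc

/-- Generation: a matrix in `SL₂` with nonzero lower left entry. -/
theorem gen1 (g : SL2 K) (hc : (g : Matrix (Fin 2) (Fin 2) K) 1 0 ≠ 0) :
    ∃ x y c : K, c = (g : Matrix (Fin 2) (Fin 2) K) 1 0 ∧ g = uu x * vv c * uu y := by
  obtain ⟨M, hM⟩ := g
  have hd : M 0 0 * M 1 1 - M 0 1 * M 1 0 = 1 := by
    rw [← hM, Matrix.det_fin_two]
  simp only at hc ⊢
  refine ⟨(M 0 0 - 1) * (M 1 0)⁻¹, (M 1 1 - 1) * (M 1 0)⁻¹, M 1 0, rfl, ?_⟩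
  apply sl_ext
  simp only [Matrix.SpecialLinearGroup.coe_mul, uu_coe, vv_coe, Matrix.mul_fin_two]
  rw [Matrix.eta_fin_two M]
  simp only [Matrix.of_apply, Matrix.cons_val', Matrix.cons_val_zero, Matrix.cons_val_one]
  apply mat2_ext
  · field_simp
    ring
  · field_simp
    linear_combination -hd
  · ring
  · field_simp
    ring

end elements

section rings

variable {C : Type*} [Ring C]

theorem add_cancel2 (h2 : ∀ x : C, x + x = 0) {a b : C} (h : a + b = 0) : a = b := by
  have : a + b + b = b := by rw [h, zero_add]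
  rwa [add_assoc, h2, add_zero] at this

theorem cancel_mid (h2 : ∀ x : C, x + x = 0) (X a : C) : X + a + X = a := by
  rw [add_comm X a, add_assoc, h2, add_zero]

theorem cancel_mid' (h2 : ∀ x : C, x + x = 0) (X a : C) : X + (a + X) = a := by
  rw [add_comm a X, ← add_assoc, h2, zero_add]

theorem lem_ww (h2 : ∀ x : C, x + x = 0) (P P' q q' : C) (hPP : P * P = 1) (hPP' : P' * P' = 1)
    (hcomm : P * P' = P' * P) (hPq : P * q = q * P) (hqq' : q * q' = 1) (hq'q : q' * q = 1)
    (hqP' : q * P' = P' * q) (hPq' : P * q' = q' * P) :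
    !![P, q; 0, P] * !![P', 0; q', P'] * !![P, q; 0, P] = !![P + P', q; q', P + P'] := by
  simp only [Matrix.mul_fin_two]
  apply mat2_ext
  · simp only [mul_zero, add_zero, zero_mul, zero_add, add_mul, hqq', one_mul]
    rw [mul_assoc, ← hcomm, ← mul_assoc, hPP, one_mul, add_comm]
  · simp only [mul_zero, add_zero, zero_mul, zero_add, add_mul, hqq', one_mul]
    have : q * P' * P = P * P' * q := by
      rw [hqP', mul_assoc, ← hPq, ← mul_assoc, ← hcomm]
    rw [this, add_comm (P * P' * q) q, add_assoc, h2, add_zero]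
  · simp only [mul_zero, add_zero, zero_mul, zero_add]
    rw [hPq', mul_assoc, hPP, mul_one]
  · simp only [mul_zero, add_zero, zero_mul, zero_add]
    rw [mul_assoc P q' q, hq'q, mul_one, hcomm, mul_assoc, hPP, mul_one]

theorem lem_sq (h2 : ∀ x : C, x + x = 0) (S Q Q' Pc qc : C) (hQQ' : Q * Q' = 1) (hQ'Q : Q' * Q = 1)
    (h : !![S, Q; Q', S] * !![1, 0; 1, 1] * !![S, Q; Q', S] = !![Pc, qc; 0, Pc]) :
    S * S = 0 ∧ Q * S = S * Q ∧ Pc + 1 = Q * S ∧ qc = Q * Q := by
  simp only [Matrix.mul_fin_two] at h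
  obtain ⟨h00, h01, h10, h11⟩ := mat2_inj h
  simp only [mul_one, mul_zero, zero_add, add_zero, add_mul, mul_add] at h00 h01 h10 h11
  -- h00 : S * S + Q * S + Q * Q' = Pc
  -- h01 : S * Q + Q * Q + Q * S = qc
  -- h10 : Q' * S + S * S + S * Q' = 0
  -- h11 : Q' * Q + S * Q + S * S = Pc
  rw [hQQ'] at h00
  rw [hQ'Q] at h11
  have hcomm : Q * S = S * Q := by
    have : S * S + Q * S + 1 = 1 + S * Q + S * S := by rw [h00, h11]
    have h3 : S * S + (Q * S + 1) = S * S + (S * Q + 1) := by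
      calc S * S + (Q * S + 1) = S * S + Q * S + 1 := by abel
        _ = 1 + S * Q + S * S := this
        _ = S * S + (S * Q + 1) := by abel
    exact add_right_cancel (add_left_cancel h3)
  have e1 : (Q * S) * Q' = S := by rw [hcomm, mul_assoc, hQQ', mul_one]
  have h5 : Q * S * S = 0 := by
    calc Q * S * S = Q * (Q' * S + S * S + S * Q') := by
          have : Q * (Q' * S + S * S + S * Q') = (Q * Q') * S + Q * S * S + (Q * S) * Q' := by
            noncomm_ring
          rw [this, hQQ', one_mul, e1, add_comm S (Q * S * S), add_assoc, h2, add_zero]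
      _ = 0 := by rw [h10, mul_zero]
  have hSS : S * S = 0 := by
    calc S * S = (Q' * Q) * (S * S) := by rw [hQ'Q, one_mul]
      _ = Q' * (Q * S * S) := by noncomm_ring
      _ = 0 := by rw [h5, mul_zero]
  refine ⟨hSS, hcomm, ?_, ?_⟩
  · rw [← h00, hSS, zero_add, add_assoc, h2, add_zero]
  · rw [← h01, hcomm, add_comm (S * Q) (Q * Q), add_assoc, h2, add_zero]

end rings

section rigid

variable {K : Type*} [Field K] {C : Type*} [Ring C]

theorem sq_surj [Finite K] (hK : (2 : K) = 0) (z : K) : ∃ c : K, c * c = z := by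
  have hinj : Function.Injective (fun x : K => x * x) := by
    intro x y hxy
    have hxy' : x * x = y * y := hxy
    have h : (x + y) * (x + y) = 0 := by linear_combination hxy' + x * y * hK + y * y * hK
    have h' : x + y = 0 := mul_self_eq_zero.mp h
    linear_combination h' - y * hK
  exact (Finite.injective_iff_surjective.mp hinj) z

/-- Rigidity theorem. -/
theorem rigid [Finite K] (hK : (2 : K) = 0) (h2 : ∀ x : C, x + x = 0)
    (ρ : SL2 K →* Matrix (Fin 2) (Fin 2) C)
    (hu : ρ (uu 1) = !![1, 1; 0, 1]) (hv : ρ (vv 1) = !![1, 0; 1, 1]) :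
    ∃ q : K →+* C, ∀ g : SL2 K, ρ g = (g : Matrix (Fin 2) (Fin 2) K).map q := by
  classical
  have hKadd : ∀ a : K, a + a = 0 := fun a => by linear_combination a * hK
  -- shape of `ρ (uu a)`
  have hshape : ∃ (P q : K → C), ∀ a, ρ (uu a) = !![P a, q a; 0, P a] := by
    refine ⟨fun a => ρ (uu a) 0 0, fun a => ρ (uu a) 0 1, fun a => ?_⟩
    have hc : ρ (uu a) * ρ (uu 1) = ρ (uu 1) * ρ (uu a) := by
      rw [← map_mul, ← map_mul, uu_comm]
    have key : ∀ M : Matrix (Fin 2) (Fin 2) C, M * ρ (uu 1) = ρ (uu 1) * M →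
        M = !![M 0 0, M 0 1; 0, M 0 0] := by
      intro M hc
      rw [hu] at hc
      have hM := Matrix.eta_fin_two M
      rw [hM, Matrix.mul_fin_two, Matrix.mul_fin_two] at hc
      obtain ⟨h00, h01, h10, h11⟩ := mat2_inj hc
      simp only [Matrix.of_apply, Matrix.cons_val', Matrix.cons_val_zero, Matrix.cons_val_one,
        mul_one, mul_zero, one_mul, zero_mul, add_zero, zero_add] at h00 h01 h10 h11
      have hz : M 1 0 = 0 := by
        have : M 0 0 + M 1 0 = M 0 0 := h00.symm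
        exact add_left_cancel (a := M 0 0) (by rw [this, add_zero])
      have hw : M 1 1 = M 0 0 := by
        have h3 : M 0 0 + M 0 1 = M 0 1 + M 1 1 := h01
        have h4 : M 0 1 + M 0 0 = M 0 1 + M 1 1 := by rw [add_comm]; exact h3
        exact (add_left_cancel h4).symm
      conv_lhs => rw [hM, hz, hw]
    exact key _ hc
  obtain ⟨P, q, huu⟩ := hshape
  have hww1 : ρ (ww 1) = !![0, 1; 1, 0] := by
    rw [ww_one, map_mul, map_mul, hu, hv, Matrix.mul_fin_two, Matrix.mul_fin_two]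
    apply mat2_ext <;> simp [h2]
  have hvv : ∀ a, ρ (vv a) = !![P a, 0; q a, P a] := by
    intro a
    rw [rel_vv a hK, map_mul, map_mul, hww1, huu, Matrix.mul_fin_two, Matrix.mul_fin_two]
    apply mat2_ext <;> simp
  have hadd : ∀ a b, P (a + b) = P a * P b ∧ q (a + b) = P a * q b + q a * P b := by
    intro a b
    have h := congrArg ρ (uu_add a b)
    rw [map_mul, huu, huu, huu, Matrix.mul_fin_two] at h
    obtain ⟨h1, h3, _, _⟩ := mat2_inj h
    simp only [mul_zero, add_zero] at h1 h3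
    exact ⟨h1, h3⟩
  have h0 : P 0 = 1 ∧ q 0 = 0 := by
    have h := huu 0
    rw [uu_zero, map_one, Matrix.one_fin_two] at h
    obtain ⟨h1, h3, _, _⟩ := mat2_inj h
    exact ⟨h1.symm, h3.symm⟩
  have h1' : P 1 = 1 ∧ q 1 = 1 := by
    have h := huu 1
    rw [hu] at h
    obtain ⟨h1, h3, _, _⟩ := mat2_inj h
    exact ⟨h1.symm, h3.symm⟩
  have hPP : ∀ a, P a * P a = 1 := by
    intro a
    rw [← (hadd a a).1, hKadd, h0.1]
  have hPcomm : ∀ a b, P a * P b = P b * P a := by
    intro a b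
    rw [← (hadd a b).1, ← (hadd b a).1, add_comm]
  have hPq : ∀ a, P a * q a = q a * P a := by
    intro a
    apply add_cancel2 h2
    rw [← (hadd a a).2, hKadd, h0.2]
  -- relation
  have hG : ρ g0 + ρ (vv 1 * uu 1) = 1 := by
    rw [g0, map_mul, map_mul, hu, hv, Matrix.mul_fin_two, Matrix.mul_fin_two, Matrix.one_fin_two]
    ext i j
    fin_cases i <;> fin_cases j <;> simp [h2]
  have hsq := sq_surj hK
  have hrel : ∀ z : K, z ≠ 0 → q z * q z⁻¹ = 1 ∧ q z⁻¹ * q z = 1 ∧ q z * P z⁻¹ = P z⁻¹ * q z ∧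
      P z * q z⁻¹ = q z⁻¹ * P z := by
    intro z hz
    obtain ⟨c, rfl⟩ := hsq z
    have hc : c ≠ 0 := by
      rintro rfl
      simp at hz
    have hsum : ρ (uu (c * c)) * ρ (vv (c * c)⁻¹) + ρ (vv (c * c)⁻¹) * ρ (uu (c * c)) = 1 := by
      rw [← map_mul, ← map_mul, dd_uu_rel c hc, dd_vu_rel c hc, map_mul, map_mul, map_mul, map_mul,
        mul_assoc (ρ (dd c hc)), mul_assoc (ρ (dd c hc)), ← mul_add, ← add_mul, hG, one_mul,
        ← map_mul, mul_inv_cancel, map_one]
    rw [huu, hvv, Matrix.mul_fin_two, Matrix.mul_fin_two, Matrix.one_fin_two] at hsum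
    generalize c * c = w at *
    have e00 := congrFun (congrFun hsum 0) 0
    have e01 := congrFun (congrFun hsum 0) 1
    have e10 := congrFun (congrFun hsum 1) 0
    have e11 := congrFun (congrFun hsum 1) 1
    simp only [Matrix.add_apply, Matrix.of_apply, Matrix.cons_val', Matrix.cons_val_zero,
      Matrix.cons_val_one, Matrix.cons_val_fin_one, mul_zero, zero_mul, add_zero, zero_add] at e00 e01 e10 e11
    have hcm := hPcomm w w⁻¹
    refine ⟨?_, ?_, add_cancel2 h2 e01, add_cancel2 h2 e10⟩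
    · rw [← e00, hcm, cancel_mid h2]
    · rw [← e11, hcm, cancel_mid' h2]
  have hww : ∀ c, c ≠ 0 → ρ (ww c) = !![P c + P c⁻¹, q c; q c⁻¹, P c + P c⁻¹] := by
    intro c hc
    obtain ⟨h1, h3, h4, h5⟩ := hrel c hc
    rw [ww, map_mul, map_mul, huu, hvv]
    exact lem_ww h2 _ _ _ _ (hPP c) (hPP c⁻¹) (hPcomm c c⁻¹) (hPq c) h1 h3 h4 h5
  have hsqf : ∀ c, c ≠ 0 → (P c + P c⁻¹) * (P c + P c⁻¹) = 0 ∧ q c * (P c + P c⁻¹) = (P c + P c⁻¹) * q c ∧
      P (c * c) + 1 = q c * (P c + P c⁻¹) ∧ q (c * c) = q c * q c := by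
    intro c hc
    obtain ⟨h1, h3, _, _⟩ := hrel c hc
    have h := congrArg ρ (rel_uu_sq c hc hK)
    rw [huu, map_mul, map_mul, hww c hc, hv] at h
    exact lem_sq h2 _ _ _ _ _ h1 h3 h.symm
  have hF2 : ∀ z, z ≠ 0 → P z + 1 = q z * (P z⁻¹ + 1) := by
    intro z hz
    obtain ⟨c, rfl⟩ := hsq z
    have hc : c ≠ 0 := by
      rintro rfl
      simp at hz
    have hci : c⁻¹ ≠ 0 := inv_ne_zero hc
    obtain ⟨_, _, h3, h4⟩ := hsqf c hc
    obtain ⟨_, _, h3', _⟩ := hsqf c⁻¹ hci
    have hinv : (c * c)⁻¹ = c⁻¹ * c⁻¹ := by rw [mul_inv]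
    rw [hinv, h3', h3, h4, inv_inv]
    have h1 := (hrel c hc).1
    rw [mul_assoc (q c) (q c), ← mul_assoc (q c) (q c⁻¹), h1, one_mul, add_comm (P c⁻¹)]
  have hC : ∀ c, c ≠ 0 → P (c * c) + 1 = (q c + 1) * (P c + 1) := by
    intro c hc
    obtain ⟨_, _, h3, _⟩ := hsqf c hc
    have e1 : P c + P c⁻¹ = (q c + 1) * (P c⁻¹ + 1) := by
      rw [add_mul, one_mul, ← hF2 c hc]
      rw [show P c + 1 + (P c⁻¹ + 1) = P c + P c⁻¹ + (1 + 1) by abel, h2, add_zero]
    rw [h3, e1, hF2 c hc, ← mul_assoc, ← mul_assoc]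
    rw [show q c * (q c + 1) = (q c + 1) * q c by noncomm_ring]
  have hP : ∀ c, P c = 1 := by
    intro c
    by_cases hc0 : c = 0
    · rw [hc0]
      exact h0.1
    by_cases hc1 : c = 1
    · rw [hc1]
      exact h1'.1
    have hc1' : c + 1 ≠ 0 := fun h => hc1 (by linear_combination h - hK)
    have e1 := hC c hc0
    have e2 := hC (c + 1) hc1'
    have e3 : (c + 1) * (c + 1) = c * c + 1 := by linear_combination c * hK
    have e4 : ∀ x, P (x + 1) = P x := by
      intro x
      rw [(hadd x 1).1, h1'.1, mul_one]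
    have e5 : q (c + 1) = P c + q c := by
      rw [(hadd c 1).2, h1'.1, h1'.2, mul_one, mul_one]
    rw [e3, e4, e4, e5, e1] at e2
    have e6 : P c * (P c + 1) = 0 := by
      have : (P c + q c + 1) * (P c + 1) = P c * (P c + 1) + (q c + 1) * (P c + 1) := by noncomm_ring
      rw [this] at e2
      exact add_eq_right.mp e2.symm
    have e7 : P c + 1 = 0 := by
      calc P c + 1 = P c * P c * (P c + 1) := by rw [hPP, one_mul]
        _ = P c * (P c * (P c + 1)) := by rw [mul_assoc]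
        _ = 0 := by rw [e6, mul_zero]
    exact add_cancel2 h2 e7
  have huu' : ∀ a, ρ (uu a) = !![1, q a; 0, 1] := by
    intro a
    rw [huu, hP]
  have hvv' : ∀ a, ρ (vv a) = !![1, 0; q a, 1] := by
    intro a
    rw [hvv, hP]
  have hqadd : ∀ a b, q (a + b) = q a + q b := by
    intro a b
    rw [(hadd a b).2, hP, hP, one_mul, mul_one, add_comm]
  have hqinv : ∀ z, z ≠ 0 → q z * q z⁻¹ = 1 := fun z hz => (hrel z hz).1
  have hww' : ∀ c, c ≠ 0 → ρ (ww c) = !![0, q c; q c⁻¹, 0] := by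
    intro c hc
    rw [hww c hc, hP, hP, h2]
  have hdd : ∀ c hc, ρ (dd c hc) = !![q c, 0; 0, q c⁻¹] := by
    intro c hc
    rw [rel_dd c hc hK, map_mul, hww' c hc, hww1, Matrix.mul_fin_two]
    apply mat2_ext <;> simp
  have hqmul : ∀ a b, q (a * b) = q a * q b := by
    intro a b
    by_cases hc : 1 + a * b = 0
    · have hab : a * b = 1 := by linear_combination hc - hK
      have ha : a ≠ 0 := by
        rintro rfl
        simp at hab
      have hb : b = a⁻¹ := by
        field_simp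
        linear_combination hab
      rw [hab, hb, hqinv a ha, h1'.2]
    · have h := congrArg ρ (rel_uv a b (1 + a * b) hc rfl)
      rw [map_mul, map_mul, map_mul, huu', hvv', hvv', hdd, huu', Matrix.mul_fin_two, Matrix.mul_fin_two,
        Matrix.mul_fin_two] at h
      obtain ⟨h3, _, _, _⟩ := mat2_inj h
      simp only [mul_one, one_mul, mul_zero, zero_mul, add_zero, zero_add] at h3
      rw [hqadd, h1'.2] at h3
      exact (add_left_cancel h3).symm
  let qq : K →+* C :=
    { toFun := q, map_one' := h1'.2, map_mul' := hqmul, map_zero' := h0.2, map_add' := hqadd }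
  refine ⟨qq, ?_⟩
  have hqq : ∀ a, qq a = q a := fun a => rfl
  have huu_ : ∀ a, ρ (uu a) = ((uu a : SL2 K) : Matrix (Fin 2) (Fin 2) K).map qq := by
    intro a
    rw [huu', uu_coe]
    ext i j
    fin_cases i <;> fin_cases j <;> simp [hqq, h1'.2, h0.2]
  have hvv_ : ∀ a, ρ (vv a) = ((vv a : SL2 K) : Matrix (Fin 2) (Fin 2) K).map qq := by
    intro a
    rw [hvv', vv_coe]
    ext i j
    fin_cases i <;> fin_cases j <;> simp [hqq, h1'.2, h0.2]
  have hmul : ∀ g h : SL2 K, ρ g = (g : Matrix (Fin 2) (Fin 2) K).map qq →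
      ρ h = (h : Matrix (Fin 2) (Fin 2) K).map qq →
      ρ (g * h) = ((g * h : SL2 K) : Matrix (Fin 2) (Fin 2) K).map qq := by
    intro g h hg hh
    rw [map_mul, hg, hh, Matrix.SpecialLinearGroup.coe_mul, Matrix.map_mul]
  have hnz : ∀ g : SL2 K, (g : Matrix (Fin 2) (Fin 2) K) 1 0 ≠ 0 →
      ρ g = (g : Matrix (Fin 2) (Fin 2) K).map qq := by
    intro g hg
    obtain ⟨x, y, c, _, rfl⟩ := gen1 g hg
    exact hmul _ _ (hmul _ _ (huu_ x) (hvv_ c)) (huu_ y)
  intro g
  by_cases hg : (g : Matrix (Fin 2) (Fin 2) K) 1 0 = 0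
  · have h00 : (g : Matrix (Fin 2) (Fin 2) K) 0 0 ≠ 0 := by
      intro h
      have hd := g.2
      rw [Matrix.det_fin_two, h, hg] at hd
      simp at hd
    have hthis : ((vv 1 * g : SL2 K) : Matrix (Fin 2) (Fin 2) K) 1 0 ≠ 0 := by
      rw [Matrix.SpecialLinearGroup.coe_mul, vv_coe, Matrix.mul_apply, Fin.sum_univ_two]
      simpa [hg] using h00
    have e : g = vv 1 * (vv 1 * g) := by
      rw [← mul_assoc, ← vv_add, hKadd, vv_zero, one_mul]
    rw [e]
    exact hmul _ _ (hvv_ 1) (hnz _ hthis)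
  · exact hnz g hg

end rigid

end Cfsg.Agent.Lib.LocalEven2.S50
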