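import Cfsg.Agent.S0538
import Cfsg.Agent.Lib.LocalEven.Subnormal
import Cfsg.Agent.Lib.LocalEven.GFit
import Cfsg.Agent.Lib.LocalEven.PClosed
import Cfsg.Agent.Lib.Basic.Misc2
import Cfsg.Agent.Lib.LocalEven2.GT3

/-!
# Joins of subnormal subgroups and Sylow subgroups

For subnormal `A₁, A₂` and a Sylow subgroup `S`, `⟨A₁, A₂⟩ ∩ S = ⟨A₁ ∩ S, A₂ ∩ S⟩`.
-/

set_option autoImplicit false
set_option linter.unusedSectionVars false

namespace Cfsg.Agent.Lib.LocalEven2.SJ

open Cfsg Cfsg.Agent.Lib.Basic Cfsg.Agent.Lib.LocalEven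
open scoped commutatorElement

universe u

section Perf

variable {G : Type*} [Group G] {H : Type*} [Group H] {p : ℕ}

/-- `X` is generated by its `p'`-elements. -/
def Perf (p : ℕ) (X : Subgroup G) : Prop :=
  ∀ W : Subgroup G, (∀ x ∈ X, (orderOf x).Coprime p → x ∈ W) → X ≤ W

/-- `O^p(X)`, as a subgroup of the ambient group. -/
def res (p : ℕ) (X : Subgroup G) : Subgroup G := (pResidual p ↥X).map X.subtype

theorem perf_res (X : Subgroup G) [Fact p.Prime] : Perf p (res p X) := by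
  intro W hW
  apply res_le
  intro x hx hc
  exact hW x (mem_res hx hc) hc

theorem Perf.res_eq [Fact p.Prime] {X : Subgroup G} (h : Perf p X) : (pResidual p ↥X).map X.subtype = X :=
  le_antisymm (res_le_self X) (h _ (fun _ hx hc => mem_res hx hc))

theorem Perf.map {X : Subgroup G} (f : G →* H) (h : Perf p X) : Perf p (X.map f) := by
  intro W hW
  rw [Subgroup.map_le_iff_le_comap]
  apply h
  intro x hx hc
  apply hW (f x) ⟨x, hx, rfl⟩
  exact Nat.Coprime.coprime_dvd_left (orderOf_map_dvd f x) hc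

theorem Perf.sup {X Y : Subgroup G} (hX : Perf p X) (hY : Perf p Y) : Perf p (X ⊔ Y) := by
  intro W hW
  exact sup_le (hX W fun x hx hc => hW x (Subgroup.mem_sup_left hx) hc)
    (hY W fun x hx hc => hW x (Subgroup.mem_sup_right hx) hc)

theorem Perf.subgroupOf {X C : Subgroup G} (hXC : X ≤ C) (h : Perf p X) : Perf p (X.subgroupOf C) := by
  intro W hW y hy
  have h1 : X ≤ W.map C.subtype := by
    apply h
    intro x hx hc
    refine ⟨⟨x, hXC hx⟩, hW _ (Subgroup.mem_subgroupOf.2 hx) ?_, rfl⟩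
    rw [← Subgroup.orderOf_coe]
    exact hc
  obtain ⟨w, hw, e⟩ := h1 (Subgroup.mem_subgroupOf.1 hy)
  have : w = y := Subtype.ext e
  rwa [← this]

theorem subnormal_res [Fact p.Prime] {X : Subgroup G} (hX : X.IsSubnormal) : (res p X).IsSubnormal :=
  isSubnormal_of_le_normalizer (res_le_self X) (le_normalizer_res X) hX

theorem res_le_self' [Fact p.Prime] (X : Subgroup G) : res p X ≤ X := res_le_self X

end Perf

section ThmA

variable {G : Type*} [Group G] [Finite G] {p : ℕ} [Fact p.Prime]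

/-- A proper subnormal subgroup of `C` lies in a proper normal subgroup of `C`. -/
theorem exists_normal_between {K : Type*} [Group K] {D C : Subgroup K} (hDC : D ≤ C) (hne : D ≠ C)
    (hD : D.IsSubnormal) : ∃ M : Subgroup K, D ≤ M ∧ M < C ∧ C ≤ Subgroup.normalizer (M : Set K) := by
  have h1 : (D.subgroupOf C).IsSubnormal := hD.subgroupOf
  rcases h1.lt_normal with h | ⟨J, hJ, hDJ, hJt⟩
  · exfalso
    rw [Subgroup.subgroupOf_eq_top] at h
    exact hne (le_antisymm hDC h)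
  · refine ⟨J.map C.subtype, ?_, ?_, ?_⟩
    · intro x hx
      exact ⟨⟨x, hDC hx⟩, hDJ (Subgroup.mem_subgroupOf.2 hx), rfl⟩
    · refine lt_of_le_of_ne (Subgroup.map_subtype_le _) ?_
      intro he
      apply hJt.ne
      rw [eq_top_iff]
      intro x _
      have : (x : K) ∈ J.map C.subtype := by rw [he]; exact x.2
      obtain ⟨y, hy, e⟩ := this
      have : y = x := Subtype.ext e
      rwa [← this]
    · intro c hc
      rw [Subgroup.mem_normalizer_iff]
      intro x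
      constructor
      · rintro ⟨y, hy, rfl⟩
        exact ⟨⟨c, hc⟩ * y * ⟨c, hc⟩⁻¹, hJ.conj_mem y hy _, rfl⟩
      · rintro ⟨y, hy, e⟩
        have hxC : x ∈ C := by
          have h2 : c * x * c⁻¹ ∈ C := by rw [← e]; exact y.2
          have e2 : x = c⁻¹ * (c * x * c⁻¹) * c := by group
          rw [e2]
          exact C.mul_mem (C.mul_mem (C.inv_mem hc) h2) hc
        refine ⟨⟨c, hc⟩⁻¹ * y * (⟨c, hc⟩⁻¹)⁻¹, hJ.conj_mem y hy _, ?_⟩
        simp only [Subgroup.subtype_apply, Subgroup.coe_mul, InvMemClass.coe_inv, inv_inv]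
        simp only [Subgroup.subtype_apply] at e
        rw [e]
        group

theorem sup_subgroupOf' {K A B : Subgroup G} (hA : A ≤ K) (hB : B ≤ K) :
    (A ⊔ B).subgroupOf K = A.subgroupOf K ⊔ B.subgroupOf K := by
  apply Subgroup.map_injective K.subtype_injective
  rw [Subgroup.map_sup, Subgroup.subgroupOf_map_subtype, Subgroup.subgroupOf_map_subtype,
    Subgroup.subgroupOf_map_subtype, inf_of_le_left hA, inf_of_le_left hB, inf_of_le_left (sup_le hA hB)]

/-- **Normality of the join of the `O^p`'s.** -/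
theorem le_normalizer_res_sup {A X₂ : Subgroup G} (hA : A.IsSubnormal) (hX : X₂.IsSubnormal)
    (hP : Perf p X₂) : A ≤ Subgroup.normalizer ((res p A ⊔ X₂ : Subgroup G) : Set G) := by
  classical
  set K : Subgroup G := A ⊔ X₂ with hK
  have hAK : A ≤ K := le_sup_left
  have hXK : X₂ ≤ K := le_sup_right
  have hRK : res p A ≤ K := (res_le_self A).trans hAK
  set A' : Subgroup K := A.subgroupOf K with hA'
  set X' : Subgroup K := X₂.subgroupOf K with hX'
  set R' : Subgroup K := (res p A).subgroupOf K with hR'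
  have hAX : A' ⊔ X' = ⊤ := by
    rw [hA', hX', ← sup_subgroupOf' hAK hXK, ← hK, Subgroup.subgroupOf_self]
  set Y : Subgroup K := Subgroup.normalClosure (R' : Set K) with hY
  haveI hYn : Y.Normal := Subgroup.normalClosure_normal
  have hRY : R' ≤ Y := Subgroup.subset_normalClosure
  let f : K →* K ⧸ Y := QuotientGroup.mk' Y
  have hf : Function.Surjective f := QuotientGroup.mk'_surjective Y
  have hAb : (A'.map f).IsSubnormal := (hA.subgroupOf (K := K)).map hf
  have hXb : (X'.map f).IsSubnormal := (hX.subgroupOf (K := K)).map hf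
  have hXP : Perf p (X'.map f) := (hP.subgroupOf hXK).map f
  have hAp : IsPGroup p (A'.map f) := by
    rw [IsPGroup.iff_orderOf]
    rintro ⟨_, a, ha, rfl⟩
    obtain ⟨u, v, huv, hu, hv, ⟨k, hk⟩, hvc, -⟩ := exists_p_decomp (p := p) a (isOfFinOrder_of_finite a)
    have hvA : (v : K) ∈ A' := by
      have h1 : Subgroup.zpowers a ≤ A' := (Subgroup.zpowers_le).2 ha
      exact h1 hv
    have hvR : v ∈ R' := by
      rw [hR', Subgroup.mem_subgroupOf]
      apply mem_res (Subgroup.mem_subgroupOf.1 hvA)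
      rw [Subgroup.orderOf_coe]
      exact hvc
    have hfv : f v = 1 := by
      change (QuotientGroup.mk' Y) v = 1
      exact (QuotientGroup.eq_one_iff v).2 (hRY hvR)
    have h2 : f a = f u := by rw [huv, map_mul, hfv, mul_one]
    rw [← Subgroup.orderOf_coe]
    change ∃ k, orderOf (f a) = p ^ k
    rw [h2]
    have h3 : orderOf (f u) ∣ p ^ k := by rw [← hk]; exact orderOf_map_dvd f u
    obtain ⟨j, _, hj⟩ := (Nat.dvd_prime_pow (Fact.out : p.Prime)).1 h3
    exact ⟨j, hj⟩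
  have hN := (subnormal_pgroup_normalizes_res (A'.map f) (X'.map f) hAb hXb hAp hXP.res_eq).1
  have hXn : (X'.map f).Normal := by
    rw [← Subgroup.normalizer_eq_top_iff, eq_top_iff]
    have h1 : A'.map f ⊔ X'.map f = ⊤ := by
      rw [← Subgroup.map_sup, hAX, Subgroup.map_top_of_surjective _ hf]
    rw [← h1]
    exact sup_le hN Subgroup.le_normalizer
  set C₁ : Subgroup K := (X'.map f).comap f with hC₁
  haveI hC₁n : C₁.Normal := hXn.comap f
  have hkerY : ∀ k : K, f k = 1 → k ∈ Y := fun k hk => (QuotientGroup.eq_one_iff k).1 hk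
  set C' : Subgroup K := (res p A ⊔ X₂).subgroupOf K with hC'
  have hC'eq : C' = R' ⊔ X' := by
    rw [hC', hR', hX', sup_subgroupOf' hRK hXK]
  have hYC₁ : Y ≤ C₁ := by
    intro y hy
    rw [hC₁, Subgroup.mem_comap]
    have : f y = 1 := (QuotientGroup.eq_one_iff y).2 hy
    rw [this]
    exact Subgroup.one_mem _
  have hX'C₁ : X' ≤ C₁ := fun x hx => ⟨x, hx, rfl⟩
  have hC'C₁ : C' ≤ C₁ := by
    rw [hC'eq]
    exact sup_le (hRY.trans hYC₁) hX'C₁
  have hC's : C'.IsSubnormal :=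
    (Cfsg.Agent.S0538.result _ _ (subnormal_res hA) hX).subgroupOf
  have hCe : C' = C₁ := by
    by_contra hne
    obtain ⟨M, hM1, hM2, hM3⟩ := exists_normal_between hC'C₁ hne hC's
    have hR'M : R' ≤ M := by rw [hC'eq] at hM1; exact le_sup_left.trans hM1
    have hX'M : X' ≤ M := by rw [hC'eq] at hM1; exact le_sup_right.trans hM1
    have hYM : Y ≤ M := by
      rw [hY, Subgroup.normalClosure, Subgroup.closure_le]
      intro z hz
      obtain ⟨r, hr, hc⟩ := Group.mem_conjugatesOfSet_iff.1 hz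
      obtain ⟨k, rfl⟩ := isConj_iff.1 hc
      have hk : k ∈ C₁ ⊔ A' := by
        have h1 : C₁ ⊔ A' = ⊤ := by
          rw [eq_top_iff, ← hAX]
          exact sup_le le_sup_right (hX'C₁.trans le_sup_left)
        rw [h1]; trivial
      have hA'n : A' ≤ Subgroup.normalizer (C₁ : Set K) := by
        rw [Subgroup.normalizer_eq_top_iff.2 hC₁n]; exact le_top
      obtain ⟨c, hcC, y, hy, rfl⟩ := (Cfsg.Agent.Lib.Coprime.mem_sup_iff_of_le_normalizer hA'n k).1 hk
      have h2 : y * r * y⁻¹ ∈ R' := by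
        rw [hR', Subgroup.mem_subgroupOf]
        have h3 := (Subgroup.mem_normalizer_iff.1 (le_normalizer_res A (Subgroup.mem_subgroupOf.1 hy)) (r : G)).1
          (Subgroup.mem_subgroupOf.1 hr)
        exact h3
      have h4 := (Subgroup.mem_normalizer_iff.1 (hM3 hcC) _).1 (hR'M h2)
      have e : c * y * r * (c * y)⁻¹ = c * (y * r * y⁻¹) * c⁻¹ := by group
      rw [e]
      exact h4
    have hle : C₁ ≤ M := by
      intro k hk
      obtain ⟨x, hx, e⟩ := (Subgroup.mem_comap.1 hk)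
      have h1 : f (x⁻¹ * k) = 1 := by rw [map_mul, map_inv, e, inv_mul_cancel]
      have h2 := hYM (hkerY _ h1)
      have e2 : k = x * (x⁻¹ * k) := by group
      rw [e2]
      exact M.mul_mem (hX'M hx) h2
    exact absurd hle (not_le_of_gt hM2)
  apply le_normalizer_of_conj_le
  rintro a ha _ ⟨c, hc, rfl⟩
  have hcK : c ∈ K := (sup_le hRK hXK) hc
  have haK : a ∈ K := hAK ha
  have h1 : (⟨c, hcK⟩ : K) ∈ C' := Subgroup.mem_subgroupOf.2 hc
  rw [hCe] at h1
  have h2 := hC₁n.conj_mem _ h1 ⟨a, haK⟩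
  rw [← hCe] at h2
  exact Subgroup.mem_subgroupOf.1 h2

end ThmA


section Aux

variable {G : Type*} [Group G] [Finite G] {p : ℕ} [Fact p.Prime]

/-- Central `p`-subgroups with a complement in `S` vanish in a group generated by `p'`-elements. -/
theorem central_eq_bot (S : Sylow p G) (T N : Subgroup G) (hTS : T ≤ S) (hNS : N ≤ S)
    (hNc : N ≤ Subgroup.center G) (hTN : T ⊓ N = ⊥) (hS : ∀ s ∈ (S : Subgroup G), ∃ t ∈ T, t⁻¹ * s ∈ N)
    (hgen : ∀ W : Subgroup G, (∀ x : G, (orderOf x).Coprime p → x ∈ W) → W = ⊤) : N = ⊥ := by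
  classical
  have hcen : ∀ n ∈ N, ∀ g : G, g * n = n * g := fun n hn g => (Subgroup.mem_center_iff.1 (hNc hn)) g
  let T' : Subgroup (S : Subgroup G) := T.subgroupOf (S : Subgroup G)
  have hdec : ∀ s : (S : Subgroup G), ∃ t ∈ T, ∃ n ∈ N, (s : G) = t * n := by
    intro s
    obtain ⟨t, ht, hn⟩ := hS s s.2
    exact ⟨t, ht, _, hn, by group⟩
  haveI hT'n : T'.Normal := by
    constructor
    intro t' ht' s
    obtain ⟨t, ht, n, hn, e⟩ := hdec s
    rw [Subgroup.mem_subgroupOf] at ht' ⊢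
    have e2 : ((s * t' * s⁻¹ : (S : Subgroup G)) : G) = t * (t' : G) * t⁻¹ := by
      simp only [Subgroup.coe_mul, InvMemClass.coe_inv, e, mul_inv_rev]
      have h1 := hcen n hn (t' : G)
      have h2 : n * (t' : G) = (t' : G) * n := h1.symm
      calc t * n * (t' : G) * (n⁻¹ * t⁻¹) = t * (n * (t' : G)) * n⁻¹ * t⁻¹ := by group
        _ = t * ((t' : G) * n) * n⁻¹ * t⁻¹ := by rw [h2]
        _ = t * (t' : G) * t⁻¹ := by group
    rw [e2]
    exact T.mul_mem (T.mul_mem ht ht') (T.inv_mem ht)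
  have hcomm : ∀ a b : (S : Subgroup G) ⧸ T', a * b = b * a := by
    intro a b
    induction a using QuotientGroup.induction_on with
    | H a =>
    induction b using QuotientGroup.induction_on with
    | H b =>
    obtain ⟨t₁, ht₁, n₁, hn₁, e₁⟩ := hdec a
    obtain ⟨t₂, ht₂, n₂, hn₂, e₂⟩ := hdec b
    rw [← QuotientGroup.mk_mul, ← QuotientGroup.mk_mul, QuotientGroup.eq, Subgroup.mem_subgroupOf]
    have e3 : (((a * b)⁻¹ * (b * a) : (S : Subgroup G)) : G) =
        t₂⁻¹ * t₁⁻¹ * t₂ * t₁ := by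
      simp only [Subgroup.coe_mul, InvMemClass.coe_inv, e₁, e₂, mul_inv_rev]
      have c1 := hcen n₁ hn₁
      have c2 := hcen n₂ hn₂
      have h : n₂⁻¹ * t₂⁻¹ * (n₁⁻¹ * t₁⁻¹) * (t₂ * n₂ * (t₁ * n₁)) =
          t₂⁻¹ * t₁⁻¹ * t₂ * t₁ * (n₂⁻¹ * n₁⁻¹ * n₂ * n₁) := by
        have hi1 : ∀ g : G, g * n₁⁻¹ = n₁⁻¹ * g := by
          intro g
          have := c1 g
          calc g * n₁⁻¹ = n₁⁻¹ * (n₁ * g) * n₁⁻¹ := by group
            _ = n₁⁻¹ * (g * n₁) * n₁⁻¹ := by rw [c1 g]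
            _ = n₁⁻¹ * g := by group
        have hi2 : ∀ g : G, g * n₂⁻¹ = n₂⁻¹ * g := by
          intro g
          calc g * n₂⁻¹ = n₂⁻¹ * (n₂ * g) * n₂⁻¹ := by group
            _ = n₂⁻¹ * (g * n₂) * n₂⁻¹ := by rw [c2 g]
            _ = n₂⁻¹ * g := by group
        calc n₂⁻¹ * t₂⁻¹ * (n₁⁻¹ * t₁⁻¹) * (t₂ * n₂ * (t₁ * n₁))
            = n₂⁻¹ * (t₂⁻¹ * n₁⁻¹) * t₁⁻¹ * t₂ * n₂ * t₁ * n₁ := by group
          _ = n₂⁻¹ * (n₁⁻¹ * t₂⁻¹) * t₁⁻¹ * t₂ * n₂ * t₁ * n₁ := by rw [hi1]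
          _ = (n₂⁻¹ * n₁⁻¹) * (t₂⁻¹ * t₁⁻¹ * t₂ * n₂) * t₁ * n₁ := by group
          _ = (n₂⁻¹ * n₁⁻¹) * (n₂ * (t₂⁻¹ * t₁⁻¹ * t₂)) * t₁ * n₁ := by rw [c2]
          _ = (n₂⁻¹ * n₁⁻¹ * n₂) * ((t₂⁻¹ * t₁⁻¹ * t₂) * t₁ * n₁) := by group
          _ = (n₂⁻¹ * n₁⁻¹ * n₂) * (n₁ * ((t₂⁻¹ * t₁⁻¹ * t₂) * t₁)) := by rw [c1]
          _ = (n₂⁻¹ * n₁⁻¹ * n₂ * n₁) * (t₂⁻¹ * t₁⁻¹ * t₂ * t₁) := by group
          _ = (t₂⁻¹ * t₁⁻¹ * t₂ * t₁) * (n₂⁻¹ * n₁⁻¹ * n₂ * n₁) := by
            have hc : ∀ g : G, (n₂⁻¹ * n₁⁻¹ * n₂ * n₁) * g = g * (n₂⁻¹ * n₁⁻¹ * n₂ * n₁) := by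
              intro g
              have e5 : n₂⁻¹ * n₁⁻¹ * n₂ * n₁ = 1 := by
                have := c2 n₁
                calc n₂⁻¹ * n₁⁻¹ * n₂ * n₁ = n₂⁻¹ * (n₁⁻¹ * n₂ * n₁) := by group
                  _ = n₂⁻¹ * (n₁⁻¹ * (n₂ * n₁)) := by group
                  _ = n₂⁻¹ * (n₁⁻¹ * (n₁ * n₂)) := by rw [c2 n₁]
                  _ = 1 := by group
              rw [e5]; group
            exact hc _
      rw [h]
      have e5 : n₂⁻¹ * n₁⁻¹ * n₂ * n₁ = 1 := by
        calc n₂⁻¹ * n₁⁻¹ * n₂ * n₁ = n₂⁻¹ * (n₁⁻¹ * (n₂ * n₁)) := by group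
          _ = n₂⁻¹ * (n₁⁻¹ * (n₁ * n₂)) := by rw [c2 n₁]
          _ = 1 := by group
      rw [e5, mul_one]
    rw [e3]
    exact T.mul_mem (T.mul_mem (T.mul_mem (T.inv_mem ht₂) (T.inv_mem ht₁)) ht₂) ht₁
  letI instC : CommGroup ((S : Subgroup G) ⧸ T') :=
    { (inferInstance : Group ((S : Subgroup G) ⧸ T')) with mul_comm := hcomm }
  let ϕ : (S : Subgroup G) →* ((S : Subgroup G) ⧸ T') := QuotientGroup.mk' T'
  let V : G →* ((S : Subgroup G) ⧸ T') := ϕ.transfer
  have hAp : IsPGroup p ((S : Subgroup G) ⧸ T') := (S.isPGroup').to_quotient T'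
  have hker : V.ker = ⊤ := by
    apply hgen
    intro x hx
    rw [MonoidHom.mem_ker]
    obtain ⟨k, hk⟩ := (IsPGroup.iff_orderOf.1 hAp) (V x)
    apply eq_one_of_coprime_of_pPower (p := p) ⟨k, hk⟩
    exact Nat.Coprime.coprime_dvd_left (orderOf_map_dvd V x) hx
  rw [eq_bot_iff]
  intro n hn
  have hnS : n ∈ (S : Subgroup G) := hNS hn
  have key : ∀ (k : ℕ) (g₀ : G), g₀⁻¹ * n ^ k * g₀ ∈ (S : Subgroup G) → g₀⁻¹ * n ^ k * g₀ = n ^ k := by
    intro k g₀ _
    have h1 : g₀ * n ^ k = n ^ k * g₀ := by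
      have : n ^ k ∈ N := N.pow_mem hn k
      exact hcen _ this g₀
    calc g₀⁻¹ * n ^ k * g₀ = g₀⁻¹ * (n ^ k * g₀) := by group
      _ = g₀⁻¹ * (g₀ * n ^ k) := by rw [h1]
      _ = n ^ k := by group
  have h1 : V n = ϕ ⟨n ^ (S : Subgroup G).index, MonoidHom.transfer_eq_pow_aux n key⟩ :=
    MonoidHom.transfer_eq_pow ϕ n key
  have h2 : V n = 1 := by
    have : n ∈ V.ker := by rw [hker]; trivial
    exact this
  rw [h2] at h1
  have h3 : (⟨n ^ (S : Subgroup G).index, MonoidHom.transfer_eq_pow_aux n key⟩ : (S : Subgroup G)) ∈ T' :=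
    (QuotientGroup.eq_one_iff _).1 h1.symm
  have h4 : n ^ (S : Subgroup G).index ∈ T ⊓ N := ⟨Subgroup.mem_subgroupOf.1 h3, N.pow_mem hn _⟩
  rw [hTN] at h4
  have h5 : n ^ (S : Subgroup G).index = 1 := h4
  obtain ⟨k, hk⟩ := orderOf_of_mem_isPGroup S.isPGroup' hnS
  have h6 : orderOf n ∣ (S : Subgroup G).index := orderOf_dvd_of_pow_eq_one h5
  apply eq_one_of_coprime_of_pPower (p := p) ⟨k, hk⟩
  have hp : p.Prime := Fact.out
  exact Nat.Coprime.coprime_dvd_left h6 ((Nat.Prime.coprime_iff_not_dvd hp).2 S.not_dvd_index).symm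

end Aux


section Main

variable {G : Type*} [Group G] [Finite G] {H : Type*} [Group H] [Finite H] {p : ℕ} [Fact p.Prime]

theorem relIndex_map_dvd (f : G →* H) (A B : Subgroup G) :
    (A.map f).relIndex (B.map f) ∣ A.relIndex B := by
  let g : B →* B.map f := f.subgroupMap B
  have hg : Function.Surjective g := f.subgroupMap_surjective B
  have h1 : ((A.subgroupOf B).map g).index ∣ (A.subgroupOf B).index := Subgroup.index_map_dvd _ hg
  have h2 : (A.subgroupOf B).map g ≤ (A.map f).subgroupOf (B.map f) := by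
    rintro _ ⟨x, hx, rfl⟩
    rw [Subgroup.mem_subgroupOf]
    exact ⟨x, Subgroup.mem_subgroupOf.1 hx, rfl⟩
  exact (Subgroup.index_dvd_of_le h2).trans h1

/-- The Sylow subgroup of the image of a subnormal subgroup. -/
theorem map_inf_sylow (f : G →* H) (S : Sylow p G) {X : Subgroup G} (hX : X.IsSubnormal) :
    X.map f ⊓ (S : Subgroup G).map f ≤ (X ⊓ (S : Subgroup G)).map f := by
  have hle : (X ⊓ (S : Subgroup G)).map f ≤ X.map f ⊓ (S : Subgroup G).map f :=
    le_inf (Subgroup.map_mono inf_le_left) (Subgroup.map_mono inf_le_right)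
  have hi : ¬ p ∣ ((X ⊓ (S : Subgroup G)).map f).relIndex (X.map f) := by
    intro hd
    have h1 := hd.trans (relIndex_map_dvd f (X ⊓ (S : Subgroup G)) X)
    rw [Subgroup.inf_relIndex_left] at h1
    exact not_dvd_relIndex_of_isSubnormal S hX h1
  have hT : IsPGroup p ↥(X.map f ⊓ (S : Subgroup G).map f) :=
    (S.isPGroup'.map f).to_le inf_le_right
  have := Cfsg.Agent.Lib.Coprime.eq_of_isPGroup_of_not_dvd_relIndex hle inf_le_left hT hi
  exact this.le

/-- The case when `B` normalizes `A`. -/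
theorem sup_inf_le_of_normalizes {A B : Subgroup G} (hBA : B ≤ Subgroup.normalizer (A : Set G))
    (hA : A.IsSubnormal) (hB : B.IsSubnormal) (S : Sylow p G) :
    (A ⊔ B) ⊓ (S : Subgroup G) ≤ (A ⊓ (S : Subgroup G)) ⊔ (B ⊓ (S : Subgroup G)) := by
  classical
  set D : Subgroup G := A ⊔ B with hD
  have hDs : D.IsSubnormal := Cfsg.Agent.S0538.result _ _ hA hB
  obtain ⟨Q, hQ⟩ := sylow_inf_of_isSubnormal p D hDs S
  have hAD : A ≤ D := le_sup_left
  have hBD : B ≤ D := le_sup_right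
  set A' : Subgroup D := A.subgroupOf D with hA'
  set B' : Subgroup D := B.subgroupOf D with hB'
  have hAB' : A' ⊔ B' = ⊤ := by
    rw [hA', hB', ← sup_subgroupOf' hAD hBD, ← hD, Subgroup.subgroupOf_self]
  haveI hA'n : A'.Normal := by
    rw [← Subgroup.normalizer_eq_top_iff, eq_top_iff, ← hAB']
    refine sup_le Subgroup.le_normalizer ?_
    intro b hb
    rw [Subgroup.mem_normalizer_iff]
    intro a
    rw [hA', Subgroup.mem_subgroupOf, Subgroup.mem_subgroupOf]
    exact Subgroup.mem_normalizer_iff.1 (hBA (Subgroup.mem_subgroupOf.1 hb)) a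
  let f : D →* D ⧸ A' := QuotientGroup.mk' A'
  have hf : Function.Surjective f := QuotientGroup.mk'_surjective A'
  have hBs : B'.IsSubnormal := hB.subgroupOf
  have h1 := map_inf_sylow f Q hBs
  have hBt : B'.map f = ⊤ := by
    rw [eq_top_iff]
    intro y _
    obtain ⟨d, rfl⟩ := hf y
    have hd : d ∈ A' ⊔ B' := by rw [hAB']; trivial
    have hA'nn : B' ≤ Subgroup.normalizer (A' : Set D) := by
      rw [Subgroup.normalizer_eq_top_iff.2 hA'n]; exact le_top
    obtain ⟨a, ha, b, hb, rfl⟩ := (Cfsg.Agent.Lib.Coprime.mem_sup_iff_of_le_normalizer hA'nn d).1 hd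
    refine ⟨b, hb, ?_⟩
    have h2 : f a = 1 := (QuotientGroup.eq_one_iff a).2 ha
    rw [map_mul, h2, one_mul]
  rintro s ⟨hs1, hs2⟩
  have hsQ : (⟨s, hs1⟩ : D) ∈ (Q : Subgroup D) := by rw [hQ]; exact Subgroup.mem_subgroupOf.2 hs2
  have h3 : f ⟨s, hs1⟩ ∈ (B'.map f) ⊓ (Q : Subgroup D).map f := by
    rw [hBt]
    exact ⟨trivial, ⟨_, hsQ, rfl⟩⟩
  obtain ⟨b, ⟨hb1, hb2⟩, e⟩ := h1 h3
  have h4 : b⁻¹ * ⟨s, hs1⟩ ∈ A' := by
    rw [← QuotientGroup.eq_one_iff]
    change f (b⁻¹ * ⟨s, hs1⟩) = 1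
    rw [map_mul, map_inv, e, inv_mul_cancel]
  rw [hQ] at hb2
  have hbS : (b : G) ∈ (S : Subgroup G) := Subgroup.mem_subgroupOf.1 hb2
  have h5 : (b : G)⁻¹ * s ∈ A := Subgroup.mem_subgroupOf.1 h4
  have e2 : s = (s * (b : G)⁻¹) * b := by group
  have h6 : s * (b : G)⁻¹ ∈ A := by
    have e3 : s * (b : G)⁻¹ = b * ((b : G)⁻¹ * s) * (b : G)⁻¹ := by group
    rw [e3]
    exact (Subgroup.mem_normalizer_iff.1 (hBA (Subgroup.mem_subgroupOf.1 hb1)) _).1 h5
  rw [e2]
  refine Subgroup.mul_mem _ (Subgroup.mem_sup_left ⟨h6, ?_⟩)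
    (Subgroup.mem_sup_right ⟨Subgroup.mem_subgroupOf.1 hb1, hbS⟩)
  exact (S : Subgroup G).mul_mem hs2 ((S : Subgroup G).inv_mem hbS)

end Main

/-- The main induction. -/
theorem main_aux (p : ℕ) [Fact p.Prime] : ∀ (n : ℕ) (G : Type u) [Group G] [Finite G], Nat.card G = n →
    ∀ (S : Sylow p G) (X₁ X₂ : Subgroup G), X₁.IsSubnormal → X₂.IsSubnormal → Perf p X₁ → Perf p X₂ →
      (X₁ ⊔ X₂) ⊓ (S : Subgroup G) ≤ (X₁ ⊓ (S : Subgroup G)) ⊔ (X₂ ⊓ (S : Subgroup G)) := by
  intro n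
  induction n using Nat.strong_induction_on with
  | _ n IH =>
  intro G _ _ hn S X₁ X₂ hX₁ hX₂ hP₁ hP₂
  classical
  set T : Subgroup G := (X₁ ⊓ (S : Subgroup G)) ⊔ (X₂ ⊓ (S : Subgroup G)) with hT
  have hTS : T ≤ S := sup_le inf_le_right inf_le_right
  by_cases hC : X₁ ⊔ X₂ = ⊤
  swap
  · -- the join is proper
    set C : Subgroup G := X₁ ⊔ X₂ with hCdef
    have hCs : C.IsSubnormal := Cfsg.Agent.S0538.result _ _ hX₁ hX₂
    obtain ⟨Q, hQ⟩ := sylow_inf_of_isSubnormal p C hCs S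
    have h1 := IH (Nat.card C) (by rw [← hn]; exact Cfsg.Agent.Lib.OddLocal.card_lt_of_ne_top hC) C rfl Q
      (X₁.subgroupOf C) (X₂.subgroupOf C) hX₁.subgroupOf hX₂.subgroupOf
      (hP₁.subgroupOf le_sup_left) (hP₂.subgroupOf le_sup_right)
    rintro x ⟨hx1, hx2⟩
    have hxQ : (⟨x, hx1⟩ : C) ∈ (Q : Subgroup C) := by rw [hQ]; exact Subgroup.mem_subgroupOf.2 hx2
    have hxT : (⟨x, hx1⟩ : C) ∈ (X₁.subgroupOf C ⊔ X₂.subgroupOf C) := by
      rw [← sup_subgroupOf' le_sup_left le_sup_right]; exact Subgroup.mem_subgroupOf.2 hx1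
    have h2 := h1 ⟨hxT, hxQ⟩
    have h3 : ((X₁.subgroupOf C) ⊓ (Q : Subgroup C)) ⊔ ((X₂.subgroupOf C) ⊓ (Q : Subgroup C)) ≤ T.subgroupOf C := by
      refine sup_le ?_ ?_
      · rintro y ⟨hy1, hy2⟩
        rw [hQ] at hy2
        exact Subgroup.mem_subgroupOf.2
          (Subgroup.mem_sup_left ⟨Subgroup.mem_subgroupOf.1 hy1, Subgroup.mem_subgroupOf.1 hy2⟩)
      · rintro y ⟨hy1, hy2⟩
        rw [hQ] at hy2
        exact Subgroup.mem_subgroupOf.2
          (Subgroup.mem_sup_right ⟨Subgroup.mem_subgroupOf.1 hy1, Subgroup.mem_subgroupOf.1 hy2⟩)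
    exact Subgroup.mem_subgroupOf.1 (h3 h2)
  -- the join is everything
  have hPtop : Perf p (X₁ ⊔ X₂) := hP₁.sup hP₂
  have hgen : ∀ W : Subgroup G, (∀ x : G, (orderOf x).Coprime p → x ∈ W) → W = ⊤ := by
    intro W hW
    rw [eq_top_iff, ← hC]
    exact hPtop W fun x _ hc => hW x hc
  have hgen' : ∀ W : Subgroup G, (∀ x ∈ X₁, (orderOf x).Coprime p → x ∈ W) →
      (∀ x ∈ X₂, (orderOf x).Coprime p → x ∈ W) → W = ⊤ := by
    intro W h1 h2
    rw [eq_top_iff, ← hC]
    exact sup_le (hP₁ W h1) (hP₂ W h2)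
  -- the quotient step
  have hq : ∀ N : Subgroup G, N.Normal → N ≠ ⊥ → ∀ s ∈ (S : Subgroup G), ∃ t ∈ T, t⁻¹ * s ∈ N := by
    intro N hNn hN s hs
    haveI := hNn
    let f : G →* G ⧸ N := QuotientGroup.mk' N
    have hf : Function.Surjective f := QuotientGroup.mk'_surjective N
    have h1 := IH (Nat.card (G ⧸ N)) (by rw [← hn]; exact Cfsg.Agent.Lib.LocalEven2.card_quot_lt N hN) (G ⧸ N) rfl
      (S.mapSurjective hf) (X₁.map f) (X₂.map f) (hX₁.map hf) (hX₂.map hf) (hP₁.map f) (hP₂.map f)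
    rw [Sylow.coe_mapSurjective] at h1
    have h2 : f s ∈ (X₁.map f ⊔ X₂.map f) ⊓ (S : Subgroup G).map f := by
      refine ⟨?_, ⟨s, hs, rfl⟩⟩
      rw [← Subgroup.map_sup, hC, Subgroup.map_top_of_surjective _ hf]; trivial
    have h3 := h1 h2
    have h4 : (X₁.map f ⊓ (S : Subgroup G).map f) ⊔ (X₂.map f ⊓ (S : Subgroup G).map f) ≤ T.map f := by
      rw [hT, Subgroup.map_sup]
      exact sup_le_sup (map_inf_sylow f S hX₁) (map_inf_sylow f S hX₂)
    obtain ⟨t, ht, e⟩ := h4 h3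
    refine ⟨t, ht, ?_⟩
    rw [← QuotientGroup.eq_one_iff]
    change f (t⁻¹ * s) = 1
    rw [map_mul, map_inv, e, inv_mul_cancel]
  rintro s ⟨-, hs⟩
  by_cases hO : pPrimeCore p G = ⊥
  swap
  · -- case `O_{p'}(G) ≠ 1`
    obtain ⟨t, ht, h1⟩ := hq _ inferInstance hO s hs
    have h2 : t⁻¹ * s ∈ (S : Subgroup G) := (S : Subgroup G).mul_mem ((S : Subgroup G).inv_mem (hTS ht)) hs
    have h3 : (S : Subgroup G) ⊓ pPrimeCore p G = ⊥ :=
      eq_bot_of_pgroup_le_coprime (S.isPGroup'.to_le inf_le_left) (pPrimeCore_coprime p) inf_le_right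
    have h4 : t⁻¹ * s ∈ (S : Subgroup G) ⊓ pPrimeCore p G := ⟨h2, h1⟩
    rw [h3, Subgroup.mem_bot] at h4
    have e : s = t := by
      have e2 : s = t * (t⁻¹ * s) := by group
      rw [e2, h4, mul_one]
    rw [e]; exact ht
  by_cases hQ : pCore p G = ⊥
  swap
  · -- case `O_p(G) ≠ 1`
    have hQn : (pCore p G).Normal := Cfsg.pCore_normal p G
    have hQp : IsPGroup p (pCore p G) := pCore_isPGroup p
    set Q : Subgroup G := pCore p G with hQdef
    set N : Subgroup G := Q ⊓ Subgroup.centralizer (Q : Set G) with hNdef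
    haveI hNn : N.Normal := inferInstance
    have hN1 : N ≠ ⊥ := by
      haveI : Nontrivial Q := (Subgroup.nontrivial_iff_ne_bot Q).2 hQ
      haveI := hQp.center_nontrivial
      obtain ⟨z, hz⟩ := exists_ne (1 : Subgroup.center Q)
      intro hbot
      apply hz
      have h1 : ((z : Q) : G) ∈ N := by
        refine ⟨(z : Q).2, Subgroup.mem_centralizer_iff.2 ?_⟩
        intro q hq
        have := Subgroup.mem_center_iff.1 z.2 ⟨q, hq⟩
        exact congrArg Subtype.val this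
      rw [hbot, Subgroup.mem_bot] at h1
      apply Subtype.ext
      apply Subtype.ext
      exact h1
    have hNS : N ≤ (S : Subgroup G) := inf_le_left.trans (pCore_le_sylow S)
    have hNp : IsPGroup p N := hQp.to_le inf_le_left
    have key1 : ∀ X : Subgroup G, X.IsSubnormal → ∀ x ∈ X, (orderOf x).Coprime p → ∀ u ∈ N, ⁅u, x⁆ ∈ X := by
      intro X hX x hx hc u hu
      have ca : Cfsg.Agent.Lib.Coprime.CoprimeAction (Subgroup.zpowers x) N := by
        refine ⟨?_, ?_, Or.inr (Cfsg.Agent.Lib.Components.isSolvable_of_isPGroup hNp)⟩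
        · rw [Subgroup.normalizer_eq_top_iff.2 hNn]; exact le_top
        · rw [Nat.card_zpowers]
          obtain ⟨k, hk⟩ := IsPGroup.iff_card.1 hNp
          rw [hk]
          exact Nat.Coprime.pow_right k hc
      have h1 := comm_le_subnormal (N := N) hX ((Subgroup.zpowers_le).2 hx) ca.commutator_commutator_eq
      exact h1 (Subgroup.commutator_mem_commutator hu (Subgroup.mem_zpowers x))
    have hcN : ∀ x u : G, u ∈ N → ⁅u, x⁆ ∈ N := by
      intro x u hu
      rw [commutatorElement_def]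
      have e : u * x * u⁻¹ * x⁻¹ = u * (x * u⁻¹ * x⁻¹) := by group
      rw [e]
      exact N.mul_mem hu (hNn.conj_mem _ (N.inv_mem hu) x)
    have key2 : ∀ x ∈ X₁, (orderOf x).Coprime p → ∀ u ∈ N, ⁅u, x⁆ ∈ T ⊓ N := by
      intro x hx hc u hu
      exact ⟨Subgroup.mem_sup_left ⟨key1 X₁ hX₁ x hx hc u hu, hNS (hcN x u hu)⟩, hcN x u hu⟩
    have key2' : ∀ x ∈ X₂, (orderOf x).Coprime p → ∀ u ∈ N, ⁅u, x⁆ ∈ T ⊓ N := by
      intro x hx hc u hu
      exact ⟨Subgroup.mem_sup_right ⟨key1 X₂ hX₂ x hx hc u hu, hNS (hcN x u hu)⟩, hcN x u hu⟩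
    set N₀ : Subgroup G := T ⊓ N with hN₀def
    have hconj : ∀ x u : G, ⁅u, x⁆ ∈ N₀ → u ∈ N₀ → x * u * x⁻¹ ∈ N₀ := by
      intro x u h1 h2
      have e : x * u * x⁻¹ = ⁅u, x⁆⁻¹ * u := by
        rw [commutatorElement_def]; group
      rw [e]
      exact N₀.mul_mem (N₀.inv_mem h1) h2
    haveI hN₀n : N₀.Normal := by
      rw [← Subgroup.normalizer_eq_top_iff]
      apply hgen'
      · intro x hx hc
        apply Cfsg.Agent.Lib.PGroups.mem_normalizer_of_conj_le'
        intro u hu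
        exact hconj x u (key2 x hx hc u hu.2) hu
      · intro x hx hc
        apply Cfsg.Agent.Lib.PGroups.mem_normalizer_of_conj_le'
        intro u hu
        exact hconj x u (key2' x hx hc u hu.2) hu
    by_cases hN₀ : N₀ = ⊥
    · exfalso
      have hcent : Subgroup.centralizer (N : Set G) = ⊤ := by
        apply hgen'
        · intro x hx hc
          rw [Subgroup.mem_centralizer_iff]
          intro u hu
          have h1 : ⁅u, x⁆ ∈ N₀ := key2 x hx hc u hu
          rw [hN₀, Subgroup.mem_bot] at h1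
          exact commutatorElement_eq_one_iff_mul_comm.1 h1
        · intro x hx hc
          rw [Subgroup.mem_centralizer_iff]
          intro u hu
          have h1 : ⁅u, x⁆ ∈ N₀ := key2' x hx hc u hu
          rw [hN₀, Subgroup.mem_bot] at h1
          exact commutatorElement_eq_one_iff_mul_comm.1 h1
      have hNc : N ≤ Subgroup.center G := by
        intro n hn
        rw [Subgroup.mem_center_iff]
        intro g
        have h1 : g ∈ Subgroup.centralizer (N : Set G) := by rw [hcent]; trivial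
        exact (Subgroup.mem_centralizer_iff.1 h1 n hn).symm
      exact hN1 (central_eq_bot S T N hTS hNS hNc hN₀ (hq N hNn hN1) hgen)
    · obtain ⟨t, ht, h1⟩ := hq N₀ hN₀n hN₀ s hs
      have e : s = t * (t⁻¹ * s) := by group
      rw [e]
      exact T.mul_mem ht h1.1
  -- the remaining case: `F(G) = 1`
  have hF : fittingSubgroup G = ⊥ := by
    rw [Cfsg.Agent.Lib.Components.fitting_eq_pCore hO, hQ]
  by_cases hL : layer G = ⊥
  · have hgf : generalizedFittingSubgroup G = ⊥ := by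
      rw [generalizedFittingSubgroup, hL, hF, sup_bot_eq]
    have h1 : s ∈ Subgroup.centralizer (generalizedFittingSubgroup G : Set G) := by
      rw [hgf, Subgroup.mem_centralizer_iff]
      intro h hh
      rw [Subgroup.coe_bot, Set.mem_singleton_iff] at hh
      rw [hh]; group
    have h2 := Cfsg.Agent.Lib.Components.centralizer_gfit_le h1
    rw [hgf, Subgroup.mem_bot] at h2
    rw [h2]
    exact T.one_mem
  -- components
  have hdich : ∀ L : Subgroup G, IsComponent L → L ≤ X₁ ∨ L ≤ X₂ := by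
    intro L hLc
    rcases Cfsg.Agent.Lib.Components.component_le_or_commute hLc hX₁ with h | h₁
    · exact Or.inl h
    rcases Cfsg.Agent.Lib.Components.component_le_or_commute hLc hX₂ with h | h₂
    · exact Or.inr h
    exfalso
    have h3 : X₁ ⊔ X₂ ≤ Subgroup.centralizer (L : Set G) := by
      refine sup_le ?_ ?_
      · rw [← Subgroup.commutator_eq_bot_iff_le_centralizer, Subgroup.commutator_comm]; exact h₁
      · rw [← Subgroup.commutator_eq_bot_iff_le_centralizer, Subgroup.commutator_comm]; exact h₂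
    rw [hC] at h3
    have h4 : L ≤ Subgroup.centralizer (L : Set G) := le_top.trans h3
    have h5 := Subgroup.commutator_eq_bot_iff_le_centralizer.2 h4
    rw [Cfsg.Agent.Lib.Components.component_self hLc] at h5
    exact Cfsg.Agent.Lib.Components.component_ne_bot hLc h5
  set L₁ : Subgroup G := sSup {L | IsComponent L ∧ L ≤ X₁} with hL₁
  set L₂ : Subgroup G := sSup {L | IsComponent L ∧ L ≤ X₂} with hL₂
  have hL₁X : L₁ ≤ X₁ := sSup_le fun _ h => h.2
  have hL₂X : L₂ ≤ X₂ := sSup_le fun _ h => h.2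
  have hL₁l : L₁ ≤ layer G := sSup_le fun _ h => Cfsg.Agent.Lib.Components.component_le_layer h.1
  have hL₂l : L₂ ≤ layer G := sSup_le fun _ h => Cfsg.Agent.Lib.Components.component_le_layer h.1
  have hlay : layer G = L₁ ⊔ L₂ := by
    apply le_antisymm
    · apply Cfsg.Agent.Lib.Components.layer_le
      intro L hLc
      rcases hdich L hLc with h | h
      · exact (le_sSup (show L ∈ {L | IsComponent L ∧ L ≤ X₁} from ⟨hLc, h⟩)).trans le_sup_left
      · exact (le_sSup (show L ∈ {L | IsComponent L ∧ L ≤ X₂} from ⟨hLc, h⟩)).trans le_sup_right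
    · exact sup_le hL₁l hL₂l
  have hnorm : ∀ X : Subgroup G, layer G ≤ Subgroup.normalizer ((sSup {L | IsComponent L ∧ L ≤ X} : Subgroup G) : Set G) := by
    intro X
    apply Cfsg.Agent.Lib.Components.layer_le
    intro L hLc
    by_cases hLX : L ≤ X
    · exact (le_sSup (show L ∈ {L | IsComponent L ∧ L ≤ X} from ⟨hLc, hLX⟩)).trans Subgroup.le_normalizer
    · have h1 : sSup {L | IsComponent L ∧ L ≤ X} ≤ Subgroup.centralizer (L : Set G) := by
        apply sSup_le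
        rintro L' ⟨hL'c, hL'X⟩
        have hne : L' ≠ L := fun e => hLX (e ▸ hL'X)
        intro a ha
        rw [Subgroup.mem_centralizer_iff]
        intro b hb
        exact (Cfsg.Agent.Lib.Components.component_commutes hL'c hLc hne a ha b hb).symm
      have h2 : L ≤ Subgroup.centralizer ((sSup {L | IsComponent L ∧ L ≤ X} : Subgroup G) : Set G) := by
        rw [← Subgroup.commutator_eq_bot_iff_le_centralizer, Subgroup.commutator_comm,
          Subgroup.commutator_eq_bot_iff_le_centralizer]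
        exact h1
      exact h2.trans (Cfsg.Agent.Lib.Components.centralizer_le_normalizer' _)
  have hlayS : (layer G).IsSubnormal :=
    (inferInstance : (layer G).Normal).isSubnormal
  have hL₁s : L₁.IsSubnormal := isSubnormal_of_le_normalizer hL₁l (hnorm X₁) hlayS
  have hL₂s : L₂.IsSubnormal := isSubnormal_of_le_normalizer hL₂l (hnorm X₂) hlayS
  obtain ⟨t, ht, h1⟩ := hq (layer G) inferInstance hL s hs
  have h2 : t⁻¹ * s ∈ (L₁ ⊔ L₂) ⊓ (S : Subgroup G) := by
    rw [← hlay]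
    exact ⟨h1, (S : Subgroup G).mul_mem ((S : Subgroup G).inv_mem (hTS ht)) hs⟩
  have h3 := sup_inf_le_of_normalizes (hL₂l.trans (hnorm X₁)) hL₁s hL₂s S h2
  have h4 : (L₁ ⊓ (S : Subgroup G)) ⊔ (L₂ ⊓ (S : Subgroup G)) ≤ T :=
    sup_le_sup (inf_le_inf_right _ hL₁X) (inf_le_inf_right _ hL₂X)
  have e : s = t * (t⁻¹ * s) := by group
  rw [e]
  exact T.mul_mem ht (h4 h3)

/-- The final theorem: `⟨A₁, A₂⟩ ∩ S = ⟨A₁ ∩ S, A₂ ∩ S⟩`. -/
theorem sup_inf_sylow {G : Type u} [Group G] [Finite G] {p : ℕ} [Fact p.Prime] (S : Sylow p G)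
    (A₁ A₂ : Subgroup G) (h₁ : A₁.IsSubnormal) (h₂ : A₂.IsSubnormal) :
    (A₁ ⊔ A₂) ⊓ (S : Subgroup G) = (A₁ ⊓ (S : Subgroup G)) ⊔ (A₂ ⊓ (S : Subgroup G)) := by
  classical
  apply le_antisymm
  swap
  · exact sup_le (inf_le_inf_right _ le_sup_left) (inf_le_inf_right _ le_sup_right)
  set X₁ := res p A₁ with hX₁
  set X₂ := res p A₂ with hX₂
  have hs₁ : X₁.IsSubnormal := subnormal_res h₁
  have hs₂ : X₂.IsSubnormal := subnormal_res h₂
  have hm := main_aux p _ G rfl S X₁ X₂ hs₁ hs₂ (perf_res A₁) (perf_res A₂)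
  set C : Subgroup G := X₁ ⊔ X₂ with hC
  have hN₁ : A₁ ≤ Subgroup.normalizer (C : Set G) := le_normalizer_res_sup h₁ hs₂ (perf_res A₂)
  have hN₂ : A₂ ≤ Subgroup.normalizer (C : Set G) := by
    rw [hC, sup_comm]
    exact le_normalizer_res_sup h₂ hs₁ (perf_res A₁)
  set T : Subgroup G := (A₁ ⊓ (S : Subgroup G)) ⊔ (A₂ ⊓ (S : Subgroup G)) with hT
  have hTN : T ≤ Subgroup.normalizer (C : Set G) :=
    sup_le (inf_le_left.trans hN₁) (inf_le_left.trans hN₂)
  have hdec : ∀ (A : Subgroup G), A.IsSubnormal → A ≤ res p A ⊔ (A ⊓ (S : Subgroup G)) := by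
    intro A hA
    obtain ⟨Q, hQ⟩ := sylow_inf_of_isSubnormal p A hA S
    have h1 := pResidual_sup_sylow (p := p) Q
    intro a ha
    have h2 : (⟨a, ha⟩ : A) ∈ pResidual p ↥A ⊔ (Q : Subgroup A) := by rw [h1]; trivial
    have h3 : (pResidual p ↥A ⊔ (Q : Subgroup A)).map A.subtype ≤ res p A ⊔ (A ⊓ (S : Subgroup G)) := by
      rw [Subgroup.map_sup]
      refine sup_le_sup le_rfl ?_
      rintro _ ⟨y, hy, rfl⟩
      rw [hQ] at hy
      exact ⟨y.2, Subgroup.mem_subgroupOf.1 hy⟩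
    exact h3 ⟨_, h2, rfl⟩
  have hsup : A₁ ⊔ A₂ ≤ C ⊔ T := by
    refine sup_le ((hdec A₁ h₁).trans (sup_le ?_ ?_)) ((hdec A₂ h₂).trans (sup_le ?_ ?_))
    · exact le_sup_left.trans le_sup_left
    · exact le_sup_left.trans le_sup_right
    · exact le_sup_right.trans le_sup_left
    · exact le_sup_right.trans le_sup_right
  rintro s ⟨hs1, hs2⟩
  obtain ⟨c, hc, t, ht, rfl⟩ := (Cfsg.Agent.Lib.Coprime.mem_sup_iff_of_le_normalizer hTN s).1 (hsup hs1)
  have hTS : T ≤ S := sup_le inf_le_right inf_le_right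
  have hcS : c ∈ (S : Subgroup G) := by
    have e : c = (c * t) * t⁻¹ := by group
    rw [e]
    exact (S : Subgroup G).mul_mem hs2 ((S : Subgroup G).inv_mem (hTS ht))
  have h1 := hm ⟨hc, hcS⟩
  have h2 : (X₁ ⊓ (S : Subgroup G)) ⊔ (X₂ ⊓ (S : Subgroup G)) ≤ T :=
    sup_le_sup (inf_le_inf_right _ (res_le_self A₁)) (inf_le_inf_right _ (res_le_self A₂))
  exact T.mul_mem (h2 h1) ht

end Cfsg.Agent.Lib.LocalEven2.SJ
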