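import Cfsg.Prelude.Def_SubgroupEmbedding
import Cfsg.Prelude.Def_Local
import Cfsg.Prelude.Def_Transfer
import Cfsg.Prelude.Def_Solvable
import Cfsg.Agent.Lib.Basic.Core
import Cfsg.Agent.Lib.Components.Basic
import Cfsg.Agent.Lib.Components.Layer
import Cfsg.Agent.Lib.LocalEven.PClosed

/-!
# Minimal counterexamples to the Sidki pair statement.

The reduction of a minimal counterexample `(G, V)`: the generalized Fitting subgroup is a
non-abelian simple group and `G = V F*(G)`.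
-/

set_option autoImplicit false
set_option linter.unusedSectionVars false
set_option linter.unusedVariables false

namespace Cfsg.Agent.Lib.LocalEven2.Sidki

open Subgroup Cfsg

universe u

variable {G : Type u} [Group G]

/-- Sidki condition for `U` relative to the subgroup `H`. -/
def SidkiIn (U H : Subgroup G) : Prop :=
  ∀ h ∈ H, ∀ v ∈ U, Odd (orderOf h) → v * h * v⁻¹ = h⁻¹ → ∃ w ∈ U, w ≠ 1 ∧ w * h = h * w

/-- `A` has no nontrivial normal `2`-subgroup. -/
def NoO2 (A : Subgroup G) : Prop :=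
  ∀ T : Subgroup G, T ≤ A → IsPGroup 2 T → A ≤ normalizer (T : Set G) → T = ⊥

/-- The minimality hypothesis. -/
def MinHyp (G : Type u) [Group G] : Prop :=
  ∀ (H : Type u) [Group H] [Finite H] (W : Subgroup H), Nat.card H < Nat.card G →
    IsElementaryAbelian 2 W → W ≠ ⊥ → IsSidkiPair W → W ⊓ pCore 2 H ≠ ⊥

theorem sq_one_of_elem {U : Subgroup G} (hU : IsElementaryAbelian 2 U) {u : G} (hu : u ∈ U) :
    u * u = 1 := by
  have := hU.2 u hu
  rwa [pow_two] at this

theorem inv_of_elem {U : Subgroup G} (hU : IsElementaryAbelian 2 U) {u : G} (hu : u ∈ U) :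
    u⁻¹ = u := inv_eq_of_mul_eq_one_left (sq_one_of_elem hU hu)

theorem comm_of_elem {U : Subgroup G} (hU : IsElementaryAbelian 2 U) {u v : G} (hu : u ∈ U)
    (hv : v ∈ U) : u * v = v * u := by
  have h := hU.1.is_comm.comm ⟨u, hu⟩ ⟨v, hv⟩
  exact congrArg Subtype.val h

theorem elem_of_le {U W : Subgroup G} (hU : IsElementaryAbelian 2 U) (h : W ≤ U) :
    IsElementaryAbelian 2 W :=
  ⟨⟨⟨fun a b => Subtype.ext (comm_of_elem hU (h a.2) (h b.2))⟩⟩, fun a ha => hU.2 a (h ha)⟩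

/-- The conjugate of an element of a normalized subgroup. -/
theorem conj_mem_of_normalizer {A : Subgroup G} {v a : G} (hv : v ∈ normalizer (A : Set G))
    (ha : a ∈ A) : v * a * v⁻¹ ∈ A := (mem_normalizer_iff.mp hv a).mp ha

theorem sup_mul_decomp {A U : Subgroup G} (hUA : U ≤ normalizer (A : Set G)) {x : G}
    (hx : x ∈ A ⊔ U) : ∃ a ∈ A, ∃ u ∈ U, x = a * u := by
  have h1 := Subgroup.coe_mul_of_right_le_normalizer_left A U hUA
  have h2 : x ∈ ((A ⊔ U : Subgroup G) : Set G) := hx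
  rw [h1] at h2
  obtain ⟨a, ha, u, hu, rfl⟩ := Set.mem_mul.mp h2
  exact ⟨a, ha, u, hu, rfl⟩

/-- Every element of `A ⊔ U` has its square in `A`. -/
theorem sq_mem_of_mem_sup {A U : Subgroup G} (hU : IsElementaryAbelian 2 U)
    (hUA : U ≤ normalizer (A : Set G)) {x : G} (hx : x ∈ A ⊔ U) : x * x ∈ A := by
  obtain ⟨a, ha, u, hu, rfl⟩ := sup_mul_decomp hUA hx
  have h1 : u * a * u⁻¹ ∈ A := conj_mem_of_normalizer (hUA hu) ha
  have h2 : a * u * (a * u) = a * (u * a * u⁻¹) * (u * u) := by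
    simp only [mul_assoc, inv_mul_cancel_left]
  rw [h2, sq_one_of_elem hU hu, mul_one]
  exact A.mul_mem ha h1

/-- An element of odd order is a power of its square. -/
theorem exists_pow_sq_of_odd {x : G} (h : Odd (orderOf x)) : ∃ m : ℕ, (x * x) ^ m = x := by
  have hc : Nat.Coprime 2 (orderOf x) := (Nat.coprime_two_left.mpr h)
  obtain ⟨m, hm⟩ := exists_pow_eq_self_of_coprime hc
  exact ⟨m, by rwa [pow_two] at hm⟩

theorem mem_of_sq_mem_of_odd {A : Subgroup G} {x : G} (h : Odd (orderOf x)) (hx : x * x ∈ A) :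
    x ∈ A := by
  obtain ⟨m, hm⟩ := exists_pow_sq_of_odd h
  rw [← hm]
  exact A.pow_mem hx m

theorem eq_one_of_sq_of_odd {x : G} (h : Odd (orderOf x)) (hx : x * x = 1) : x = 1 := by
  obtain ⟨m, hm⟩ := exists_pow_sq_of_odd h
  rw [← hm, hx, one_pow]

theorem eq_one_of_eq_inv_of_odd {x : G} (h : Odd (orderOf x)) (hx : x = x⁻¹) : x = 1 := by
  apply eq_one_of_sq_of_odd h
  nth_rewrite 2 [hx]
  exact mul_inv_cancel x

/-- Commuting elements of odd order have a product of odd order. -/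
theorem odd_orderOf_mul {x y : G} (hc : Commute x y) (hx : Odd (orderOf x))
    (hy : Odd (orderOf y)) : Odd (orderOf (x * y)) := by
  have h1 : orderOf (x * y) ∣ orderOf x * orderOf y := by
    apply orderOf_dvd_of_pow_eq_one
    rw [hc.mul_pow, pow_mul, pow_orderOf_eq_one, one_pow, mul_comm, pow_mul, pow_orderOf_eq_one,
      one_pow, mul_one]
  exact Odd.of_dvd_nat (hx.mul hy) h1

theorem odd_orderOf_inv {x : G} (hx : Odd (orderOf x)) : Odd (orderOf x⁻¹) := by
  rwa [orderOf_inv]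

theorem odd_orderOf_conj (g : G) {x : G} (hx : Odd (orderOf x)) : Odd (orderOf (g * x * g⁻¹)) := by
  have : g * x * g⁻¹ = (MulAut.conj g) x := rfl
  rw [this, MulEquiv.orderOf_eq]
  exact hx

variable [Finite G]

/-- **Reduction to proper subgroups.** -/
theorem sub_core (hmin : MinHyp G) {U H : Subgroup G} (hUH : U ≤ H) (hH : H ≠ ⊤)
    (hU : IsElementaryAbelian 2 U) (hU1 : U ≠ ⊥) (hs : SidkiIn U H) :
    ∃ w ∈ U, w ≠ 1 ∧ ∃ T : Subgroup G, T ≤ H ∧ IsPGroup 2 T ∧ H ≤ normalizer (T : Set G) ∧ w ∈ T := by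
  have hcard : Nat.card H < Nat.card G := by
    have h := Cfsg.Agent.Lib.Components.card_lt_of_lt' (lt_top_iff_ne_top.mpr hH)
    rwa [Subgroup.card_top] at h
  have hW1 : IsElementaryAbelian 2 (U.subgroupOf H) := by
    refine ⟨⟨⟨fun a b => ?_⟩⟩, fun a ha => ?_⟩
    · apply Subtype.ext
      apply Subtype.ext
      exact comm_of_elem hU (mem_subgroupOf.mp a.2) (mem_subgroupOf.mp b.2)
    · apply Subtype.ext
      exact hU.2 _ (mem_subgroupOf.mp ha)
  have hW2 : U.subgroupOf H ≠ ⊥ := by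
    obtain ⟨x, hx, hx1⟩ := (U.bot_or_exists_ne_one).resolve_left hU1
    intro hb
    have : (⟨x, hUH hx⟩ : H) ∈ U.subgroupOf H := mem_subgroupOf.mpr hx
    rw [hb, mem_bot] at this
    exact hx1 (congrArg Subtype.val this)
  have hW3 : IsSidkiPair (U.subgroupOf H) := by
    intro h v hv ho hinv
    have ho' : Odd (orderOf (h : G)) := by rwa [Subgroup.orderOf_coe]
    have hinv' : (v : G) * h * (v : G)⁻¹ = (h : G)⁻¹ := congrArg Subtype.val hinv
    obtain ⟨w, hw, hw1, hwc⟩ := hs h h.2 v (mem_subgroupOf.mp hv) ho' hinv'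
    refine ⟨⟨w, hUH hw⟩, mem_subgroupOf.mpr hw, fun h' => hw1 (congrArg Subtype.val h'), ?_⟩
    exact Subtype.ext hwc
  have hne := hmin H (U.subgroupOf H) hcard hW1 hW2 hW3
  obtain ⟨x, hx2, hx1⟩ := ((U.subgroupOf H ⊓ pCore 2 H).bot_or_exists_ne_one).resolve_left hne
  rw [mem_inf] at hx2
  refine ⟨x.1, mem_subgroupOf.mp hx2.1, fun h => hx1 (Subtype.ext h),
    (pCore 2 H).map H.subtype, ?_, ?_, ?_, ⟨x, hx2.2, rfl⟩⟩
  · rintro _ ⟨y, -, rfl⟩
    exact y.2
  · exact (Cfsg.Agent.Lib.Basic.pCore_isPGroup 2).map _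
  · intro g hg
    rw [mem_normalizer_iff]
    intro y
    have hN := (Cfsg.Agent.Lib.Basic.pCore_normal (G := H) 2)
    constructor
    · rintro ⟨z, hz, rfl⟩
      exact ⟨⟨g, hg⟩ * z * ⟨g, hg⟩⁻¹, hN.conj_mem z hz _, rfl⟩
    · rintro ⟨z, hz, hzy⟩
      have hy : y = g⁻¹ * z * g := by
        have : (z : G) = g * y * g⁻¹ := hzy
        rw [this]; group
      refine ⟨⟨g, hg⟩⁻¹ * z * ⟨g, hg⟩, ?_, ?_⟩
      · have := hN.conj_mem z hz (⟨g, hg⟩⁻¹)
        simpa using this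
      · rw [hy]; rfl

/-- **Not Sidki in a product.** -/
theorem not_sidki (hmin : MinHyp G) {A U : Subgroup G} (hA : NoO2 A)
    (hU : IsElementaryAbelian 2 U) (hUA : U ≤ normalizer (A : Set G)) (hne : A ⊔ U ≠ ⊤)
    (hc : ∀ w ∈ U, (∀ a ∈ A, w * a = a * w) → w = 1) :
    ∃ v ∈ U, ∃ g ∈ A, Odd (orderOf g) ∧ v * g * v⁻¹ = g⁻¹ ∧ ∀ w ∈ U, w * g = g * w → w = 1 := by
  by_cases hU1 : U = ⊥
  · refine ⟨1, U.one_mem, 1, A.one_mem, by simp, by simp, fun w hw _ => ?_⟩
    rw [hU1, mem_bot] at hw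
    exact hw
  by_contra hcon
  push_neg at hcon
  have hs : SidkiIn U (A ⊔ U) := by
    intro h hh v hv ho hinv
    have hha : h ∈ A := mem_of_sq_mem_of_odd ho (sq_mem_of_mem_sup hU hUA hh)
    obtain ⟨w, hw, hwc, hw1⟩ := hcon v hv h hha ho hinv
    exact ⟨w, hw, hw1, hwc⟩
  obtain ⟨w, hw, hw1, T, hTH, hTp, hTn, hwT⟩ := sub_core hmin (le_sup_right) hne hU hU1 hs
  apply hw1
  apply hc w hw
  intro a ha
  have hT1 : (T ⊓ A) = ⊥ := by
    apply hA
    · exact inf_le_right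
    · exact hTp.to_le inf_le_left
    · intro b hb
      rw [mem_normalizer_iff]
      intro y
      have hbH : b ∈ A ⊔ U := (le_sup_left : A ≤ A ⊔ U) hb
      simp only [mem_inf]
      constructor
      · rintro ⟨h1, h2⟩
        exact ⟨conj_mem_of_normalizer (hTn hbH) h1, A.mul_mem (A.mul_mem hb h2) (A.inv_mem hb)⟩
      · rintro ⟨h1, h2⟩
        have hb' : b⁻¹ ∈ A := A.inv_mem hb
        have h3 : y = b⁻¹ * (b * y * b⁻¹) * b⁻¹⁻¹ := by group
        rw [h3]
        exact ⟨conj_mem_of_normalizer (hTn ((le_sup_left : A ≤ A ⊔ U) hb')) h1,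
          A.mul_mem (A.mul_mem hb' h2) (A.inv_mem hb')⟩
  have h1 : a * w * a⁻¹ * w⁻¹ ∈ T := by
    have haH : a ∈ A ⊔ U := (le_sup_left : A ≤ A ⊔ U) ha
    exact T.mul_mem (conj_mem_of_normalizer (hTn haH) hwT) (T.inv_mem hwT)
  have h2 : a * w * a⁻¹ * w⁻¹ ∈ A := by
    have h3 : w * a⁻¹ * w⁻¹ ∈ A := conj_mem_of_normalizer (hUA hw) (A.inv_mem ha)
    have h4 : a * w * a⁻¹ * w⁻¹ = a * (w * a⁻¹ * w⁻¹) := by group
    rw [h4]
    exact A.mul_mem ha h3
  have h3 : a * w * a⁻¹ * w⁻¹ ∈ T ⊓ A := mem_inf.mpr ⟨h1, h2⟩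
  rw [hT1, mem_bot] at h3
  have h5 : a * w * a⁻¹ = w := by
    have := mul_eq_one_iff_eq_inv.mp h3
    rwa [inv_inv] at this
  have h6 : a * w = w * a := by
    calc a * w = a * w * a⁻¹ * a := by group
      _ = w * a := by rw [h5]
  exact h6.symm

/-- If `A ⊔ V = ⊤`, then a subgroup `B` meeting `A` trivially and with no `O₂` is trivial. -/
theorem eq_bot_of_sup_eq_top {A B U : Subgroup G} (hU : IsElementaryAbelian 2 U)
    (hUA : U ≤ normalizer (A : Set G)) (htop : A ⊔ U = ⊤) (hAB : ∀ x ∈ A, x ∈ B → x = 1)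
    (hB : NoO2 B) : B = ⊥ := by
  apply hB B le_rfl
  · intro x
    refine ⟨1, ?_⟩
    apply Subtype.ext
    have h1 : (x : G) * x ∈ A := sq_mem_of_mem_sup hU hUA (by rw [htop]; exact mem_top _)
    have h2 : (x : G) * x ∈ B := B.mul_mem x.2 x.2
    have h3 := hAB _ h1 h2
    simpa [pow_one, pow_two] using h3
  · exact le_normalizer

/-- **The Product Lemma.** -/
theorem product_lemma (hmin : MinHyp G) {V : Subgroup G} (hV : IsElementaryAbelian 2 V)
    (hS : IsSidkiPair V) {A B : Subgroup G} (hA : NoO2 A) (hB : NoO2 B)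
    (hAV : V ≤ normalizer (A : Set G)) (hBV : V ≤ normalizer (B : Set G))
    (hcomm : ∀ a ∈ A, ∀ b ∈ B, a * b = b * a) (hAB : ∀ x ∈ A, x ∈ B → x = 1)
    (hne1 : A ⊔ V ≠ ⊤) (hne2 : B ⊔ V ≠ ⊤)
    (hc : ∀ w ∈ V, (∀ a ∈ A, w * a = a * w) → (∀ b ∈ B, w * b = b * w) → w = 1) : False := by
  -- first step: `W_A = C_V(A)` acting on `B`
  let WA : Subgroup G := V ⊓ centralizer (A : Set G)
  have hWA : ∀ {w : G}, w ∈ WA ↔ w ∈ V ∧ ∀ a ∈ A, w * a = a * w := by
    intro w
    simp only [WA, mem_inf, mem_centralizer_iff, SetLike.mem_coe]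
    exact and_congr_right fun _ => ⟨fun h a ha => (h a ha).symm, fun h a ha => (h a ha).symm⟩
  have hWAV : WA ≤ V := inf_le_left
  have hne2' : B ⊔ WA ≠ ⊤ := fun h => hne2 (top_le_iff.mp (h ▸ sup_le_sup_left hWAV B))
  obtain ⟨a₁, ha₁, gB, hgB, hgBo, hinvB, hfix⟩ := not_sidki hmin hB (elem_of_le hV hWAV)
    (hWAV.trans hBV) hne2' (fun w hw hwc => hc w (hWAV hw) (hWA.mp hw).2 hwc)
  -- second step: `C_V(g_B)` acting on `A`
  let C' : Subgroup G := V ⊓ centralizer ({gB} : Set G)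
  have hC' : ∀ {w : G}, w ∈ C' ↔ w ∈ V ∧ w * gB = gB * w := by
    intro w
    simp only [C', mem_inf, mem_centralizer_iff, Set.mem_singleton_iff, forall_eq]
    exact and_congr_right fun _ => ⟨fun h => h.symm, fun h => h.symm⟩
  have hC'V : C' ≤ V := inf_le_left
  have hne1' : A ⊔ C' ≠ ⊤ := fun h => hne1 (top_le_iff.mp (h ▸ sup_le_sup_left hC'V A))
  obtain ⟨u, hu, gA, hgA, hgAo, hinvA, hfixA⟩ := not_sidki hmin hA (elem_of_le hV hC'V)
    (hC'V.trans hAV) hne1' (fun w hw hwc =>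
      hfix w (hWA.mpr ⟨hC'V hw, hwc⟩) (hC'.mp hw).2)
  -- the product
  have hcAB : gA * gB = gB * gA := hcomm gA hgA gB hgB
  have ha₁V := hWAV ha₁
  have huV := hC'V hu
  have ha₁A : a₁ * gA = gA * a₁ := (hWA.mp ha₁).2 gA hgA
  have huB : u * gB = gB * u := (hC'.mp hu).2
  have hinv : (a₁ * u) * (gA * gB) * (a₁ * u)⁻¹ = (gA * gB)⁻¹ := by
    have e1 : (a₁ * u) * (gA * gB) * (a₁ * u)⁻¹
        = a₁ * ((u * gA * u⁻¹) * (u * gB * u⁻¹)) * a₁⁻¹ := by group
    have e2 : u * gB * u⁻¹ = gB := by rw [huB]; group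
    rw [e1, hinvA, e2]
    have e3 : a₁ * (gA⁻¹ * gB) * a₁⁻¹ = (a₁ * gA⁻¹ * a₁⁻¹) * (a₁ * gB * a₁⁻¹) := by group
    have e4 : a₁ * gA⁻¹ * a₁⁻¹ = gA⁻¹ := by
      have : a₁ * gA⁻¹ = gA⁻¹ * a₁ := by
        have h := (Commute.inv_right (show Commute a₁ gA from ha₁A))
        exact h
      rw [this]; group
    rw [e3, e4, hinvB, show (gA⁻¹ * gB⁻¹) = (gB * gA)⁻¹ by group, ← hcAB]
  have hodd : Odd (orderOf (gA * gB)) := odd_orderOf_mul hcAB hgAo hgBo
  obtain ⟨w, hw, hw1, hwc⟩ := hS (gA * gB) (a₁ * u) (V.mul_mem ha₁V huV) hodd hinv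
  -- `w` fixes `gA` and `gB`
  have h1 : w * gA * w⁻¹ ∈ A := conj_mem_of_normalizer (hAV hw) hgA
  have h2 : w * gB * w⁻¹ ∈ B := conj_mem_of_normalizer (hBV hw) hgB
  have h3 : (w * gA * w⁻¹) * (w * gB * w⁻¹) = gA * gB := by
    have : (w * gA * w⁻¹) * (w * gB * w⁻¹) = w * (gA * gB) * w⁻¹ := by group
    rw [this, hwc]; group
  have h4 : gA⁻¹ * (w * gA * w⁻¹) = gB * (w * gB * w⁻¹)⁻¹ := by
    rw [inv_mul_eq_iff_eq_mul, ← mul_assoc, eq_mul_inv_iff_mul_eq]
    exact h3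
  have h5 : gA⁻¹ * (w * gA * w⁻¹) = 1 := by
    apply hAB _ (A.mul_mem (A.inv_mem hgA) h1)
    rw [h4]
    exact B.mul_mem hgB (B.inv_mem h2)
  have h6 : w * gA = gA * w := by
    have h7 : w * gA * w⁻¹ = gA := by
      have := mul_eq_one_iff_eq_inv.mp h5
      exact (inv_injective this).symm
    calc w * gA = w * gA * w⁻¹ * w := by group
      _ = gA * w := by rw [h7]
  have h8 : w * gB = gB * w := by
    have h9 : gB * (w * gB * w⁻¹)⁻¹ = 1 := by rw [← h4, h5]
    have h10 : gB = w * gB * w⁻¹ := mul_inv_eq_one.mp h9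
    calc w * gB = w * gB * w⁻¹ * w := by group
      _ = gB * w := by rw [← h10]
  exact hw1 (hfixA w (hC'.mpr ⟨hw, h8⟩) h6)

/-- The odd part of an element, relative to a homomorphism. -/
theorem exists_odd_power {Q : Type*} [Group Q] (f : G →* Q) (u : G) (h : Odd (orderOf (f u))) :
    ∃ k : ℕ, Odd (orderOf (u ^ k)) ∧ f (u ^ k) = f u := by
  obtain ⟨a, m, hm, he⟩ := Nat.exists_eq_two_pow_mul_odd (n := orderOf u) (orderOf_pos u).ne'
  have hc : Nat.Coprime (2 ^ a) (orderOf (f u)) :=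
    Nat.Coprime.pow_left _ (Nat.coprime_two_left.mpr h)
  obtain ⟨k, hk⟩ := exists_pow_eq_self_of_coprime hc
  refine ⟨2 ^ a * k, ?_, ?_⟩
  · apply Odd.of_dvd_nat hm
    apply orderOf_dvd_of_pow_eq_one
    rw [← pow_mul, show 2 ^ a * k * m = (2 ^ a * m) * k by ring, ← he, pow_mul,
      pow_orderOf_eq_one, one_pow]
  · rw [map_pow, pow_mul]; exact hk

/-- **Lifting lemma**: the image of `V` in a proper quotient is a Sidki pair. -/
theorem lift_quot (hmin : MinHyp G) {V : Subgroup G} (hV : IsElementaryAbelian 2 V) (hV1 : V ≠ ⊥)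
    (hS : IsSidkiPair V) (N : Subgroup G) [hNn : N.Normal] (hN : ∀ x ∈ V, x ∈ N → x = 1)
    (hN1 : N ≠ ⊥) : ∃ w ∈ V, w ≠ 1 ∧ QuotientGroup.mk' N w ∈ pCore 2 (G ⧸ N) := by
  let π := QuotientGroup.mk' N
  have hπ1 : ∀ x ∈ V, π x = 1 → x = 1 := fun x hx h => hN x hx ((QuotientGroup.eq_one_iff x).mp h)
  have hcard : Nat.card (G ⧸ N) < Nat.card G := by
    have h1 := Subgroup.card_eq_card_quotient_mul_card_subgroup N
    have h2 : 1 < Nat.card N := by
      obtain ⟨x, hx, hx1⟩ := N.bot_or_exists_ne_one.resolve_left hN1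
      haveI : Nontrivial N := ⟨⟨⟨x, hx⟩, 1, fun h => hx1 (congrArg Subtype.val h)⟩⟩
      exact Finite.one_lt_card
    have h3 : 0 < Nat.card (G ⧸ N) := Nat.card_pos
    rw [h1]
    nlinarith
  have hW1 : IsElementaryAbelian 2 (V.map π) := by
    refine ⟨⟨⟨fun a b => ?_⟩⟩, fun a ha => ?_⟩
    · obtain ⟨a, x, hx, hax⟩ := a
      obtain ⟨b, y, hy, hby⟩ := b
      apply Subtype.ext
      show a * b = b * a
      rw [← hax, ← hby, ← map_mul, ← map_mul, comm_of_elem hV hx hy]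
    · obtain ⟨x, hx, rfl⟩ := ha
      rw [← map_pow, hV.2 x hx, map_one]
  have hW2 : V.map π ≠ ⊥ := by
    obtain ⟨x, hx, hx1⟩ := V.bot_or_exists_ne_one.resolve_left hV1
    intro hb
    have : π x ∈ V.map π := ⟨x, hx, rfl⟩
    rw [hb, mem_bot] at this
    exact hx1 (hπ1 x hx this)
  have hW3 : IsSidkiPair (V.map π) := by
    intro h' v' hv' ho hinv
    obtain ⟨v, hv, rfl⟩ := hv'
    obtain ⟨c, rfl⟩ := QuotientGroup.mk'_surjective N h'
    change Odd (orderOf (π c)) at ho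
    change π v * π c * (π v)⁻¹ = (π c)⁻¹ at hinv
    set u := v * (c * v * c⁻¹) with hu
    have hvv : v⁻¹ = v := inv_of_elem hV hv
    have hfu : π u = (π c)⁻¹ * (π c)⁻¹ := by
      have e1 : π u = (π v * π c * (π v)⁻¹) * (π c)⁻¹ := by
        rw [hu, map_mul, map_mul, map_mul, map_inv]
        rw [← map_inv π v, hvv]
        group
      rw [e1, hinv]
    have ho2 : Odd (orderOf (π u)) := by
      rw [hfu]
      have hc : Commute (π c)⁻¹ (π c)⁻¹ := Commute.refl _
      exact odd_orderOf_mul hc (odd_orderOf_inv ho) (odd_orderOf_inv ho)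
    obtain ⟨k, hk1, hk2⟩ := exists_odd_power π u ho2
    have hinvu : v * u * v⁻¹ = u⁻¹ := by
      rw [hu, hvv]
      have : v * (v * (c * v * c⁻¹)) * v = (v * v) * (c * v * c⁻¹) * v := by group
      rw [this, sq_one_of_elem hV hv, one_mul]
      have h3 : (v * (c * v * c⁻¹))⁻¹ = c * v⁻¹ * c⁻¹ * v⁻¹ := by group
      rw [h3, hvv]
    have hinvk : v * u ^ k * v⁻¹ = (u ^ k)⁻¹ := by rw [← conj_pow, hinvu, inv_pow]
    obtain ⟨w, hw, hw1, hwc⟩ := hS (u ^ k) v hv hk1 hinvk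
    refine ⟨π w, ⟨w, hw, rfl⟩, fun h => hw1 (hπ1 w hw h), ?_⟩
    have h1 : Commute (π w) ((π c)⁻¹ * (π c)⁻¹) := by
      rw [← hfu, ← hk2]
      show π w * π (u ^ k) = π (u ^ k) * π w
      rw [← map_mul, ← map_mul, hwc]
    obtain ⟨m, hm⟩ := exists_pow_sq_of_odd (odd_orderOf_inv ho)
    have h2 : Commute (π w) (π c)⁻¹ := by rw [← hm]; exact h1.pow_right m
    have h3 : Commute (π w) (π c) := by simpa using h2.inv_right
    exact h3
  have hne := hmin (G ⧸ N) (V.map π) hcard hW1 hW2 hW3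
  obtain ⟨x, hx2, hx1⟩ := ((V.map π ⊓ pCore 2 (G ⧸ N)).bot_or_exists_ne_one).resolve_left hne
  rw [mem_inf] at hx2
  obtain ⟨⟨w, hw, rfl⟩, hx3⟩ := hx2
  exact ⟨w, hw, fun h => hx1 (by rw [h, map_one]), hx3⟩

/-- A subgroup of a normal subgroup with no `O₂`. -/
theorem noO2_of_normal (hO : pCore 2 G = ⊥) {F : Subgroup G} (hF : F.Normal) : NoO2 F := by
  intro T hTF hTp hTn
  have hsub : T.IsSubnormal :=
    .step T F hTF hF.isSubnormal ((normal_subgroupOf_iff_le_normalizer hTF).mpr hTn)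
  have := Cfsg.Agent.Lib.Components.subnormal_le_pCore hsub hTp
  rw [hO] at this
  exact le_bot_iff.mp this

theorem normalizer_of_forall {U A : Subgroup G} (h : ∀ v ∈ U, ∀ a ∈ A, v * a * v⁻¹ ∈ A) :
    U ≤ normalizer (A : Set G) := by
  intro v hv
  rw [mem_normalizer_iff]
  intro x
  refine ⟨h v hv x, fun hx => ?_⟩
  have := h v⁻¹ (U.inv_mem hv) _ hx
  simpa [mul_assoc] using this

/-- A factor of a central product has no `O₂`. -/
theorem noO2_factor {F A B : Subgroup G} (hF : NoO2 F) (hsup : A ⊔ B = F)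
    (hcomm : ∀ a ∈ A, ∀ b ∈ B, a * b = b * a) : NoO2 A := by
  intro T hTA hTp hTn
  apply hF T (hTA.trans (hsup ▸ le_sup_left)) hTp
  rw [← hsup]
  refine sup_le hTn ?_
  apply normalizer_of_forall
  intro b hb t ht
  have h1 := hcomm t (hTA ht) b hb
  have h2 : b * t * b⁻¹ = t := by rw [← h1]; group
  rw [h2]; exact ht

/-- The center of `F`, as a subgroup of `G`. -/
def zF (F : Subgroup G) : Subgroup G := F ⊓ centralizer (F : Set G)

theorem mem_zF {F : Subgroup G} {z : G} : z ∈ zF F ↔ z ∈ F ∧ ∀ g ∈ F, z * g = g * z := by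
  simp only [zF, mem_inf, mem_centralizer_iff, SetLike.mem_coe]
  exact and_congr_right fun _ => ⟨fun h a ha => (h a ha).symm, fun h a ha => (h a ha).symm⟩

/-- The standing hypotheses. -/
structure Setup (V F : Subgroup G) : Prop where
  hmin : MinHyp G
  hV : IsElementaryAbelian 2 V
  hS : IsSidkiPair V
  hVF : V ≤ normalizer (F : Set G)
  hNo : NoO2 F
  hc : ∀ w ∈ V, (∀ f ∈ F, w * f = f * w) → w = 1
  hZ : ∀ z ∈ zF F, Odd (orderOf z)

variable {V F : Subgroup G}

theorem centralizes_sup {A B : Subgroup G} {w : G} (hA : ∀ a ∈ A, w * a = a * w)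
    (hB : ∀ b ∈ B, w * b = b * w) : ∀ f ∈ A ⊔ B, w * f = f * w := by
  have : A ⊔ B ≤ centralizer ({w} : Set G) := by
    refine sup_le (fun a ha => ?_) (fun b hb => ?_)
    · rw [mem_centralizer_singleton_iff]; exact (hA a ha).symm
    · rw [mem_centralizer_singleton_iff]; exact (hB b hb).symm
  intro f hf
  exact (mem_centralizer_singleton_iff.mp (this hf)).symm

/-- No nontrivial `V`-invariant decomposition of `F`. -/
theorem Setup.no_split (h : Setup V F) {A B : Subgroup G} (hsup : A ⊔ B = F)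
    (hAV : V ≤ normalizer (A : Set G)) (hBV : V ≤ normalizer (B : Set G))
    (hcomm : ∀ a ∈ A, ∀ b ∈ B, a * b = b * a) (hAB : ∀ x ∈ A, x ∈ B → x = 1)
    (hA1 : A ≠ ⊥) (hB1 : B ≠ ⊥) : False := by
  have hNA : NoO2 A := noO2_factor h.hNo hsup hcomm
  have hNB : NoO2 B := noO2_factor h.hNo (by rwa [sup_comm]) (fun a ha b hb => (hcomm b hb a ha).symm)
  refine product_lemma h.hmin h.hV h.hS hNA hNB hAV hBV hcomm hAB ?_ ?_ ?_
  · intro htop
    exact hB1 (eq_bot_of_sup_eq_top h.hV hAV htop hAB hNB)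
  · intro htop
    exact hA1 (eq_bot_of_sup_eq_top h.hV hBV htop (fun x hx hx' => hAB x hx' hx) hNA)
  · intro w hw hwA hwB
    exact h.hc w hw (hsup ▸ centralizes_sup hwA hwB)

/-- The subgroup of central elements inverted by `w`. -/
def invSub (F : Subgroup G) (w : G) : Subgroup G where
  carrier := {z | z ∈ zF F ∧ w * z * w⁻¹ = z⁻¹}
  mul_mem' := by
    rintro a b ⟨ha, ha'⟩ ⟨hb, hb'⟩
    refine ⟨(zF F).mul_mem ha hb, ?_⟩
    have e : w * (a * b) * w⁻¹ = (w * a * w⁻¹) * (w * b * w⁻¹) := by group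
    rw [e, ha', hb', mul_inv_rev]
    have hc := (mem_zF.mp ha).2 b (mem_zF.mp hb).1
    have hc' : Commute a b := hc
    exact (hc'.inv_inv).eq
  one_mem' := ⟨(zF F).one_mem, by simp⟩
  inv_mem' := by
    rintro a ⟨ha, ha'⟩
    refine ⟨(zF F).inv_mem ha, ?_⟩
    have e : w * a⁻¹ * w⁻¹ = (w * a * w⁻¹)⁻¹ := by group
    rw [e, ha']

theorem mem_invSub {w z : G} : z ∈ invSub F w ↔ z ∈ zF F ∧ w * z * w⁻¹ = z⁻¹ := Iff.rfl

/-- The decomposition. -/
theorem Setup.decomp (h : Setup V F) (hFn : F.Normal) {w : G} (hw : w ∈ V) (hw1 : w ≠ 1)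
    (hF : ∀ f ∈ F, f⁻¹ * (w * f * w⁻¹) ∈ zF F) : ∀ f ∈ F, f ∈ zF F ∧ w * f * w⁻¹ = f⁻¹ := by
  let A := invSub F w
  let B : Subgroup G := F ⊓ centralizer ({w} : Set G)
  have hB : ∀ {x : G}, x ∈ B ↔ x ∈ F ∧ w * x = x * w := by
    intro x
    simp only [B, mem_inf, mem_centralizer_singleton_iff]
    exact and_congr_right fun _ => ⟨fun h => h.symm, fun h => h.symm⟩
  have hww : w⁻¹ = w := inv_of_elem h.hV hw
  have hAF : A ≤ F := fun z hz => (mem_zF.mp hz.1).1
  have hsq : ∀ f ∈ F, f⁻¹ * (w * f * w⁻¹) ∈ A := by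
    intro f hf
    refine ⟨hF f hf, ?_⟩
    rw [hww]
    have hwsq := sq_one_of_elem h.hV hw
    have e : w * (f⁻¹ * (w * f * w)) * w = w * f⁻¹ * w * f * (w * w) := by group
    have e2 : (f⁻¹ * (w * f * w))⁻¹ = w⁻¹ * f⁻¹ * w⁻¹ * f := by group
    rw [e, hwsq, e2, hww, mul_one]
  have hsup : A ⊔ B = F := by
    apply le_antisymm (sup_le hAF inf_le_left)
    intro f hf
    set z := f⁻¹ * (w * f * w⁻¹) with hz
    have hzA : z ∈ A := hsq f hf
    obtain ⟨m, hm⟩ := exists_pow_sq_of_odd (h.hZ z hzA.1)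
    set y := z ^ m with hy
    have hyA : y ∈ A := A.pow_mem hzA m
    have hyy : y * y = z := by
      rw [hy, ← (Commute.refl z).mul_pow, hm]
    have hfy : f * y ∈ B := by
      refine hB.mpr ⟨F.mul_mem hf (hAF hyA), ?_⟩
      have e1 : w * f * w⁻¹ = f * z := by rw [hz]; group
      have e2 : w * (f * y) * w⁻¹ = (w * f * w⁻¹) * (w * y * w⁻¹) := by group
      have e3 : w * (f * y) * w⁻¹ = f * y := by
        rw [e2, e1, hyA.2, ← hyy]
        group
      calc w * (f * y) = w * (f * y) * w⁻¹ * w := by group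
        _ = f * y * w := by rw [e3]
    have : f = (f * y) * y⁻¹ := by group
    rw [this]
    exact (A ⊔ B).mul_mem ((le_sup_right : B ≤ A ⊔ B) hfy) ((le_sup_left : A ≤ A ⊔ B) (A.inv_mem hyA))
  by_cases hB1 : B = ⊥
  · intro f hf
    rw [hB1, sup_bot_eq] at hsup
    rw [← hsup] at hf
    exact hf
  exfalso
  have hcomm : ∀ a ∈ A, ∀ b ∈ B, a * b = b * a := fun a ha b hb => (mem_zF.mp ha.1).2 b (hB.mp hb).1
  have hAB : ∀ x ∈ A, x ∈ B → x = 1 := by
    intro x hxA hxB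
    apply eq_one_of_eq_inv_of_odd (h.hZ x hxA.1)
    rw [← hxA.2, (hB.mp hxB).2]
    group
  have hAV : V ≤ normalizer (A : Set G) := by
    apply normalizer_of_forall
    intro v hv a ha
    refine ⟨mem_zF.mpr ⟨conj_mem_of_normalizer (h.hVF hv) (hAF ha), fun g hg => ?_⟩, ?_⟩
    · have h1 : v⁻¹ * g * v ∈ F := by
        have := conj_mem_of_normalizer (h.hVF (V.inv_mem hv)) hg
        simpa using this
      have h2 := (mem_zF.mp ha.1).2 _ h1
      calc v * a * v⁻¹ * g = v * (a * (v⁻¹ * g * v)) * v⁻¹ := by group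
        _ = v * ((v⁻¹ * g * v) * a) * v⁻¹ := by rw [h2]
        _ = g * (v * a * v⁻¹) := by group
    · have hcv : w * v = v * w := comm_of_elem h.hV hw hv
      have e : w * (v * a * v⁻¹) * w⁻¹ = v * (w * a * w⁻¹) * v⁻¹ := by
        have e1 : w * (v * a * v⁻¹) * w⁻¹ = (w * v) * a * (w * v)⁻¹ := by group
        have e2 : v * (w * a * w⁻¹) * v⁻¹ = (v * w) * a * (v * w)⁻¹ := by group
        rw [e1, e2, hcv]
      rw [e, ha.2]
      group
  have hBV : V ≤ normalizer (B : Set G) := by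
    apply normalizer_of_forall
    intro v hv b hb
    refine hB.mpr ⟨conj_mem_of_normalizer (h.hVF hv) (hB.mp hb).1, ?_⟩
    have hcv : w * v = v * w := comm_of_elem h.hV hw hv
    have hwv' : w * v⁻¹ = v⁻¹ * w := by
      have : Commute w v := hcv
      exact (this.inv_right).eq
    calc w * (v * b * v⁻¹) = (w * v) * b * v⁻¹ := by group
      _ = v * (w * b) * v⁻¹ := by rw [hcv]; group
      _ = v * (b * w) * v⁻¹ := by rw [(hB.mp hb).2]
      _ = v * b * (w * v⁻¹) := by group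
      _ = (v * b * v⁻¹) * w := by rw [hwv']; group
  have hA1 : A ≠ ⊥ := by
    intro hA0
    rw [hA0, bot_sup_eq] at hsup
    apply hw1
    apply h.hc w hw
    intro f hf
    rw [← hsup] at hf
    exact (hB.mp hf).2
  exact h.no_split hsup hAV hBV hcomm hAB hA1 hB1

/-- `F` admits no element of `V` with `[F, w] ≤ Z(F)`. -/
theorem Setup.no_central_action (h : Setup V F) (hFn : F.Normal) (hF1 : F ≠ ⊥) {w : G} (hw : w ∈ V)
    (hw1 : w ≠ 1) : ¬ ∀ f ∈ F, f⁻¹ * (w * f * w⁻¹) ∈ zF F := by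
  intro hF
  have h1 := h.decomp hFn hw hw1 hF
  obtain ⟨f, hf, hf1⟩ := F.bot_or_exists_ne_one.resolve_left hF1
  have hfz : f ∈ zF F := (h1 f hf).1
  obtain ⟨w', hw', hw'1, hw'c⟩ := h.hS f w hw (h.hZ f hfz) (h1 f hf).2
  have h2 : ∀ g ∈ F, g⁻¹ * (w' * g * w'⁻¹) ∈ zF F := by
    intro g hg
    have : w' * g * w'⁻¹ ∈ F := conj_mem_of_normalizer (h.hVF hw') hg
    exact (h1 _ (F.mul_mem (F.inv_mem hg) this)).1
  have h3 := (h.decomp hFn hw' hw'1 h2 f hf).2
  apply hf1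
  apply eq_one_of_eq_inv_of_odd (h.hZ f hfz)
  rw [← h3, hw'c]
  group

/-- A central extension of a `2`-group in a group with no `O₂`. -/
theorem central_ext_odd (hO : pCore 2 G = ⊥) {T Z : Subgroup G} (hT : T.Normal) (hZT : Z ≤ T)
    (hZc : ∀ z ∈ Z, ∀ t ∈ T, z * t = t * z) (h2 : ∀ t ∈ T, ∃ k : ℕ, t ^ (2 ^ k) ∈ Z) : T ≤ Z := by
  -- `T` is nilpotent
  have hq : IsPGroup 2 (T ⧸ center T) := by
    intro x
    obtain ⟨t, rfl⟩ := QuotientGroup.mk_surjective x
    obtain ⟨k, hk⟩ := h2 t.1 t.2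
    refine ⟨k, ?_⟩
    rw [← QuotientGroup.mk_pow, QuotientGroup.eq_one_iff, mem_center_iff]
    intro g
    apply Subtype.ext
    exact (hZc _ hk g.1 g.2).symm
  have hnil : Group.IsNilpotent T := by
    haveI := hq.isNilpotent
    exact of_quotient_center_nilpotent this
  -- Sylow `2` of `T` is trivial
  have hodd : ∀ t : T, Odd (orderOf t) := by
    intro t
    by_contra hne
    rw [Nat.not_odd_iff_even] at hne
    have h2d : 2 ∣ Nat.card T := (even_iff_two_dvd.mp hne).trans (orderOf_dvd_natCard t)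
    haveI : Fact (Nat.Prime 2) := ⟨Nat.prime_two⟩
    obtain ⟨P⟩ := (inferInstance : Nonempty (Sylow 2 T))
    have hP := Cfsg.Agent.Lib.Basic.sylow_map_le_pCore_of_nilpotent hT hnil 2 P
    rw [hO, le_bot_iff, map_eq_bot_iff_of_injective _ T.subtype_injective] at hP
    obtain ⟨x, hx⟩ := exists_prime_orderOf_dvd_card' (G := T) 2 h2d
    obtain ⟨Q, hQ⟩ := (IsPGroup.of_card (p := 2) (n := 1) (by
      rw [Nat.card_zpowers, hx, pow_one]) : IsPGroup 2 (zpowers x)).exists_le_sylow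
    have hQP := MulAction.exists_smul_eq T P Q
    obtain ⟨g, hg⟩ := hQP
    have hQb : (Q : Subgroup T) = ⊥ := by
      rw [← hg, Sylow.coe_subgroup_smul, hP]
      simp
    have : x ∈ (Q : Subgroup T) := hQ (mem_zpowers x)
    rw [hQb, mem_bot] at this
    rw [this, orderOf_one] at hx
    omega
  intro t ht
  obtain ⟨k, hk⟩ := h2 t ht
  have hot : Odd (orderOf t) := by
    have := hodd ⟨t, ht⟩
    rwa [Subgroup.orderOf_mk] at this
  have hc : Nat.Coprime (2 ^ k) (orderOf t) := Nat.Coprime.pow_left _ (Nat.coprime_two_left.mpr hot)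
  obtain ⟨m, hm⟩ := exists_pow_eq_self_of_coprime hc
  rw [← hm]
  exact Z.pow_mem hk m

/-! ### Components -/

/-- Conjugate of a subgroup. -/
def cjc (g : G) (K : Subgroup G) : Subgroup G := K.map (MulAut.conj g).toMonoidHom

omit [Finite G] in
theorem mem_cjc {g x : G} {K : Subgroup G} : x ∈ cjc g K ↔ g⁻¹ * x * g ∈ K := by
  constructor
  · rintro ⟨y, hy, rfl⟩
    simpa [mul_assoc] using hy
  · intro h
    exact ⟨_, h, by simp [mul_assoc]⟩

omit [Finite G] in
theorem conj_mem_cjc {g x : G} {K : Subgroup G} (hx : x ∈ K) : g * x * g⁻¹ ∈ cjc g K :=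
  ⟨x, hx, rfl⟩

omit [Finite G] in
theorem cjc_one (K : Subgroup G) : cjc 1 K = K := by
  ext x; simp [mem_cjc]

omit [Finite G] in
theorem cjc_mul (g h : G) (K : Subgroup G) : cjc (g * h) K = cjc g (cjc h K) := by
  ext x; simp only [mem_cjc, mul_inv_rev, mul_assoc]

/-- The stabilizer of a subgroup under conjugation. -/
def cjStab (L : Subgroup G) : Subgroup G where
  carrier := {v | cjc v L = L}
  mul_mem' := by
    intro a b ha hb
    simp only [Set.mem_setOf_eq] at *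
    rw [cjc_mul, hb, ha]
  one_mem' := cjc_one L
  inv_mem' := by
    intro a ha
    simp only [Set.mem_setOf_eq] at *
    nth_rewrite 1 [← ha]
    rw [← cjc_mul, inv_mul_cancel, cjc_one]

omit [Finite G] in
theorem sSup_commute {S S' : Set (Subgroup G)}
    (h : ∀ K ∈ S, ∀ K' ∈ S', ∀ a ∈ K, ∀ b ∈ K', a * b = b * a) :
    ∀ a ∈ sSup S, ∀ b ∈ sSup S', a * b = b * a := by
  have h1 : sSup S ≤ centralizer ((sSup S' : Subgroup G) : Set G) := by
    refine sSup_le fun K hK => ?_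
    rw [le_centralizer_iff]
    refine sSup_le fun K' hK' => ?_
    intro b hb
    rw [mem_centralizer_iff]
    intro a ha
    exact h K hK K' hK' a ha b hb
  intro a ha b hb
  exact (mem_centralizer_iff.mp (h1 ha) b hb).symm

theorem sSup_invariant {S : Set (Subgroup G)} {U : Subgroup G}
    (h : ∀ v ∈ U, ∀ K ∈ S, cjc v K ∈ S) : U ≤ normalizer ((sSup S : Subgroup G) : Set G) := by
  apply normalizer_of_forall
  intro v hv a ha
  have h1 : sSup S ≤ (sSup S).comap (MulAut.conj v).toMonoidHom := by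
    refine sSup_le fun K hK => ?_
    intro x hx
    show v * x * v⁻¹ ∈ sSup S
    exact (le_sSup (h v hv K hK) : cjc v K ≤ sSup S) (conj_mem_cjc hx)
  exact h1 ha

omit [Finite G] in
theorem cjc_sSup (g : G) (S : Set (Subgroup G)) : cjc g (sSup S) = sSup (cjc g '' S) := by
  rw [sSup_eq_iSup, sSup_image]
  simp only [cjc, Subgroup.map_iSup]

/-- Two distinct components commute elementwise. -/
theorem component_pair_comm {K K' : Subgroup G} (hK : IsComponent K) (hK' : IsComponent K')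
    (hne : K ≠ K') : ∀ a ∈ K, ∀ b ∈ K', a * b = b * a := by
  rcases Cfsg.Agent.Lib.Components.component_eq_or_commute hK hK' with h | h
  · exact absurd h hne
  · rw [commutator_eq_bot_iff_le_centralizer] at h
    intro a ha b hb
    exact (mem_centralizer_iff.mp (h ha) b hb).symm

/-- **Lemma D**: a decomposition of `F` swapped by `u`. -/
theorem Setup.lemma_D (h : Setup V F) {A V₂ : Subgroup G} {u : G} (hV₂ : V₂ ≤ V) (hu : u ∈ V)
    (hcov : ∀ x ∈ V, x ∈ V₂ ∨ ∃ v ∈ V₂, x = v * u) (hV₂A : V₂ ≤ normalizer (A : Set G))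
    (hsup : A ⊔ cjc u A = F) (hcomm : ∀ a ∈ A, ∀ b ∈ cjc u A, a * b = b * a)
    (hAB : ∀ x ∈ A, x ∈ cjc u A → x = 1) (hA1 : A ≠ ⊥) : False := by
  have hNA : NoO2 A := noO2_factor h.hNo hsup hcomm
  have hNB : NoO2 (cjc u A) :=
    noO2_factor h.hNo (by rwa [sup_comm]) (fun a ha b hb => (hcomm b hb a ha).symm)
  have hV₂e := elem_of_le h.hV hV₂
  have huu : u⁻¹ = u := inv_of_elem h.hV hu
  have hB1 : cjc u A ≠ ⊥ := by
    intro hb
    apply hA1
    rw [eq_bot_iff]
    intro a ha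
    have := conj_mem_cjc (g := u) ha
    rw [hb, mem_bot] at this
    rw [mem_bot]
    have h2 : a = u⁻¹ * (u * a * u⁻¹) * u := by group
    rw [h2, this]; simp
  have hne : A ⊔ V₂ ≠ ⊤ := by
    intro htop
    exact hB1 (eq_bot_of_sup_eq_top hV₂e hV₂A htop hAB hNB)
  have hcA : ∀ w ∈ V₂, (∀ a ∈ A, w * a = a * w) → w = 1 := by
    intro w hw hwc
    apply h.hc w (hV₂ hw)
    rw [← hsup]
    refine centralizes_sup hwc ?_
    intro b hb
    have hb' := mem_cjc.mp hb
    have h1 := hwc _ hb'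
    have hcu : w * u = u * w := comm_of_elem h.hV (hV₂ hw) hu
    have hcu' : w * u⁻¹ = u⁻¹ * w := by
      have : Commute w u := hcu
      exact this.inv_right.eq
    calc w * b = u * (w * (u⁻¹ * b * u)) * u⁻¹ := by
          rw [show u * (w * (u⁻¹ * b * u)) * u⁻¹ = (u * w * u⁻¹) * b by group, ← hcu]
          group
      _ = u * ((u⁻¹ * b * u) * w) * u⁻¹ := by rw [h1]
      _ = b * (u * w * u⁻¹) := by group
      _ = b * w := by rw [← hcu]; group
  obtain ⟨y₀, hy₀, a₀, ha₀, ho, hinv, hfix⟩ := not_sidki h.hmin hNA hV₂e hV₂A hne hcA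
  by_cases ha₀1 : a₀ = 1
  · -- `V₂` is trivial
    have hV₂b : ∀ w ∈ V₂, w = 1 := fun w hw => hfix w hw (by rw [ha₀1]; simp)
    -- an element of odd order in `A`
    have hex : ∃ a ∈ A, a ≠ 1 ∧ Odd (orderOf a) := by
      by_contra hcon
      push_neg at hcon
      apply hA1
      have hcard : Nat.card A = 2 ^ (Nat.card A).primeFactorsList.length := by
        apply Nat.eq_prime_pow_of_unique_prime_dvd Nat.card_pos.ne'
        intro d hd hdvd
        by_contra hd2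
        haveI : Fact d.Prime := ⟨hd⟩
        obtain ⟨x, hx⟩ := exists_prime_orderOf_dvd_card' (G := A) d hdvd
        have hx1 : (x : G) ≠ 1 := by
          intro h1
          have : x = 1 := Subtype.ext h1
          rw [this, orderOf_one] at hx
          exact hd.one_lt.ne hx
        refine hcon x x.2 hx1 ?_
        rw [Subgroup.orderOf_coe, hx]
        exact hd.odd_of_ne_two hd2
      exact hNA A le_rfl (IsPGroup.of_card hcard) le_normalizer
    obtain ⟨a, ha, ha1, hao⟩ := hex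
    set h' := a * (u * a⁻¹ * u⁻¹) with hh'
    have hua : u * a⁻¹ * u⁻¹ ∈ cjc u A := conj_mem_cjc (A.inv_mem ha)
    have hinv' : u * h' * u⁻¹ = h'⁻¹ := by
      rw [hh']
      have e1 : u * (a * (u * a⁻¹ * u⁻¹)) * u⁻¹ = (u * a * u⁻¹) * (u * u * a⁻¹ * u⁻¹ * u⁻¹) := by
        group
      have e2 : (a * (u * a⁻¹ * u⁻¹))⁻¹ = u * a * u⁻¹ * a⁻¹ := by group
      have huuu : u * u = 1 := sq_one_of_elem h.hV hu
      have e3 : u * u * a⁻¹ * u⁻¹ * u⁻¹ = a⁻¹ := by
        rw [huuu, huu, one_mul, mul_assoc, huuu, mul_one]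
      rw [e1, e2, e3, mul_assoc]
    have hoh : Odd (orderOf h') := by
      refine odd_orderOf_mul ?_ hao (odd_orderOf_conj u (odd_orderOf_inv hao))
      exact hcomm a ha _ hua
    obtain ⟨w, hw, hw1, hwc⟩ := h.hS h' u hu hoh hinv'
    have hwu : w = u := by
      rcases hcov w hw with h1 | ⟨v, hv, h1⟩
      · exact absurd (hV₂b w h1) hw1
      · rw [h1, hV₂b v hv, one_mul]
    rw [hwu] at hwc
    have h2 : h' = h'⁻¹ := by
      rw [← hinv', hwc]; group
    have h3 : h' = 1 := eq_one_of_eq_inv_of_odd hoh h2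
    have h4 : a = u * a * u⁻¹ := by
      rw [hh', show u * a⁻¹ * u⁻¹ = (u * a * u⁻¹)⁻¹ by group] at h3
      exact mul_inv_eq_one.mp h3
    apply ha1
    apply hAB a ha
    rw [h4]
    exact conj_mem_cjc ha
  · obtain ⟨w, hw, hw1, hwc⟩ := h.hS a₀ y₀ (hV₂ hy₀) ho hinv
    rcases hcov w hw with h1 | ⟨v, hv, h1⟩
    · exact hw1 (hfix w h1 hwc)
    · apply ha₀1
      apply hAB a₀ ha₀
      have h2 : a₀ = w * a₀ * w⁻¹ := by rw [hwc]; group
      rw [h2, h1]
      have hcu : v * u = u * v := comm_of_elem h.hV (hV₂ hv) hu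
      have e : v * u * a₀ * (v * u)⁻¹ = u * (v * a₀ * v⁻¹) * u⁻¹ := by
        rw [hcu]; group
      rw [e]
      exact conj_mem_cjc (conj_mem_of_normalizer (hV₂A hv) ha₀)

/-- The layer case: there is only one component. -/
theorem Setup.unique_component (h : Setup V F) (hFl : F = layer G) (hZ : zF F = ⊥) {L : Subgroup G}
    (hL : IsComponent L) : F = L := by
  let C : Set (Subgroup G) := {K | IsComponent K}
  have hFC : F = sSup C := hFl
  have hcj : ∀ (v : G) {K : Subgroup G}, K ∈ C → cjc v K ∈ C := fun v K hK =>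
    Cfsg.Agent.Lib.Components.component_conj hK v
  -- helper for decompositions
  have hdec : ∀ {S S' : Set (Subgroup G)}, S ∪ S' = C → (∀ K ∈ S, ∀ K' ∈ S', K ≠ K') →
      sSup S ⊔ sSup S' = F ∧ (∀ a ∈ sSup S, ∀ b ∈ sSup S', a * b = b * a) ∧
        (∀ x ∈ sSup S, x ∈ sSup S' → x = 1) := by
    intro S S' hU hd
    have hS : S ⊆ C := fun K hK => hU ▸ Or.inl hK
    have hS' : S' ⊆ C := fun K hK => hU ▸ Or.inr hK
    have h1 : sSup S ⊔ sSup S' = F := by rw [hFC, ← hU, sSup_union]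
    have h2 : ∀ a ∈ sSup S, ∀ b ∈ sSup S', a * b = b * a :=
      sSup_commute fun K hK K' hK' => component_pair_comm (hS hK) (hS' hK') (hd K hK K' hK')
    refine ⟨h1, h2, fun x hxS hxS' => ?_⟩
    have h3 : x ∈ zF F := by
      refine mem_zF.mpr ⟨h1 ▸ (le_sup_left : sSup S ≤ sSup S ⊔ sSup S') hxS, ?_⟩
      rw [← h1]
      exact centralizes_sup (fun a ha => (h2 a ha x hxS').symm) (fun b hb => h2 x hxS b hb)
    rw [hZ, mem_bot] at h3
    exact h3
  let O : Set (Subgroup G) := {K | ∃ v ∈ V, K = cjc v L}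
  have hOC : O ⊆ C := by
    rintro K ⟨v, -, rfl⟩
    exact hcj v hL
  have hLO : L ∈ O := ⟨1, V.one_mem, (cjc_one L).symm⟩
  have hne : ∀ {K : Subgroup G}, K ∈ C → K ≠ ⊥ :=
    fun hK => Cfsg.Agent.Lib.Components.component_ne_bot hK
  by_cases hOe : O = C
  swap
  · -- a proper invariant subset
    exfalso
    have hU : O ∪ (C \ O) = C := Set.union_diff_cancel hOC
    obtain ⟨h1, h2, h3⟩ := hdec hU (fun K hK K' hK' he => hK'.2 (he ▸ hK))
    obtain ⟨K₀, hK₀⟩ : ∃ K₀, K₀ ∈ C \ O := by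
      by_contra hcon
      push_neg at hcon
      apply hOe
      apply Set.Subset.antisymm hOC
      intro K hK
      by_contra hKO
      exact hcon K ⟨hK, hKO⟩
    refine h.no_split h1 ?_ ?_ h2 h3 ?_ ?_
    · apply sSup_invariant
      rintro v hv K ⟨x, hx, rfl⟩
      exact ⟨v * x, V.mul_mem hv hx, (cjc_mul v x L).symm⟩
    · apply sSup_invariant
      rintro v hv K ⟨hKC, hKO⟩
      refine ⟨hcj v hKC, ?_⟩
      rintro ⟨x, hx, hxe⟩
      apply hKO
      refine ⟨v⁻¹ * x, V.mul_mem (V.inv_mem hv) hx, ?_⟩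
      rw [cjc_mul, ← hxe, ← cjc_mul, inv_mul_cancel, cjc_one]
    · intro hb
      apply hne hL
      exact le_bot_iff.mp (hb ▸ le_sSup hLO)
    · intro hb
      apply hne hK₀.1
      exact le_bot_iff.mp (hb ▸ le_sSup hK₀)
  by_cases hst : ∀ v ∈ V, cjc v L = L
  · -- a single component
    have : C = {L} := by
      rw [← hOe]
      ext K
      constructor
      · rintro ⟨v, hv, rfl⟩
        exact hst v hv
      · rintro rfl
        exact hLO
    rw [hFC, this, sSup_singleton]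
  exfalso
  push_neg at hst
  obtain ⟨u, hu, hu1⟩ := hst
  -- a maximal subgroup of `V` containing the stabilizer and not `u`
  let X : Set (Subgroup G) := {H | H ≤ V ∧ V ⊓ cjStab L ≤ H ∧ u ∉ H}
  have hXne : X.Nonempty := ⟨V ⊓ cjStab L, inf_le_left, le_rfl, fun hm => hu1 (mem_inf.mp hm).2⟩
  obtain ⟨V₂, hV₂⟩ := X.toFinite.exists_maximal hXne
  obtain ⟨⟨hV₂V, hV₂N, huV₂⟩, hmax⟩ := hV₂
  have hcov : ∀ x ∈ V, x ∈ V₂ ∨ ∃ v ∈ V₂, x = v * u := by
    intro x hx
    by_contra hcon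
    push_neg at hcon
    obtain ⟨hxV₂, hcon2⟩ := hcon
    have hV₂norm : V₂ ≤ normalizer ((zpowers x : Subgroup G) : Set G) := by
      apply normalizer_of_forall
      intro v hv a ha
      have haV : a ∈ V := (zpowers_le.mpr hx) ha
      have : v * a * v⁻¹ = a := by rw [comm_of_elem h.hV (hV₂V hv) haV]; group
      rw [this]; exact ha
    by_cases hum : u ∈ zpowers x ⊔ V₂
    · obtain ⟨b, hb, v, hv, hbv⟩ := sup_mul_decomp hV₂norm hum
      obtain ⟨k, rfl⟩ := mem_zpowers_iff.mp hb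
      have hxx : x * x = 1 := sq_one_of_elem h.hV hx
      rcases Int.even_or_odd k with hk | hk
      · have hone : x ^ k = 1 := by
          obtain ⟨m, rfl⟩ := hk
          rw [← two_mul, zpow_mul, zpow_two, hxx, one_zpow]
        rw [hone, one_mul] at hbv
        exact huV₂ (hbv ▸ hv)
      · have hone : x ^ k = x := by
          obtain ⟨m, rfl⟩ := hk
          rw [zpow_add_one, zpow_mul, zpow_two, hxx, one_zpow, one_mul]
        rw [hone] at hbv
        apply hcon2 v⁻¹ (V₂.inv_mem hv)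
        have hc2 : v⁻¹ * u = u * v⁻¹ :=
          comm_of_elem h.hV (V.inv_mem (hV₂V hv)) hu
        rw [hc2, hbv]
        group
    · have hmem : zpowers x ⊔ V₂ ∈ X := ⟨sup_le (zpowers_le.mpr hx) hV₂V,
        hV₂N.trans le_sup_right, hum⟩
      have := hmax hmem (le_sup_right)
      exact hxV₂ (this ((le_sup_left : zpowers x ≤ zpowers x ⊔ V₂) (mem_zpowers x)))
  let S : Set (Subgroup G) := {K | ∃ v ∈ V₂, K = cjc v L}
  let S' : Set (Subgroup G) := cjc u '' S
  have hU : S ∪ S' = C := by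
    rw [← hOe]
    ext K
    constructor
    · rintro (⟨v, hv, rfl⟩ | ⟨_, ⟨v, hv, rfl⟩, rfl⟩)
      · exact ⟨v, hV₂V hv, rfl⟩
      · exact ⟨u * v, V.mul_mem hu (hV₂V hv), (cjc_mul _ _ _).symm⟩
    · rintro ⟨x, hx, rfl⟩
      rcases hcov x hx with h1 | ⟨v, hv, rfl⟩
      · exact Or.inl ⟨x, h1, rfl⟩
      · refine Or.inr ⟨_, ⟨v, hv, rfl⟩, ?_⟩
        rw [← cjc_mul, comm_of_elem h.hV hu (hV₂V hv)]
  have hd : ∀ K ∈ S, ∀ K' ∈ S', K ≠ K' := by
    rintro _ ⟨v, hv, rfl⟩ _ ⟨_, ⟨v', hv', rfl⟩, rfl⟩ he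
    have hmem : v⁻¹ * (u * v') ∈ V ⊓ cjStab L := by
      refine mem_inf.mpr ⟨V.mul_mem (V.inv_mem (hV₂V hv)) (V.mul_mem hu (hV₂V hv')), ?_⟩
      show cjc _ L = L
      rw [cjc_mul, cjc_mul, ← he, ← cjc_mul, inv_mul_cancel, cjc_one]
    have h2 := hV₂N hmem
    apply huV₂
    have e : u = v * (v⁻¹ * (u * v')) * v'⁻¹ := by group
    rw [e]
    exact V₂.mul_mem (V₂.mul_mem hv h2) (V₂.inv_mem hv')
  obtain ⟨h1, h2, h3⟩ := hdec hU hd
  have hB : sSup S' = cjc u (sSup S) := (cjc_sSup u S).symm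
  rw [hB] at h1 h2 h3
  apply h.lemma_D hV₂V hu hcov ?_ h1 h2 h3 ?_
  · apply sSup_invariant
    rintro v hv K ⟨x, hx, rfl⟩
    exact ⟨v * x, V₂.mul_mem hv hx, (cjc_mul v x L).symm⟩
  · intro hb
    apply hne hL
    exact le_bot_iff.mp (hb ▸ le_sSup (⟨1, V₂.one_mem, (cjc_one L).symm⟩ : L ∈ S))

/-- An abelian normal subgroup has odd order when `O₂(G) = 1`. -/
theorem odd_of_abelian_normal (hO : pCore 2 G = ⊥) {Z : Subgroup G} (hZn : Z.Normal)
    (hZc : ∀ a ∈ Z, ∀ b ∈ Z, a * b = b * a) : ∀ z ∈ Z, Odd (orderOf z) := by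
  let T : Subgroup G :=
    { carrier := {t | t ∈ Z ∧ t * t = 1}
      mul_mem' := by
        rintro a b ⟨ha, ha'⟩ ⟨hb, hb'⟩
        refine ⟨Z.mul_mem ha hb, ?_⟩
        calc a * b * (a * b) = a * (b * a) * b := by group
          _ = a * (a * b) * b := by rw [hZc b hb a ha]
          _ = (a * a) * (b * b) := by group
          _ = 1 := by rw [ha', hb', one_mul]
      one_mem' := ⟨Z.one_mem, by simp⟩
      inv_mem' := by
        rintro a ⟨ha, ha'⟩
        exact ⟨Z.inv_mem ha, by rw [← mul_inv_rev, ha', inv_one]⟩ }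
  have hTn : T.Normal := by
    refine ⟨fun t ht g => ⟨hZn.conj_mem t ht.1 g, ?_⟩⟩
    calc g * t * g⁻¹ * (g * t * g⁻¹) = g * (t * t) * g⁻¹ := by group
      _ = 1 := by rw [ht.2]; group
  have hTp : IsPGroup 2 T := by
    intro x
    refine ⟨1, Subtype.ext ?_⟩
    have := x.2.2
    simpa [pow_one, pow_two] using this
  have hTb : T ≤ ⊥ := hO ▸ Cfsg.Agent.Lib.Basic.le_pCore hTn hTp
  intro z hz
  by_contra hne
  rw [Nat.not_odd_iff_even] at hne
  obtain ⟨m, hm⟩ := hne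
  have hpos : 0 < orderOf z := orderOf_pos z
  have hy : z ^ m ≠ 1 := pow_ne_one_of_lt_orderOf (by omega) (by omega)
  have hy2 : z ^ m ∈ T := by
    refine ⟨Z.pow_mem hz m, ?_⟩
    rw [← pow_add, ← hm, pow_orderOf_eq_one]
  have := hTb hy2
  rw [mem_bot] at this
  exact hy this

/-- **Main theorem.** -/
theorem main (V : Subgroup G) (hV : IsElementaryAbelian 2 V) (hV1 : V ≠ ⊥) (hS : IsSidkiPair V)
    (hVO : V ⊓ pCore 2 G = ⊥) (hmin : MinHyp G) :
    IsSimpleGroup (generalizedFittingSubgroup G) ∧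
      ¬ IsMulCommutative (generalizedFittingSubgroup G) ∧ V ⊔ generalizedFittingSubgroup G = ⊤ := by
  have hO : pCore 2 G = ⊥ := by
    by_contra hne
    haveI := Cfsg.Agent.Lib.Basic.pCore_normal (G := G) 2
    have hN : ∀ x ∈ V, x ∈ pCore 2 G → x = 1 := fun x hx hx' => by
      have : x ∈ V ⊓ pCore 2 G := mem_inf.mpr ⟨hx, hx'⟩
      rwa [hVO, mem_bot] at this
    obtain ⟨w, hw, hw1, hwp⟩ := lift_quot hmin hV hV1 hS (pCore 2 G) hN hne
    haveI : Fact (Nat.Prime 2) := ⟨Nat.prime_two⟩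
    rw [Cfsg.Agent.Lib.LocalEven.pCore_quotient (pCore 2 G) (Cfsg.Agent.Lib.Basic.pCore_isPGroup 2)]
      at hwp
    obtain ⟨y, hy, hyw⟩ := hwp
    have h1 : QuotientGroup.mk' (pCore 2 G) w = 1 := by
      rw [← hyw]
      exact (QuotientGroup.eq_one_iff y).mpr hy
    exact hw1 (hN w hw ((QuotientGroup.eq_one_iff w).mp h1))
  set F := generalizedFittingSubgroup G with hFdef
  haveI hFn : F.Normal := Cfsg.Agent.Lib.Components.gfit_normal
  have hFc : centralizer (F : Set G) ≤ F := Cfsg.Agent.Lib.Components.centralizer_gfit_le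
  have hNo : NoO2 F := noO2_of_normal hO hFn
  have hZn : (zF F).Normal := by
    unfold zF
    infer_instance
  have hZodd : ∀ z ∈ zF F, Odd (orderOf z) := odd_of_abelian_normal hO hZn
    (fun a ha b hb => (mem_zF.mp ha).2 b (mem_zF.mp hb).1)
  have hVN : V ≤ normalizer (F : Set G) := by
    rw [normalizer_eq_top_iff.mpr hFn]
    exact le_top
  have hcc : ∀ w ∈ V, (∀ f ∈ F, w * f = f * w) → w = 1 := by
    intro w hw hwc
    have h1 : w ∈ centralizer (F : Set G) := by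
      rw [mem_centralizer_iff]
      exact fun f hf => (hwc f hf).symm
    have h2 : w ∈ zF F := mem_zF.mpr ⟨hFc h1, hwc⟩
    exact eq_one_of_sq_of_odd (hZodd w h2) (sq_one_of_elem hV hw)
  have hSet : Setup V F := ⟨hmin, hV, hS, hVN, hNo, hcc, hZodd⟩
  have hF1 : F ≠ ⊥ := by
    intro hb
    apply hV1
    rw [eq_bot_iff]
    intro x _
    have : x ∈ centralizer (F : Set G) := by
      rw [mem_centralizer_iff]
      intro f hf
      have hf' : f ∈ F := hf
      rw [hb, mem_bot] at hf'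
      rw [hf']; simp
    have := hFc this
    rwa [hb] at this
  -- the centre is trivial
  have hZ : zF F = ⊥ := by
    by_contra hne
    have hN : ∀ x ∈ V, x ∈ zF F → x = 1 := fun x hx hx' =>
      eq_one_of_sq_of_odd (hZodd x hx') (sq_one_of_elem hV hx)
    obtain ⟨w, hw, hw1, hwp⟩ := lift_quot hmin hV hV1 hS (zF F) hN hne
    haveI := Cfsg.Agent.Lib.Basic.pCore_normal (G := G ⧸ zF F) 2
    let T : Subgroup G := (pCore 2 (G ⧸ zF F)).comap (QuotientGroup.mk' (zF F)) ⊓ F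
    have hT : T.Normal := by infer_instance
    have hTZ : T ≤ zF F := by
      apply central_ext_odd hO hT
      · intro z hz
        refine mem_inf.mpr ⟨?_, (mem_zF.mp hz).1⟩
        have h0 : QuotientGroup.mk' (zF F) z = 1 := (QuotientGroup.eq_one_iff z).mpr hz
        rw [mem_comap, h0]
        exact one_mem _
      · intro z hz t ht
        exact (mem_zF.mp hz).2 t (mem_inf.mp ht).2
      · intro t ht
        haveI : Fact (Nat.Prime 2) := ⟨Nat.prime_two⟩
        have h1 : QuotientGroup.mk' (zF F) t ∈ pCore 2 (G ⧸ zF F) := (mem_inf.mp ht).1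
        obtain ⟨k, hk⟩ := Cfsg.Agent.Lib.Basic.pCore_isPGroup (G := G ⧸ zF F) 2 ⟨_, h1⟩
        refine ⟨k, ?_⟩
        have h2 : (QuotientGroup.mk' (zF F) t) ^ (2 ^ k) = 1 := congrArg Subtype.val hk
        rw [← map_pow] at h2
        exact (QuotientGroup.eq_one_iff _).mp h2
    apply hSet.no_central_action hFn hF1 hw hw1
    intro f hf
    apply hTZ
    refine mem_inf.mpr ⟨?_, F.mul_mem (F.inv_mem hf) (conj_mem_of_normalizer (hVN hw) hf)⟩
    have hN2 := Cfsg.Agent.Lib.Basic.pCore_normal (G := G ⧸ zF F) 2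
    have hwT : w ∈ (pCore 2 (G ⧸ zF F)).comap (QuotientGroup.mk' (zF F)) := hwp
    have hT2 : ((pCore 2 (G ⧸ zF F)).comap (QuotientGroup.mk' (zF F))).Normal := inferInstance
    have e : f⁻¹ * (w * f * w⁻¹) = (f⁻¹ * w * f⁻¹⁻¹) * w⁻¹ := by group
    rw [e]
    exact mul_mem (hT2.conj_mem w hwT f⁻¹) (inv_mem hwT)
  -- the Fitting subgroup is trivial
  have hfit : fittingSubgroup G = ⊥ := by
    by_contra hne
    haveI hnil : Group.IsNilpotent (fittingSubgroup G) := Cfsg.Agent.Lib.Basic.fittingSubgroup_isNilpotent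
    haveI : Nontrivial (fittingSubgroup G) := (nontrivial_iff_ne_bot _).mpr hne
    have hcz := Group.IsNilpotent.center_ne_bot (G := fittingSubgroup G)
    obtain ⟨z, hz, hz1⟩ := (center (fittingSubgroup G)).bot_or_exists_ne_one.resolve_left hcz
    have hzm : (z : G) ∈ zF F := by
      refine mem_zF.mpr ⟨(le_sup_right : fittingSubgroup G ≤ layer G ⊔ fittingSubgroup G) z.2, ?_⟩
      rw [hFdef, generalizedFittingSubgroup]
      apply centralizes_sup
      · intro a ha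
        have h1 := Cfsg.Agent.Lib.Components.layer_commutator_fitting (G := G)
        rw [commutator_eq_bot_iff_le_centralizer] at h1
        exact mem_centralizer_iff.mp (h1 ha) z z.2
      · intro b hb
        have := mem_center_iff.mp hz ⟨b, hb⟩
        exact (congrArg Subtype.val this).symm
    rw [hZ, mem_bot] at hzm
    exact hz1 (Subtype.ext hzm)
  have hFl : F = layer G := by rw [hFdef, generalizedFittingSubgroup, hfit, sup_bot_eq]
  obtain ⟨L, hL⟩ : ∃ L : Subgroup G, IsComponent L := by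
    by_contra hcon
    push_neg at hcon
    apply hF1
    rw [hFl, eq_bot_iff]
    exact Cfsg.Agent.Lib.Components.layer_le (fun L hL => absurd hL (hcon L))
  have hFL : F = L := hSet.unique_component hFl hZ hL
  refine ⟨?_, ?_, ?_⟩
  · rw [hFL]
    haveI hnt := Cfsg.Agent.Lib.Components.qs_nontrivial hL.2
    refine ⟨fun N hN => ?_⟩
    rcases Cfsg.Agent.Lib.Components.qs_normal hL.2 N with h1 | h1
    · exact Or.inr h1
    · left
      rw [eq_bot_iff]
      intro x hx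
      have h2 := h1 hx
      have h3 : (x : G) ∈ zF F := by
        rw [hFL]
        refine mem_zF.mpr ⟨x.2, fun g hg => ?_⟩
        have := (mem_center_iff.mp h2) ⟨g, hg⟩
        exact (congrArg Subtype.val this).symm
      rw [hZ, mem_bot] at h3
      rw [mem_bot]
      exact Subtype.ext h3
  · intro hc
    apply hF1
    rw [eq_bot_iff, ← hZ]
    intro f hf
    refine mem_zF.mpr ⟨hf, fun g hg => ?_⟩
    exact congrArg Subtype.val (hc.is_comm.comm ⟨f, hf⟩ ⟨g, hg⟩)
  · by_contra hne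
    obtain ⟨v, hv, g, hg, ho, hinv, hfix⟩ := not_sidki hmin hNo hV hVN
      (by rwa [sup_comm]) hcc
    obtain ⟨w, hw, hw1, hwc⟩ := hS g v hv ho hinv
    exact hw1 (hfix w hw hwc)

end Cfsg.Agent.Lib.LocalEven2.Sidki
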