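import Mathlib

/-! 2-groups with a commuting pair of automorphisms of orders 2 and 3: basic facts and the passage to `T/V`. -/

set_option autoImplicit false
set_option linter.unusedVariables false
set_option linter.unusedSectionVars false

namespace Cfsg.Agent.Lib.LocalEven2.T33

universe u

section general

variable {T : Type u} [Group T]

/-- `x⁻¹ τ(x)`. -/
def dl (τ : T ≃* T) (x : T) : T := x⁻¹ * τ x

/-- fixed points. -/
def fixG (τ : T ≃* T) : Subgroup T where
  carrier := {v | τ v = v}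
  mul_mem' := by
    intro a b ha hb
    simp only [Set.mem_setOf_eq] at *
    rw [map_mul, ha, hb]
  one_mem' := map_one τ
  inv_mem' := by
    intro a ha
    simp only [Set.mem_setOf_eq] at *
    rw [map_inv, ha]

theorem mem_fixG {τ : T ≃* T} {v : T} : v ∈ fixG τ ↔ τ v = v := Iff.rfl

/-- Four distinct elements fill a predicate of cardinality at most four. -/
theorem fill4 {Y : Type*} [Finite Y] (P : Y → Prop) (e₁ e₂ e₃ e₄ : Y) (h₁ : P e₁) (h₂ : P e₂) (h₃ : P e₃) (h₄ : P e₄)
    (h12 : e₁ ≠ e₂) (h13 : e₁ ≠ e₃) (h14 : e₁ ≠ e₄) (h23 : e₂ ≠ e₃) (h24 : e₂ ≠ e₄) (h34 : e₃ ≠ e₄)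
    (hle : Nat.card {y // P y} ≤ 4) :
    Nat.card {y // P y} = 4 ∧ ∀ y, P y → y = e₁ ∨ y = e₂ ∨ y = e₃ ∨ y = e₄ := by
  classical
  set s : Set Y := {y | P y} with hs
  set A : Set Y := {e₁, e₂, e₃, e₄} with hA
  have hAs : A ⊆ s := by
    intro y hy
    rcases hy with rfl | rfl | rfl | rfl
    · exact h₁
    · exact h₂
    · exact h₃
    · exact h₄
  have hcA : A.ncard = 4 := by
    rw [hA, Set.ncard_eq_toFinset_card']
    simp [Finset.card_insert_of_notMem, h12, h13, h14, h23, h24, h34]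
  have hcs : s.ncard = Nat.card {y // P y} := by
    rw [← Nat.card_coe_set_eq]
    rfl
  have hsf : s.Finite := Set.toFinite s
  have heq : A = s := Set.eq_of_subset_of_ncard_le hAs (by rw [hcs, hcA]; exact hle) hsf
  refine ⟨?_, ?_⟩
  · rw [← hcs, ← heq, hcA]
  · intro y hy
    have : y ∈ A := by rw [heq]; exact hy
    simpa [hA] using this

/-- A nontrivial subgroup of a finite `2`-group invariant under an involutive automorphism contains
a nontrivial fixed point that is central in the subgroup. -/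
theorem exists_fixed [Finite T] (hp : IsPGroup 2 T) (τ : T ≃* T) (hτ : ∀ g, τ (τ g) = g) (C : Subgroup T)
    (hC : ∀ u ∈ C, τ u ∈ C) (hne : C ≠ ⊥) :
    ∃ z ∈ C, z ≠ 1 ∧ τ z = z ∧ ∀ u ∈ C, z * u = u * z := by
  haveI : Fact (Nat.Prime 2) := ⟨Nat.prime_two⟩
  have hpC : IsPGroup 2 C := hp.to_subgroup C
  haveI : Nontrivial C := (Subgroup.nontrivial_iff_ne_bot C).mpr hne
  haveI hZ : Nontrivial (Subgroup.center C) := hpC.center_nontrivial
  have hpZ : IsPGroup 2 (Subgroup.center C) := hpC.to_subgroup _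
  obtain ⟨n, hn0, hn⟩ := hpZ.nontrivial_iff_card.mp hZ
  have h2 : 2 ∣ Nat.card (Subgroup.center C) := by
    rw [hn]
    exact dvd_pow_self 2 (by omega)
  obtain ⟨z, hz⟩ := exists_prime_orderOf_dvd_card' 2 h2
  have hz1 : (z : C) ^ 2 = 1 := by
    have : z ^ 2 = 1 := by rw [← hz]; exact pow_orderOf_eq_one z
    exact_mod_cast congrArg Subtype.val this
  have hz2 : ((z : C) : T) ^ 2 = 1 := by exact_mod_cast congrArg Subtype.val hz1
  have hz3 : ((z : C) : T) ≠ 1 := by
    intro h
    have h5 : z = 1 := Subtype.ext (Subtype.ext h)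
    rw [h5, orderOf_one] at hz
    omega
  have hzc : ∀ u ∈ C, ((z : C) : T) * u = u * ((z : C) : T) := by
    intro u hu
    have := (Subgroup.mem_center_iff.mp z.2) ⟨u, hu⟩
    exact (congrArg Subtype.val this).symm
  have hzC : ((z : C) : T) ∈ C := (z : C).2
  set y : T := ((z : C) : T) with hy
  by_cases hw : y * τ y = 1
  · refine ⟨y, hzC, hz3, ?_, hzc⟩
    have h5 : τ y = y⁻¹ := eq_inv_of_mul_eq_one_right hw
    rw [h5]
    apply inv_eq_of_mul_eq_one_left
    rw [← pow_two, hz2]
  · refine ⟨y * τ y, C.mul_mem hzC (hC _ hzC), hw, ?_, ?_⟩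
    · rw [map_mul, hτ, hzc _ (hC _ hzC)]
    · intro u hu
      have h5 : τ y * u = u * τ y := by
        have h6 := hzc (τ u) (hC _ hu)
        have h7 := congrArg τ h6
        simp only [map_mul, hτ] at h7
        exact h7
      rw [mul_assoc, h5, ← mul_assoc, hzc u hu, mul_assoc]

end general

/-- The standing data. -/
structure Data {T : Type u} [Group T] (τ r : T ≃* T) : Prop where
  p2 : IsPGroup 2 T
  tt : ∀ g, τ (τ g) = g
  rrr : ∀ g, r (r (r g)) = g
  tr : ∀ g, τ (r g) = r (τ g)
  fpf : ∀ g, r g = g → g = 1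
  cen : ∀ v, τ v = v → ∀ g, v * g = g * v
  el : ∀ v, τ v = v → v * v = 1
  card4 : Nat.card {v : T // τ v = v} = 4

section data

variable {T : Type u} [Group T] {τ r : T ≃* T}

theorem dl_mul (τ : T ≃* T) (x y : T) : dl τ (x * y) = y⁻¹ * dl τ x * y * dl τ y := by
  simp only [dl, map_mul]
  group

theorem dl_fix (τ : T ≃* T) {x : T} (h : dl τ x = 1) : τ x = x := by
  have : x⁻¹ * τ x = 1 := h
  exact (inv_mul_eq_one.mp this).symm

theorem dl_inv_self (hτ : ∀ g, τ (τ g) = g) (x : T) : τ (dl τ x) = (dl τ x)⁻¹ := by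
  simp only [dl, map_mul, map_inv, hτ]
  group

namespace Data

variable (D : Data τ r)
include D

theorem r_ne_one {g : T} (hg : g ≠ 1) : r g ≠ g := fun h => hg (D.fpf g h)

theorem rr_ne {g : T} (hg : g ≠ 1) : r (r g) ≠ g := by
  intro h
  have h1 := congrArg r h
  rw [D.rrr] at h1
  exact D.r_ne_one hg h1.symm

theorem inj_aux {g h : T} (e : g⁻¹ * r g = h⁻¹ * r h) : g = h := by
  have h1 : r (g * h⁻¹) = g * h⁻¹ := by
    rw [map_mul, map_inv]
    have h2 : r g = g * (h⁻¹ * r h) := by rw [← e]; group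
    rw [h2]
    group
  have h3 := D.fpf _ h1
  exact mul_inv_eq_one.mp h3

variable [Finite T]

/-- The fixed point lemma. -/
theorem fp_mem (N : Subgroup T) (hN : ∀ u ∈ N, r u ∈ N) {x : T} (h : x⁻¹ * r x ∈ N) : x ∈ N := by
  let f : N → N := fun n => ⟨n.1⁻¹ * r n.1, N.mul_mem (N.inv_mem n.2) (hN _ n.2)⟩
  have hf : Function.Injective f := by
    intro m n hmn
    have : m.1⁻¹ * r m.1 = n.1⁻¹ * r n.1 := congrArg Subtype.val hmn
    exact Subtype.ext (D.inj_aux this)
  have hs : Function.Surjective f := Finite.surjective_of_injective hf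
  obtain ⟨n, hn⟩ := hs ⟨_, h⟩
  have : n.1⁻¹ * r n.1 = x⁻¹ * r x := congrArg Subtype.val hn
  have h1 := D.inj_aux this
  rw [← h1]
  exact n.2

theorem norm_one (g : T) : g * r g * r (r g) = 1 := by
  have hs : ∃ h : T, g = h⁻¹ * r h := by
    let f : T → T := fun n => n⁻¹ * r n
    have hf : Function.Injective f := fun m n hmn => D.inj_aux hmn
    obtain ⟨n, hn⟩ := (Finite.surjective_of_injective hf) g
    exact ⟨n, hn.symm⟩
  obtain ⟨h, rfl⟩ := hs
  simp only [map_mul, map_inv, D.rrr]
  group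

/-- `r (r g)` as an inverse. -/
theorem rr_eq (g : T) : r (r g) = (g * r g)⁻¹ :=
  eq_inv_of_mul_eq_one_right (D.norm_one g)

theorem fix_mul_comm {v : T} (hv : τ v = v) (g : T) : v * g = g * v := D.cen v hv g

omit [Finite T] in
theorem tr_fix {v : T} (hv : τ v = v) : τ (r v) = r v := by rw [D.tr, hv]

omit [Finite T] in
theorem tr_fix2 {v : T} (hv : τ v = v) : τ (r (r v)) = r (r v) := D.tr_fix (D.tr_fix hv)

theorem fix_cases {v : T} (hv : τ v = v) (h1 : v ≠ 1) :
    ∀ w, τ w = w → w = 1 ∨ w = v ∨ w = r v ∨ w = r (r v) := by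
  have := fill4 (fun w : T => τ w = w) 1 v (r v) (r (r v)) (map_one τ) hv (D.tr_fix hv) (D.tr_fix2 hv)
    h1.symm (fun h => h1 ((map_eq_one_iff r r.injective).mp h.symm))
    (fun h => h1 ((map_eq_one_iff r r.injective).mp ((map_eq_one_iff r r.injective).mp h.symm)))
    (D.r_ne_one h1).symm (D.rr_ne h1).symm
    (by
      intro h
      have := r.injective h
      exact D.r_ne_one h1 this.symm) (by rw [D.card4])
  exact this.2

/-- Fixed elements that lie in an `r`-invariant subgroup. -/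
theorem fixG_le (N : Subgroup T) (hN : ∀ u ∈ N, r u ∈ N) {v : T} (hv : τ v = v) (h1 : v ≠ 1) (hvN : v ∈ N) :
    fixG τ ≤ N := by
  intro w hw
  rcases D.fix_cases hv h1 w hw with rfl | rfl | rfl | rfl
  · exact N.one_mem
  · exact hvN
  · exact hN _ hvN
  · exact hN _ (hN _ hvN)

omit [Finite T] in
theorem fixG_normal : (fixG τ).Normal := ⟨fun n hn g => by
  have := D.cen n hn g
  show τ (g * n * g⁻¹) = g * n * g⁻¹
  have h2 : g * n * g⁻¹ = n := by
    rw [mul_inv_eq_iff_eq_mul, this]
  rw [h2]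
  exact hn⟩

end Data

end data

section quot

variable {T : Type u} [Group T] {τ r : T ≃* T}

/-- The automorphism induced on a quotient. -/
def qu (N : Subgroup T) [N.Normal] (e : T ≃* T) (h : N.map e.toMonoidHom = N) : (T ⧸ N) ≃* (T ⧸ N) :=
  QuotientGroup.congr N N e h

@[simp] theorem qu_mk (N : Subgroup T) [N.Normal] (e : T ≃* T) (h : N.map e.toMonoidHom = N) (x : T) :
    qu N e h (x : T ⧸ N) = ((e x : T) : T ⧸ N) := rfl

theorem map_eq_of_inv (N : Subgroup T) (e : T ≃* T) (h1 : ∀ u ∈ N, e u ∈ N) (h2 : ∀ u ∈ N, e.symm u ∈ N) :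
    N.map e.toMonoidHom = N := by
  ext x
  constructor
  · rintro ⟨y, hy, rfl⟩
    exact h1 y hy
  · intro hx
    exact ⟨e.symm x, h2 x hx, by simp⟩

theorem Data.map_t (D : Data τ r) : (fixG τ).map τ.toMonoidHom = fixG τ := by
  apply map_eq_of_inv
  · intro u hu
    show τ (τ u) = τ u
    rw [D.tt]
    exact hu.symm
  · intro u hu
    show τ (τ.symm u) = τ.symm u
    rw [MulEquiv.apply_symm_apply]
    have : τ.symm u = u := by
      rw [MulEquiv.symm_apply_eq]
      exact hu.symm
    rw [this]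

theorem Data.map_r (D : Data τ r) : (fixG τ).map r.toMonoidHom = fixG τ := by
  apply map_eq_of_inv
  · intro u hu
    exact D.tr_fix hu
  · intro u hu
    have h1 : r.symm u = r (r u) := by
      rw [MulEquiv.symm_apply_eq, D.rrr]
    rw [h1]
    exact D.tr_fix2 hu

variable [Finite T]

theorem Data.quot (D : Data τ r) (hne : ∃ x, τ x ≠ x) :
    haveI := D.fixG_normal
    Data (qu (fixG τ) τ D.map_t) (qu (fixG τ) r D.map_r) := by
  haveI := D.fixG_normal
  set V := fixG τ with hV
  have h_tt : ∀ g : T ⧸ V, qu V τ D.map_t (qu V τ D.map_t g) = g := by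
    intro g
    induction g using QuotientGroup.induction_on with
    | H x =>
      simp only [qu_mk, D.tt]
  have h_p2 : IsPGroup 2 (T ⧸ V) := D.p2.to_quotient V
  have h_tr : ∀ g : T ⧸ V, qu V τ D.map_t (qu V r D.map_r g) = qu V r D.map_r (qu V τ D.map_t g) := by
    intro g
    induction g using QuotientGroup.induction_on with
    | H x =>
      simp only [qu_mk, D.tr]
  have h_rrr : ∀ g : T ⧸ V, qu V r D.map_r (qu V r D.map_r (qu V r D.map_r g)) = g := by
    intro g
    induction g using QuotientGroup.induction_on with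
    | H x =>
      simp only [qu_mk, D.rrr]
  have h_r_inv : ∀ u ∈ V, r u ∈ V := fun u hu => D.tr_fix hu
  have h_fpf : ∀ g : T ⧸ V, qu V r D.map_r g = g → g = 1 := by
    intro g
    induction g using QuotientGroup.induction_on with
    | H x =>
      intro h
      rw [qu_mk] at h
      have h1 : x⁻¹ * r x ∈ V := QuotientGroup.eq.mp h.symm
      have h2 := D.fp_mem V h_r_inv h1
      exact (QuotientGroup.eq_one_iff x).mpr h2
  -- the fixed points of the quotient
  have h_dl : ∀ x : T, qu V τ D.map_t (x : T ⧸ V) = (x : T ⧸ V) ↔ dl τ x ∈ V := by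
    intro x
    rw [qu_mk]
    constructor
    · intro h
      exact QuotientGroup.eq.mp h.symm
    · intro h
      exact (QuotientGroup.eq.mpr h).symm
  -- upper bound
  have hle : Nat.card {w : T ⧸ V // qu V τ D.map_t w = w} ≤ 4 := by
    rw [← D.card4]
    refine Nat.card_le_card_of_injective
      (fun w => ⟨dl τ (Quotient.out w.1), ?_⟩) ?_
    · have h1 : qu V τ D.map_t ((Quotient.out w.1 : T) : T ⧸ V) = ((Quotient.out w.1 : T) : T ⧸ V) := by
        have : ((Quotient.out w.1 : T) : T ⧸ V) = w.1 := Quotient.out_eq' _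
        rw [this]
        exact w.2
      exact (h_dl _).mp h1
    · intro w₁ w₂ h
      have h0 : dl τ (Quotient.out w₁.1) = dl τ (Quotient.out w₂.1) := congrArg Subtype.val h
      set x := Quotient.out w₁.1 with hx
      set y := Quotient.out w₂.1 with hy
      have hx' : (x : T ⧸ V) = w₁.1 := Quotient.out_eq' _
      have hy' : (y : T ⧸ V) = w₂.1 := Quotient.out_eq' _
      have hw1 : dl τ x ∈ V := by
        have h1 : qu V τ D.map_t (x : T ⧸ V) = (x : T ⧸ V) := by rw [hx']; exact w₁.2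
        exact (h_dl _).mp h1
      apply Subtype.ext
      rw [← hx', ← hy']
      apply QuotientGroup.eq.mpr
      show τ (x⁻¹ * y) = x⁻¹ * y
      have e1 : τ x = x * dl τ x := by simp [dl]
      have e2 : τ y = y * dl τ x := by rw [h0]; simp [dl]
      rw [map_mul, map_inv, e1, e2]
      have := D.cen _ hw1
      rw [mul_inv_rev, mul_assoc, ← this y, ← mul_assoc x⁻¹ (dl τ x) y, ← this x⁻¹]
      group
  -- existence of a central fixed element
  obtain ⟨x₀, hx₀⟩ := hne
  have hbot : (⊤ : Subgroup (T ⧸ V)) ≠ ⊥ := by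
    intro h
    have h1 : ((x₀ : T) : T ⧸ V) ∈ (⊥ : Subgroup (T ⧸ V)) := by rw [← h]; trivial
    have h2 : ((x₀ : T) : T ⧸ V) = 1 := h1
    exact hx₀ ((QuotientGroup.eq_one_iff x₀).mp h2)
  obtain ⟨z, -, hz1, hz2, hz3⟩ := exists_fixed h_p2 (qu V τ D.map_t) h_tt ⊤ (fun _ _ => trivial) hbot
  have hz_r : ∀ g, qu V r D.map_r z * g = g * qu V r D.map_r z := by
    intro g
    obtain ⟨g', rfl⟩ := (qu V r D.map_r).surjective g
    rw [← map_mul, ← map_mul, hz3 g' trivial]
  have hz_rr : ∀ g, qu V r D.map_r (qu V r D.map_r z) * g = g * qu V r D.map_r (qu V r D.map_r z) := by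
    intro g
    obtain ⟨g', rfl⟩ := (qu V r D.map_r).surjective g
    rw [← map_mul, ← map_mul, hz_r g']
  have hr1 : qu V r D.map_r z ≠ z := fun h => hz1 (h_fpf z h)
  have hr2 : qu V r D.map_r (qu V r D.map_r z) ≠ z := by
    intro h
    have h1 := congrArg (qu V r D.map_r) h
    rw [h_rrr] at h1
    exact hr1 h1.symm
  have hfill := fill4 (fun w : T ⧸ V => qu V τ D.map_t w = w) 1 z (qu V r D.map_r z)
    (qu V r D.map_r (qu V r D.map_r z)) (map_one _) hz2
    (by show _ = _; rw [h_tr, hz2])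
    (by show _ = _; rw [h_tr, h_tr, hz2])
    hz1.symm
    (fun h => hz1 ((map_eq_one_iff _ (qu V r D.map_r).injective).mp h.symm))
    (fun h => hz1 ((map_eq_one_iff _ (qu V r D.map_r).injective).mp ((map_eq_one_iff _ (qu V r D.map_r).injective).mp h.symm)))
    hr1.symm hr2.symm
    (by
      intro h
      exact hr1 ((qu V r D.map_r).injective h).symm) hle
  refine ⟨h_p2, h_tt, h_rrr, h_tr, h_fpf, ?_, ?_, hfill.1⟩
  · intro v hv g
    rcases hfill.2 v hv with rfl | rfl | rfl | rfl
    · simp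
    · exact hz3 g trivial
    · exact hz_r g
    · exact hz_rr g
  · intro v hv
    induction v using QuotientGroup.induction_on with
    | H x =>
      have h1 : dl τ x ∈ V := (h_dl x).mp hv
      have h2 : dl τ (x * x) = 1 := by
        rw [dl_mul]
        have := D.cen _ h1 x
        have h3 : x⁻¹ * dl τ x * x = dl τ x := by
          rw [mul_assoc, this]
          group
        rw [h3]
        exact D.el _ h1
      show ((x * x : T) : T ⧸ V) = 1
      rw [QuotientGroup.eq_one_iff]
      exact dl_fix τ h2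

end quot

end Cfsg.Agent.Lib.LocalEven2.T33
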