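import Cfsg.Agent.Lib.LocalEven2.T33a

/-! The structure theorem: an abelian subgroup of index four. -/

set_option autoImplicit false
set_option linter.unusedVariables false
set_option linter.unusedSectionVars false

namespace Cfsg.Agent.Lib.LocalEven2.T33

universe u

/-- The structure. -/
structure St {T : Type u} [Group T] (τ r : T ≃* T) (B : Subgroup T) : Prop where
  nor : B.Normal
  rb : ∀ u ∈ B, r u ∈ B
  idx : B.index = 4
  ab : ∀ u ∈ B, ∀ v ∈ B, u * v = v * u
  inv : ∀ u ∈ B, τ u = u⁻¹
  dlm : ∀ x, dl τ x ∈ B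
  gen : ∀ x, x ∉ B → B = Subgroup.closure {dl τ x, r (dl τ x)}

theorem comm_closure {T : Type u} [Group T] (S : Set T) (h : ∀ x ∈ S, ∀ y ∈ S, x * y = y * x) :
    ∀ u ∈ Subgroup.closure S, ∀ v ∈ Subgroup.closure S, u * v = v * u := by
  intro u hu v hv
  letI := Subgroup.closureCommGroupOfComm h
  have := mul_comm (⟨u, hu⟩ : Subgroup.closure S) ⟨v, hv⟩
  exact congrArg Subtype.val this

theorem comm_pair {T : Type u} [Group T] {a b : T} (h : a * b = b * a) :
    ∀ u ∈ Subgroup.closure ({a, b} : Set T), ∀ v ∈ Subgroup.closure ({a, b} : Set T), u * v = v * u := by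
  apply comm_closure
  rintro x (rfl | rfl) y (rfl | rfl)
  · rfl
  · exact h
  · exact h.symm
  · rfl

theorem dl_r {T : Type u} [Group T] {τ r : T ≃* T} (D : Data τ r) (x : T) : dl τ (r x) = r (dl τ x) := by
  simp only [dl, map_mul, map_inv, D.tr]

theorem exists_struct : ∀ (n : ℕ) (T : Type u) [Group T] [Finite T] (τ r : T ≃* T), Data τ r → Nat.card T = n →
    ∃ B : Subgroup T, St τ r B := by
  intro n
  induction n using Nat.strong_induction_on with
  | _ n ih =>
  intro T _ _ τ r D hn
  by_cases hall : ∀ x, τ x = x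
  · -- the bottom of the induction
    refine ⟨⊥, ⟨inferInstance, ?_, ?_, ?_, ?_, ?_, ?_⟩⟩
    · intro u hu
      rw [Subgroup.mem_bot] at hu
      rw [hu, map_one]
      exact Subgroup.one_mem _
    · rw [Subgroup.index_bot, ← D.card4]
      exact (Nat.card_congr (Equiv.subtypeUnivEquiv hall)).symm
    · intro u hu v hv
      rw [Subgroup.mem_bot] at hu hv
      rw [hu, hv]
    · intro u hu
      rw [Subgroup.mem_bot] at hu
      rw [hu]
      simp
    · intro x
      simp [dl, hall x]
    · intro x _
      simp [dl, hall x, Subgroup.closure_singleton_one]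
  · push Not at hall
    have D' := D.quot hall
    haveI := D.fixG_normal
    set V := fixG τ with hV
    have hcardV : Nat.card V = 4 := D.card4
    have hlt : Nat.card (T ⧸ V) < n := by
      have h1 := Subgroup.card_eq_card_quotient_mul_card_subgroup V
      rw [hcardV, hn] at h1
      have : 0 < n := by rw [← hn]; exact Nat.card_pos
      omega
    obtain ⟨B', hB'⟩ := ih _ hlt (T ⧸ V) _ _ D' rfl
    set π : T →* T ⧸ V := QuotientGroup.mk' V with hπ
    have hπs : Function.Surjective π := QuotientGroup.mk'_surjective V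
    have hπdl : ∀ x, π (dl τ x) = dl (qu V τ D.map_t) (π x) := fun x => rfl
    have hπr : ∀ x, π (r x) = qu V r D.map_r (π x) := fun x => rfl
    have hπV : ∀ x, π x = 1 ↔ τ x = x := fun x => QuotientGroup.eq_one_iff x
    have hcen : ∀ v, τ v = v → ∀ g, v * g = g * v := D.cen
    set B : Subgroup T := B'.comap π with hB
    have hVB : ∀ v, τ v = v → v ∈ B := by
      intro v hv
      show π v ∈ B'
      rw [(hπV v).mpr hv]
      exact B'.one_mem
    have hrb : ∀ u ∈ B, r u ∈ B := by
      intro u hu
      show π (r u) ∈ B'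
      rw [hπr]
      exact hB'.rb _ hu
    have hdlm : ∀ x, dl τ x ∈ B := by
      intro x
      show π (dl τ x) ∈ B'
      rw [hπdl]
      exact hB'.dlm _
    have hidx : B.index = 4 := by
      rw [hB, Subgroup.index_comap_of_surjective _ hπs]
      exact hB'.idx
    -- the facts about one element
    have hgen : ∀ x, x ∉ B → ∀ u ∈ B, ∃ c ∈ Subgroup.closure ({dl τ x, r (dl τ x)} : Set T), ∃ v, τ v = v ∧ u = c * v := by
      intro x hx u hu
      have h1 := hB'.gen (π x) hx
      have h2 : Subgroup.closure {dl (qu V τ D.map_t) (π x), qu V r D.map_r (dl (qu V τ D.map_t) (π x))} =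
          (Subgroup.closure ({dl τ x, r (dl τ x)} : Set T)).map π := by
        rw [MonoidHom.map_closure, Set.image_pair]
        rfl
      have h3 : π u ∈ B' := hu
      rw [h1, h2] at h3
      obtain ⟨c, hc, hcu⟩ := h3
      refine ⟨c, hc, c⁻¹ * u, ?_, by group⟩
      rw [← hπV, map_mul, map_inv, hcu]
      group
    have hcomm : ∀ x, x ∉ B → dl τ x * r (dl τ x) = r (dl τ x) * dl τ x := by
      intro x hx
      set a := dl τ x with ha
      set b := r a with hb
      set c := a⁻¹ * b⁻¹ * a * b with hc
      have hc1 : τ c = c := by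
        rw [← hπV]
        have e := hB'.ab (π a) (hdlm x) (π b) (hrb _ (hdlm x))
        rw [hc, map_mul, map_mul, map_mul, map_inv, map_inv]
        rw [mul_assoc, mul_assoc, e]
        group
      have hrb' : r b = (a * b)⁻¹ := D.rr_eq a
      have hc2 : r c = a * c * a⁻¹ := by
        rw [hc]
        simp only [map_mul, map_inv]
        rw [hrb', ← hb]
        group
      have hc3 : a * c * a⁻¹ = c := by
        rw [mul_inv_eq_iff_eq_mul]
        exact (hcen c hc1 a).symm
      have hc4 : c = 1 := D.fpf c (by rw [hc2, hc3])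
      have hc5 : a⁻¹ * b⁻¹ * a * b = 1 := hc4
      have : a * b = b * a := by
        have h6 : (b * a)⁻¹ * (a * b) = 1 := by
          rw [mul_inv_rev, ← mul_assoc]
          exact hc5
        exact (inv_mul_eq_one.mp h6).symm
      exact this
    obtain ⟨x₁, hx₁⟩ : ∃ x, x ∉ B := by
      by_contra hcon
      push Not at hcon
      have : B = ⊤ := (Subgroup.eq_top_iff' B).mpr hcon
      rw [this, Subgroup.index_top] at hidx
      omega
    have hab : ∀ u ∈ B, ∀ v ∈ B, u * v = v * u := by
      intro u hu v hv
      obtain ⟨c, hc, w, hw, rfl⟩ := hgen x₁ hx₁ u hu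
      obtain ⟨c', hc', w', hw', rfl⟩ := hgen x₁ hx₁ v hv
      have h1 := comm_pair (hcomm x₁ hx₁) c hc c' hc'
      calc c * w * (c' * w') = c * c' * (w * w') := by
            rw [mul_assoc, ← mul_assoc w, hcen w hw c']
            group
        _ = c' * c * (w' * w) := by rw [h1, hcen w hw w']
        _ = c' * w' * (c * w) := by
            rw [mul_assoc c' w', ← mul_assoc w', hcen w' hw' c]
            group
    have hinvC : ∀ x, x ∉ B → ∀ c ∈ Subgroup.closure ({dl τ x, r (dl τ x)} : Set T), τ c = c⁻¹ := by
      intro x hx c hc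
      induction hc using Subgroup.closure_induction with
      | mem c hc =>
        rcases hc with rfl | rfl
        · exact dl_inv_self D.tt x
        · rw [D.tr, dl_inv_self D.tt x, map_inv]
      | one => simp
      | mul u v hu hv h1 h2 =>
        rw [map_mul, h1, h2, mul_inv_rev, comm_pair (hcomm x hx) _ (Subgroup.inv_mem _ hv) _ (Subgroup.inv_mem _ hu)]
      | inv u hu h1 => rw [map_inv, h1]
    have hinv : ∀ u ∈ B, τ u = u⁻¹ := by
      intro u hu
      obtain ⟨c, hc, w, hw, rfl⟩ := hgen x₁ hx₁ u hu
      rw [map_mul, hinvC x₁ hx₁ c hc, hw, mul_inv_rev]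
      have h1 : w⁻¹ = w := inv_eq_of_mul_eq_one_left (D.el w hw)
      rw [h1, hcen w hw c⁻¹]
    refine ⟨B, ⟨hB'.nor.comap π, hrb, hidx, hab, hinv, hdlm, ?_⟩⟩
    intro x hx
    set C := Subgroup.closure ({dl τ x, r (dl τ x)} : Set T) with hC
    have haC : dl τ x ∈ C := Subgroup.subset_closure (by simp)
    have hbC : r (dl τ x) ∈ C := Subgroup.subset_closure (by simp)
    have hCr : ∀ u ∈ C, r u ∈ C := by
      intro u hu
      induction hu using Subgroup.closure_induction with
      | mem u hu =>
        rcases hu with rfl | rfl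
        · exact hbC
        · rw [D.rr_eq]
          exact C.inv_mem (C.mul_mem haC hbC)
      | one => simp
      | mul u v _ _ h1 h2 =>
        rw [map_mul]
        exact C.mul_mem h1 h2
      | inv u _ h1 =>
        rw [map_inv]
        exact C.inv_mem h1
    -- a nontrivial fixed element in `C`
    have hex : ∃ v₀, τ v₀ = v₀ ∧ v₀ ≠ 1 ∧ v₀ ∈ C := by
      by_cases hBV : ∀ u ∈ B, τ u = u
      · refine ⟨dl τ x, hBV _ (hdlm x), ?_, haC⟩
        intro h0
        exact hx (hVB x (dl_fix τ h0))
      · push Not at hBV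
        obtain ⟨u, huB, hu⟩ := hBV
        have hexk : ∃ k, τ (u ^ 2 ^ k) = u ^ 2 ^ k := by
          obtain ⟨k, hk⟩ := D.p2 u
          exact ⟨k, by rw [hk, map_one]⟩
        classical
        set k := Nat.find hexk with hk
        have hk1 : τ (u ^ 2 ^ k) = u ^ 2 ^ k := Nat.find_spec hexk
        have hk0 : k ≠ 0 := by
          intro h0
          rw [h0] at hk1
          simp only [pow_zero, pow_one] at hk1
          exact hu hk1
        obtain ⟨m, hm⟩ := Nat.exists_eq_succ_of_ne_zero hk0
        have hkm : ¬ τ (u ^ 2 ^ m) = u ^ 2 ^ m := Nat.find_min hexk (by omega)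
        set w := u ^ 2 ^ m with hw
        have hwB : w ∈ B := B.pow_mem huB _
        have hww : u ^ 2 ^ k = w * w := by
          rw [hm, hw, ← pow_add]
          congr 1
          rw [Nat.succ_eq_add_one, pow_succ]
          ring
        rw [hww] at hk1
        obtain ⟨c, hc, v, hv, hcv⟩ := hgen x hx w hwB
        refine ⟨w * w, hk1, ?_, ?_⟩
        · intro h0
          apply hkm
          rw [hinv w hwB]
          exact inv_eq_of_mul_eq_one_left h0
        · have h5 : w * w = c * c := by
            rw [hcv, mul_assoc, ← mul_assoc v, hcen v hv c, mul_assoc, D.el v hv]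
            group
          rw [h5]
          exact C.mul_mem hc hc
    obtain ⟨v₀, hv₀, hv₀1, hv₀C⟩ := hex
    have hVC : fixG τ ≤ C := D.fixG_le C hCr hv₀ hv₀1 hv₀C
    apply le_antisymm
    · intro u hu
      obtain ⟨c, hc, v, hv, rfl⟩ := hgen x hx u hu
      exact C.mul_mem hc (hVC hv)
    · rw [hC, Subgroup.closure_le]
      rintro y (rfl | rfl)
      · exact hdlm x
      · exact hrb _ (hdlm x)

end Cfsg.Agent.Lib.LocalEven2.T33
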