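import Cfsg.Agent.Lib.LocalEven2.T33b
import Cfsg.Agent.Lib.PGroups.Fpf3

/-! Analysis of the abelian subgroup of index four. -/

set_option autoImplicit false
set_option linter.unusedVariables false
set_option linter.unusedSectionVars false

namespace Cfsg.Agent.Lib.LocalEven2.T33

universe u

section pw

variable {T : Type u} [Group T]

/-- The subgroup of `2^i`-th powers of an abelian subgroup. -/
def pw (B : Subgroup T) (hab : ∀ u ∈ B, ∀ v ∈ B, u * v = v * u) (i : ℕ) : Subgroup T where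
  carrier := {w | ∃ u ∈ B, u ^ 2 ^ i = w}
  mul_mem' := by
    rintro _ _ ⟨u, hu, rfl⟩ ⟨v, hv, rfl⟩
    exact ⟨u * v, B.mul_mem hu hv, (Commute.mul_pow (hab u hu v hv) _)⟩
  one_mem' := ⟨1, B.one_mem, one_pow _⟩
  inv_mem' := by
    rintro _ ⟨u, hu, rfl⟩
    exact ⟨u⁻¹, B.inv_mem hu, inv_pow _ _⟩

variable {B : Subgroup T} {hab : ∀ u ∈ B, ∀ v ∈ B, u * v = v * u}

theorem mem_pw {i : ℕ} {w : T} : w ∈ pw B hab i ↔ ∃ u ∈ B, u ^ 2 ^ i = w := Iff.rfl

theorem pw_le (i : ℕ) : pw B hab i ≤ B := by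
  rintro _ ⟨u, hu, rfl⟩
  exact B.pow_mem hu _

theorem pow_mem_pw {u : T} (hu : u ∈ B) (i : ℕ) : u ^ 2 ^ i ∈ pw B hab i := ⟨u, hu, rfl⟩

theorem sq_mem_pw {u : T} (hu : u ∈ B) : u * u ∈ pw B hab 1 := ⟨u, hu, by rw [pow_one, pow_two]⟩

theorem pw_bot [Finite T] (hp : IsPGroup 2 T) : ∃ k, pw B hab k = ⊥ := by
  obtain ⟨k, hk⟩ := IsPGroup.iff_card.mp hp
  refine ⟨k, ?_⟩
  rw [eq_bot_iff]
  rintro _ ⟨u, hu, rfl⟩
  rw [Subgroup.mem_bot, ← hk]
  exact pow_card_eq_one'

/-- `B ≤ ℧₁(B)` forces `B = 1`. -/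
theorem bot_of_le_pw [Finite T] (hp : IsPGroup 2 T) (h : B ≤ pw B hab 1) : B = ⊥ := by
  have hk : ∀ k, B ≤ pw B hab k := by
    intro k
    induction k with
    | zero =>
      intro w hw
      exact ⟨w, hw, by simp⟩
    | succ k ih =>
      intro w hw
      obtain ⟨u, hu, rfl⟩ := ih hw
      obtain ⟨s, hs, rfl⟩ := h hu
      refine ⟨s, hs, ?_⟩
      rw [← pow_mul, pow_one, pow_succ]
      congr 1
      ring
  obtain ⟨k, hk'⟩ := pw_bot (B := B) (hab := hab) hp
  rw [eq_bot_iff, ← hk']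
  exact hk k

end pw

section pair

variable {T : Type u} [Group T]

theorem exists_zpow_of_closure {a b u : T} (hc : Commute a b) (hu : u ∈ Subgroup.closure ({a, b} : Set T)) :
    ∃ m n : ℤ, u = a ^ m * b ^ n := by
  induction hu using Subgroup.closure_induction with
  | mem u hu =>
    rcases hu with rfl | rfl
    · exact ⟨1, 0, by simp⟩
    · exact ⟨0, 1, by simp⟩
  | one => exact ⟨0, 0, by simp⟩
  | mul u v _ _ h1 h2 =>
    obtain ⟨m, n, rfl⟩ := h1
    obtain ⟨m', n', rfl⟩ := h2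
    refine ⟨m + m', n + n', ?_⟩
    rw [zpow_add, zpow_add, mul_assoc, mul_assoc, ← mul_assoc (b ^ n), ((hc.zpow_zpow m' n).symm).eq]
    group
  | inv u _ h1 =>
    obtain ⟨m, n, rfl⟩ := h1
    refine ⟨-m, -n, ?_⟩
    rw [mul_inv_rev, zpow_neg, zpow_neg, ((hc.zpow_zpow m n).inv_inv).eq]

/-- splitting exponents modulo two -/
theorem zpow_split {a b : T} (hc : Commute a b) (m n : ℤ) :
    a ^ m * b ^ n = a ^ (m % 2) * b ^ (n % 2) * (a ^ (m / 2) * b ^ (n / 2)) ^ 2 := by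
  have h1 : (a ^ (m / 2) * b ^ (n / 2)) ^ 2 = a ^ (2 * (m / 2)) * b ^ (2 * (n / 2)) := by
    rw [(hc.zpow_zpow (m / 2) (n / 2)).mul_pow, ← zpow_natCast (a ^ (m / 2)), ← zpow_natCast (b ^ (n / 2)), ← zpow_mul,
      ← zpow_mul]
    congr 2 <;> simp [mul_comm]
  rw [h1]
  have h2 : a ^ (m % 2) * b ^ (n % 2) * (a ^ (2 * (m / 2)) * b ^ (2 * (n / 2))) =
      a ^ (m % 2) * a ^ (2 * (m / 2)) * (b ^ (n % 2) * b ^ (2 * (n / 2))) := by
    rw [mul_assoc, mul_assoc, ← mul_assoc (b ^ (n % 2)), ((hc.zpow_zpow (2 * (m / 2)) (n % 2)).symm).eq]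
    group
  rw [h2, ← zpow_add, ← zpow_add, Int.emod_add_mul_ediv, Int.emod_add_mul_ediv]

end pair

section main

variable {T : Type u} [Group T] [Finite T] {τ r : T ≃* T} (D : Data τ r) {B : Subgroup T} (S : St τ r B)

include D S

theorem pw_r {i : ℕ} {w : T} (hw : w ∈ pw B S.ab i) : r w ∈ pw B S.ab i := by
  obtain ⟨u, hu, rfl⟩ := hw
  exact ⟨r u, S.rb u hu, by rw [map_pow]⟩

theorem pw_normal (i : ℕ) : (pw B S.ab i).Normal := ⟨by
  rintro _ ⟨u, hu, rfl⟩ g
  haveI := S.nor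
  exact ⟨g * u * g⁻¹, Subgroup.Normal.conj_mem inferInstance u hu g, conj_pow⟩⟩

theorem r_not_mem {x : T} (hx : x ∉ B) : r x ∉ B := by
  intro h
  apply hx
  have := S.rb _ (S.rb _ h)
  rwa [D.rrr] at this

theorem exists_zpow {x u : T} (hx : x ∉ B) (hu : u ∈ B) :
    ∃ m n : ℤ, u = (dl τ x) ^ m * (r (dl τ x)) ^ n := by
  have hu' : u ∈ Subgroup.closure ({dl τ x, r (dl τ x)} : Set T) := by
    rw [← S.gen x hx]
    exact hu
  exact exists_zpow_of_closure (S.ab _ (S.dlm x) _ (S.rb _ (S.dlm x))) hu'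

/-- The classes of `B` modulo squares. -/
theorem cls {x u : T} (hx : x ∉ B) (hu : u ∈ B) :
    u ∈ pw B S.ab 1 ∨ (dl τ x)⁻¹ * u ∈ pw B S.ab 1 ∨ (r (dl τ x))⁻¹ * u ∈ pw B S.ab 1 ∨
      (r (r (dl τ x)))⁻¹ * u ∈ pw B S.ab 1 := by
  obtain ⟨m, n, rfl⟩ := exists_zpow D S hx hu
  set a := dl τ x with ha
  set b := r a with hb
  have haB : a ∈ B := S.dlm x
  have hbB : b ∈ B := S.rb _ haB
  have hc : Commute a b := S.ab _ haB _ hbB
  rw [zpow_split hc m n]
  set t := a ^ (m / 2) * b ^ (n / 2) with ht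
  have htB : t ∈ B := B.mul_mem (B.zpow_mem haB _) (B.zpow_mem hbB _)
  have ht2 : t ^ 2 ∈ pw B S.ab 1 := ⟨t, htB, by simp⟩
  rcases Int.emod_two_eq m with h1 | h1 <;> rcases Int.emod_two_eq n with h2 | h2 <;> rw [h1, h2]
  · left
    simpa using ht2
  · right; right; left
    simpa using ht2
  · right; left
    simpa using ht2
  · right; right; right
    have e : (r b)⁻¹ = a * b := by rw [D.rr_eq, inv_inv]
    rw [e]
    simp only [zpow_one]
    refine ⟨a * b * t, B.mul_mem (B.mul_mem haB hbB) htB, ?_⟩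
    have hc2 : Commute (a * b) t := S.ab _ (B.mul_mem haB hbB) _ htB
    rw [pow_one, hc2.mul_pow]
    rw [pow_two (a * b)]
    group

/-- The generator is not a square. -/
theorem dl_not_mem (hB : B ≠ ⊥) {x : T} (hx : x ∉ B) : dl τ x ∉ pw B S.ab 1 := by
  intro h
  apply hB
  apply bot_of_le_pw (hab := S.ab) D.p2
  intro u hu
  have hu' : u ∈ Subgroup.closure ({dl τ x, r (dl τ x)} : Set T) := by
    rw [← S.gen x hx]
    exact hu
  refine (Subgroup.closure_le _).mpr ?_ hu'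
  rintro y (rfl | rfl)
  · exact h
  · exact pw_r D S h

/-- The cosets of `B`. -/
theorem cosets {x : T} (hx : x ∉ B) (g : T) :
    g ∈ B ∨ x⁻¹ * g ∈ B ∨ (r x)⁻¹ * g ∈ B ∨ (r (r x))⁻¹ * g ∈ B := by
  haveI := S.nor
  have hc : Nat.card {y : T ⧸ B // True} = 4 := by
    rw [Nat.card_congr (Equiv.subtypeUnivEquiv (fun _ => trivial))]
    exact S.idx
  have h1 : ∀ {w : T}, w ∉ B → (1 : T ⧸ B) ≠ (w : T ⧸ B) := by
    intro w hw h
    exact hw ((QuotientGroup.eq_one_iff w).mp h.symm)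
  have hrx := r_not_mem D S hx
  have hrrx := r_not_mem D S hrx
  have h2 : ∀ {w : T}, w ∉ B → (w : T ⧸ B) ≠ ((r w : T) : T ⧸ B) := by
    intro w hw h
    exact hw (D.fp_mem B S.rb (QuotientGroup.eq.mp h))
  have h3 : (x : T ⧸ B) ≠ ((r (r x) : T) : T ⧸ B) := by
    intro h
    have h4 := (h2 hrrx)
    rw [D.rrr] at h4
    exact h4 h.symm
  have := fill4 (fun _ : T ⧸ B => True) 1 (x : T ⧸ B) ((r x : T) : T ⧸ B) ((r (r x) : T) : T ⧸ B) trivial trivial trivial trivial
    (h1 hx) (h1 hrx) (h1 hrrx) (h2 hx) h3 (h2 hrx) (by rw [hc])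
  rcases this.2 (g : T ⧸ B) trivial with h | h | h | h
  · left
    exact (QuotientGroup.eq_one_iff g).mp h
  · right; left
    exact QuotientGroup.eq.mp h.symm
  · right; right; left
    exact QuotientGroup.eq.mp h.symm
  · right; right; right
    exact QuotientGroup.eq.mp h.symm

/-- Squares of elements lie in `B`. -/
theorem sq_mem (x : T) : x * x ∈ B := by
  by_cases hx : x ∈ B
  · exact B.mul_mem hx hx
  haveI := S.nor
  have h2 : 2 ∣ Nat.card (T ⧸ B) := by
    have : Nat.card (T ⧸ B) = 4 := S.idx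
    rw [this]
    norm_num
  obtain ⟨z, hz⟩ := exists_prime_orderOf_dvd_card' 2 h2
  induction z using QuotientGroup.induction_on with
  | H w =>
    have hw : w * w ∈ B := by
      have h3 : ((w : T) : T ⧸ B) ^ 2 = 1 := by
        rw [← hz]
        exact pow_orderOf_eq_one _
      rw [← QuotientGroup.mk_pow, QuotientGroup.eq_one_iff, pow_two] at h3
      exact h3
    have hwB : w ∉ B := by
      intro h
      have h3 : ((w : T) : T ⧸ B) = 1 := (QuotientGroup.eq_one_iff w).mpr h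
      rw [h3, orderOf_one] at hz
      omega
    have hgen : ∀ s : T, s * s ∈ B → ∀ c, s⁻¹ * c ∈ B → c * c ∈ B := by
      intro s hs c hc
      have h3 : (c : T ⧸ B) = (s : T ⧸ B) := (QuotientGroup.eq.mpr hc).symm
      have h4 : ((c * c : T) : T ⧸ B) = 1 := by
        rw [QuotientGroup.mk_mul, h3, ← QuotientGroup.mk_mul, QuotientGroup.eq_one_iff]
        exact hs
      exact (QuotientGroup.eq_one_iff _).mp h4
    have hrw : r w * r w ∈ B := by
      rw [← map_mul]
      exact S.rb _ hw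
    have hrrw : r (r w) * r (r w) ∈ B := by
      rw [← map_mul]
      exact S.rb _ hrw
    rcases cosets D S hwB x with h | h | h | h
    · exact absurd h hx
    · exact hgen _ hw _ h
    · exact hgen _ hrw _ h
    · exact hgen _ hrrw _ h

theorem mul_r_not_mem {x : T} (hx : x ∉ B) : x * r x ∉ B := by
  intro h
  have h1 : r (r x) ∈ B := by
    rw [D.rr_eq]
    exact B.inv_mem h
  have h2 := S.rb _ h1
  rw [D.rrr] at h2
  exact hx h2

theorem comm_r (x : T) : x * r x = r x * x :=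
  (Cfsg.Agent.Lib.PGroups.Fpf3.comm_sigma r.toMonoidHom D.rrr D.fpf x).eq

/-- Generators of `T`. -/
theorem closure_of_B_le {x : T} (hx : x ∉ B) (hB : B ≤ Subgroup.closure ({x, r x} : Set T)) :
    Subgroup.closure ({x, r x} : Set T) = ⊤ := by
  rw [Subgroup.eq_top_iff']
  intro g
  set H := Subgroup.closure ({x, r x} : Set T) with hH
  have h1 : x ∈ H := Subgroup.subset_closure (by simp)
  have h2 : r x ∈ H := Subgroup.subset_closure (by simp)
  have h3 : r (r x) ∈ H := by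
    rw [D.rr_eq]
    exact H.inv_mem (H.mul_mem h1 h2)
  have h4 : ∀ c, c ∈ H → c⁻¹ * g ∈ B → g ∈ H := by
    intro c hc hg
    have := H.mul_mem hc (hB hg)
    simpa using this
  rcases cosets D S hx g with h | h | h | h
  · exact hB h
  · exact h4 _ h1 h
  · exact h4 _ h2 h
  · exact h4 _ h3 h

/-- If the square of `x` is not a square in `B`, then `x` and `r x` generate. -/
theorem gen_of_sq {x : T} (hx : x ∉ B) (hsq : x * x ∉ pw B S.ab 1) :
    Subgroup.closure ({x, r x} : Set T) = ⊤ := by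
  apply closure_of_B_le D S hx
  set H := Subgroup.closure ({x, r x} : Set T) with hH
  have h1 : x ∈ H := Subgroup.subset_closure (by simp)
  have h2 : r x ∈ H := Subgroup.subset_closure (by simp)
  have h3 : r (r x) ∈ H := by
    rw [D.rr_eq]
    exact H.inv_mem (H.mul_mem h1 h2)
  have hHr : ∀ u ∈ H, r u ∈ H := by
    intro u hu
    induction hu using Subgroup.closure_induction with
    | mem u hu =>
      rcases hu with rfl | rfl
      · exact h2
      · exact h3
    | one => simp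
    | mul u v _ _ h1 h2 =>
      rw [map_mul]
      exact H.mul_mem h1 h2
    | inv u _ h1 =>
      rw [map_inv]
      exact H.inv_mem h1
  haveI := pw_normal D S 1
  set E := (H ⊓ B) ⊔ pw B S.ab 1 with hE
  have hEr : ∀ u ∈ E, r u ∈ E := by
    have : E ≤ E.comap r.toMonoidHom := by
      apply sup_le
      · intro u hu
        exact Subgroup.mem_sup_left ⟨hHr _ hu.1, S.rb _ hu.2⟩
      · intro u hu
        exact Subgroup.mem_sup_right (pw_r D S hu)
    exact fun u hu => this hu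
  set a := dl τ x with ha
  have hs : x * x ∈ H ⊓ B := ⟨H.mul_mem h1 h1, sq_mem D S x⟩
  have hsE : x * x ∈ E := Subgroup.mem_sup_left hs
  have hmem : ∀ c, c⁻¹ * (x * x) ∈ pw B S.ab 1 → c ∈ E := by
    intro c hc
    have h4 : c = (x * x) * (c⁻¹ * (x * x))⁻¹ := by group
    rw [h4]
    exact E.mul_mem hsE (E.inv_mem (Subgroup.mem_sup_right hc))
  have haE : a ∈ E := by
    rcases cls D S hx (sq_mem D S x) with h | h | h | h
    · exact absurd h hsq
    · exact hmem _ h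
    · have := hEr _ (hEr _ (hmem _ h))
      rwa [D.rrr] at this
    · have := hEr _ (hmem _ h)
      rwa [D.rrr] at this
  have hBE : B ≤ E := by
    intro u hu
    have hu' : u ∈ Subgroup.closure ({dl τ x, r (dl τ x)} : Set T) := by
      rw [← S.gen x hx]
      exact hu
    refine (Subgroup.closure_le _).mpr ?_ hu'
    rintro y (rfl | rfl)
    · exact haE
    · exact hEr _ haE
  -- Nakayama
  have hP1 : ∀ w ∈ B, ∃ h ∈ H ⊓ B, ∃ s ∈ B, w = h * s ^ 2 := by
    intro w hw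
    obtain ⟨h, hh, z, hz, rfl⟩ := Subgroup.mem_sup_of_normal_right.mp (hBE hw)
    obtain ⟨s, hs, rfl⟩ := hz
    exact ⟨h, hh, s, hs, by simp⟩
  have hPk : ∀ k, ∀ w ∈ B, ∃ h ∈ H ⊓ B, ∃ s ∈ B, w = h * s ^ 2 ^ k := by
    intro k
    induction k with
    | zero =>
      intro w hw
      exact ⟨1, Subgroup.one_mem _, w, hw, by simp⟩
    | succ k ih =>
      intro w hw
      obtain ⟨h, hh, s, hs, rfl⟩ := ih w hw
      obtain ⟨h', hh', t, ht, rfl⟩ := hP1 s hs
      have hc : Commute h' (t ^ 2) := S.ab _ hh'.2 _ (B.pow_mem ht 2)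
      refine ⟨h * h' ^ 2 ^ k, Subgroup.mul_mem _ hh (Subgroup.pow_mem _ hh' _), t, ht, ?_⟩
      rw [hc.mul_pow, ← pow_mul, mul_assoc]
      congr 3
      rw [pow_succ]
      ring
  obtain ⟨k, hk⟩ := pw_bot (B := B) (hab := S.ab) D.p2
  intro w hw
  obtain ⟨h, hh, s, hs, rfl⟩ := hPk k w hw
  have h5 : s ^ 2 ^ k ∈ pw B S.ab k := ⟨s, hs, rfl⟩
  rw [hk, Subgroup.mem_bot] at h5
  rw [h5, mul_one]
  exact hh.1

/-- Every nontrivial `B` contains the fixed subgroup. -/
theorem fix_le_B (hB : B ≠ ⊥) : fixG τ ≤ B := by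
  obtain ⟨z, hzB, hz1, hz2, -⟩ := exists_fixed D.p2 τ D.tt B
    (fun u hu => by rw [S.inv u hu]; exact B.inv_mem hu) hB
  exact D.fixG_le B S.rb hz2 hz1 hzB

/-- If `B` is bigger than the fixed subgroup, then the fixed subgroup consists of squares. -/
theorem fix_le_pw {u : T} (huB : u ∈ B) (hu : τ u ≠ u) : fixG τ ≤ pw B S.ab 1 := by
  have hexk : ∃ k, τ (u ^ 2 ^ k) = u ^ 2 ^ k := by
    obtain ⟨k, hk⟩ := D.p2 u
    exact ⟨k, by rw [hk, map_one]⟩
  classical
  set k := Nat.find hexk with hk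
  have hk1 : τ (u ^ 2 ^ k) = u ^ 2 ^ k := Nat.find_spec hexk
  have hk0 : k ≠ 0 := by
    intro h0
    rw [h0] at hk1
    simp only [pow_zero, pow_one] at hk1
    exact hu hk1
  obtain ⟨m, hm⟩ := Nat.exists_eq_succ_of_ne_zero hk0
  have hkm : ¬ τ (u ^ 2 ^ m) = u ^ 2 ^ m := Nat.find_min hexk (by omega)
  set w := u ^ 2 ^ m with hw
  have hwB : w ∈ B := B.pow_mem huB _
  have hww : u ^ 2 ^ k = w * w := by
    rw [hm, hw, ← pow_add]
    congr 1
    rw [Nat.succ_eq_add_one, pow_succ]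
    ring
  rw [hww] at hk1
  apply D.fixG_le _ (fun u hu => pw_r D S hu) hk1 _ (sq_mem_pw hwB)
  intro h0
  apply hkm
  rw [S.inv w hwB]
  exact inv_eq_of_mul_eq_one_left h0

end main

section homo

variable {T : Type u} [Group T] [Finite T] {τ r : T ≃* T}

theorem unique_invol {x z : T} {n : ℕ} (hn : orderOf x = 2 ^ (n + 1)) (hz : z ∈ Subgroup.zpowers x) (hz2 : z * z = 1)
    (hz1 : z ≠ 1) : z = x ^ 2 ^ n := by
  have hx : IsOfFinOrder x := by
    rw [← orderOf_pos_iff, hn]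
    positivity
  obtain ⟨k, rfl⟩ : ∃ k : ℕ, x ^ k = z := by
    have := (hx.mem_powers_iff_mem_zpowers).mpr hz
    exact this
  have h1 : x ^ (2 * k) = 1 := by
    rw [two_mul, pow_add]
    exact hz2
  have h2 : 2 ^ (n + 1) ∣ 2 * k := by
    rw [← hn]
    exact orderOf_dvd_of_pow_eq_one h1
  have h3 : 2 ^ n ∣ k := by
    rw [pow_succ, mul_comm] at h2
    exact Nat.dvd_of_mul_dvd_mul_left (by norm_num) h2
  obtain ⟨t, rfl⟩ := h3
  rcases Nat.even_or_odd' t with ⟨s, rfl | rfl⟩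
  · exfalso
    apply hz1
    have : 2 ^ n * (2 * s) = 2 ^ (n + 1) * s := by ring
    rw [this, pow_mul, ← hn, pow_orderOf_eq_one, one_pow]
  · have : 2 ^ n * (2 * s + 1) = 2 ^ (n + 1) * s + 2 ^ n := by ring
    rw [this, pow_add, pow_mul, ← hn, pow_orderOf_eq_one, one_pow, one_mul]

theorem homo (D : Data τ r) (hcomm : ∀ g h : T, g * h = h * g) {x : T} (hgen : Subgroup.closure ({x, r x} : Set T) = ⊤)
    (hx1 : x ≠ 1) :
    ∃ n : ℕ, 1 ≤ n ∧ Nonempty (T ≃* Multiplicative (ZMod (2 ^ n)) × Multiplicative (ZMod (2 ^ n))) := by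
  haveI : Fact (Nat.Prime 2) := ⟨Nat.prime_two⟩
  obtain ⟨k, hk⟩ := D.p2 x
  have h1 : orderOf x ∣ 2 ^ k := orderOf_dvd_of_pow_eq_one hk
  obtain ⟨n, -, hn⟩ := (Nat.dvd_prime_pow Nat.prime_two).mp h1
  have hn0 : n ≠ 0 := by
    intro h0
    rw [h0, pow_zero, orderOf_eq_one_iff] at hn
    exact hx1 hn
  obtain ⟨m, rfl⟩ := Nat.exists_eq_succ_of_ne_zero hn0
  have hn' : orderOf x = 2 ^ (m + 1) := hn
  have hnr : orderOf (r x) = 2 ^ (m + 1) := by
    rw [MulEquiv.orderOf_eq]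
    exact hn'
  set A := Subgroup.zpowers x with hA
  set A' := Subgroup.zpowers (r x) with hA'
  have hinf : A ⊓ A' = ⊥ := by
    by_contra hne
    have hp : IsPGroup 2 (↥(A ⊓ A')) := D.p2.to_subgroup _
    haveI : Nontrivial ↥(A ⊓ A') := (Subgroup.nontrivial_iff_ne_bot _).mpr hne
    obtain ⟨l, hl0, hl⟩ := hp.nontrivial_iff_card.mp inferInstance
    have h2 : 2 ∣ Nat.card ↥(A ⊓ A') := by
      rw [hl]
      exact dvd_pow_self 2 (by omega)
    obtain ⟨z, hz⟩ := exists_prime_orderOf_dvd_card' 2 h2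
    have hz2 : z.1 * z.1 = 1 := by
      have : z * z = 1 := by
        rw [← pow_two, ← hz]
        exact pow_orderOf_eq_one z
      exact congrArg Subtype.val this
    have hz1 : z.1 ≠ 1 := by
      intro h
      have : z = 1 := Subtype.ext h
      rw [this, orderOf_one] at hz
      omega
    have e1 := unique_invol hn' z.2.1 hz2 hz1
    have e2 := unique_invol hnr z.2.2 hz2 hz1
    have e3 : r (x ^ 2 ^ m) = x ^ 2 ^ m := by
      rw [map_pow, ← e2, e1]
    apply hz1
    rw [e1]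
    exact D.fpf _ e3
  let φ : A × A' →* T := MonoidHom.mk' (fun p => p.1.1 * p.2.1) (by
    intro p q
    simp only [Prod.fst_mul, Prod.snd_mul, Subgroup.coe_mul]
    rw [mul_assoc, mul_assoc, ← mul_assoc p.2.1, hcomm p.2.1 q.1.1]
    group)
  have hφ : ∀ p, φ p = p.1.1 * p.2.1 := fun p => rfl
  have hφi : Function.Injective φ := by
    rw [injective_iff_map_eq_one]
    intro p hp
    rw [hφ] at hp
    have h3 : p.1.1 = p.2.1⁻¹ := eq_inv_of_mul_eq_one_left hp
    have h4 : p.1.1 ∈ A ⊓ A' := ⟨p.1.2, by rw [h3]; exact A'.inv_mem p.2.2⟩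
    rw [hinf, Subgroup.mem_bot] at h4
    have h5 : p.2.1 = 1 := by
      rw [h4, one_mul] at hp
      exact hp
    exact Prod.ext (Subtype.ext h4) (Subtype.ext h5)
  have hφs : Function.Surjective φ := by
    rw [← MonoidHom.range_eq_top, eq_top_iff, ← hgen, Subgroup.closure_le]
    rintro y (rfl | rfl)
    · exact ⟨(⟨y, Subgroup.mem_zpowers y⟩, 1), by simp [hφ]⟩
    · exact ⟨(1, ⟨r x, Subgroup.mem_zpowers (r x)⟩), by simp [hφ]⟩
  let e : A × A' ≃* T := MulEquiv.ofBijective φ ⟨hφi, hφs⟩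
  have hc1 : Nat.card A = Nat.card (Multiplicative (ZMod (2 ^ (m + 1)))) := by
    rw [Nat.card_zpowers, hn']
    simp [Nat.card_eq_fintype_card]
  have hc2 : Nat.card A' = Nat.card (Multiplicative (ZMod (2 ^ (m + 1)))) := by
    rw [Nat.card_zpowers, hnr]
    simp [Nat.card_eq_fintype_card]
  exact ⟨m + 1, by omega, ⟨e.symm.trans (MulEquiv.prodCongr (mulEquivOfCyclicCardEq hc1) (mulEquivOfCyclicCardEq hc2))⟩⟩

end homo

section abelian

variable {T : Type u} [Group T] [Finite T] {τ r : T ≃* T} (D : Data τ r) {B : Subgroup T} (S : St τ r B)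

include D S

/-- The abelian case. -/
theorem abelian_case (hcomm : ∀ g h : T, g * h = h * g) :
    (Nat.card T = 16 ∧ ∀ x : T, x ^ 2 = 1) ∨
      ∃ n : ℕ, 1 ≤ n ∧ Nonempty (T ≃* Multiplicative (ZMod (2 ^ n)) × Multiplicative (ZMod (2 ^ n))) := by
  obtain ⟨x, hx⟩ : ∃ x, x ∉ B := by
    by_contra hcon
    push Not at hcon
    have : B = ⊤ := (Subgroup.eq_top_iff' B).mpr hcon
    have h2 := S.idx
    rw [this, Subgroup.index_top] at h2
    omega
  have hx1 : x ≠ 1 := fun h => hx (h ▸ B.one_mem)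
  by_cases hsq : x * x ∈ pw B S.ab 1
  swap
  · right
    exact homo D hcomm (gen_of_sq D S hx hsq) hx1
  by_cases hB : B = ⊥
  · right
    refine homo D hcomm (closure_of_B_le D S hx ?_) hx1
    rw [hB]
    exact bot_le
  left
  obtain ⟨y, hy, hyx⟩ := hsq
  have hyx' : y * y = x * x := by
    rw [← hyx, pow_one, pow_two]
  set w := x * y⁻¹ with hw
  have hww : w * w = 1 := by
    rw [hw, mul_assoc, ← mul_assoc y⁻¹, hcomm y⁻¹ x, mul_assoc, ← mul_assoc, ← hyx']
    group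
  have hdlw : dl τ w * dl τ w = 1 := by
    have := dl_mul τ w w
    have h2 : dl τ (w * w) = 1 := by
      rw [hww]
      simp [dl]
    rw [h2] at this
    have h3 : w⁻¹ * dl τ w * w = dl τ w := by
      rw [hcomm w⁻¹, mul_assoc]
      group
    rw [h3] at this
    exact this.symm
  have hfix : τ (dl τ w) = dl τ w := by
    rw [dl_inv_self D.tt]
    exact inv_eq_of_mul_eq_one_left hdlw
  have hval : dl τ w = dl τ x * (y * y) := by
    simp only [hw, dl, map_mul, map_inv, S.inv y hy, inv_inv, mul_inv_rev]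
    rw [hcomm y x⁻¹, mul_assoc x⁻¹ y, ← mul_assoc y, hcomm y (τ x)]
    group
  by_cases hBV : ∀ u ∈ B, τ u = u
  · -- `B` is the fixed subgroup
    have hsqB : ∀ u ∈ B, u * u = 1 := fun u hu => D.el u (hBV u hu)
    have hxx : x * x = 1 := by rw [← hyx', hsqB y hy]
    have hall : ∀ g : T, g ^ 2 = 1 := by
      intro g
      rw [pow_two]
      have hmul : ∀ c, c * c = 1 → c⁻¹ * g ∈ B → g * g = 1 := by
        intro c hc hg
        have h5 := hsqB _ hg
        have h6 : g = c * (c⁻¹ * g) := by group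
        rw [h6, mul_assoc c, ← mul_assoc (c⁻¹ * g), hcomm (c⁻¹ * g) c, mul_assoc c, h5, mul_one, hc]
      have hr1 : r x * r x = 1 := by rw [← map_mul, hxx, map_one]
      have hr2 : r (r x) * r (r x) = 1 := by rw [← map_mul, hr1, map_one]
      rcases cosets D S hx g with h | h | h | h
      · exact hsqB g h
      · exact hmul _ hxx h
      · exact hmul _ hr1 h
      · exact hmul _ hr2 h
    refine ⟨?_, hall⟩
    have hBeq : Nat.card B = 4 := by
      rw [← D.card4]
      apply Nat.card_congr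
      refine Equiv.subtypeEquivRight ?_
      intro u
      exact ⟨hBV u, fun hu => fix_le_B D S hB hu⟩
    have := B.card_mul_index
    rw [hBeq, S.idx] at this
    omega
  · exfalso
    push Not at hBV
    obtain ⟨u, hu, hu2⟩ := hBV
    have h5 : fixG τ ≤ pw B S.ab 1 := fix_le_pw D S hu hu2
    have h6 : dl τ w ∈ pw B S.ab 1 := h5 hfix
    apply dl_not_mem D S hB hx
    have h7 : dl τ x = dl τ w * (y * y)⁻¹ := by rw [hval]; group
    rw [h7]
    exact Subgroup.mul_mem _ h6 (Subgroup.inv_mem _ (sq_mem_pw hy))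

end abelian

end Cfsg.Agent.Lib.LocalEven2.T33
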