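import Cfsg.Agent.Lib.LocalEven2.T33c

/-! The nonabelian case: explicit relations. -/

set_option autoImplicit false
set_option linter.unusedVariables false
set_option linter.unusedSectionVars false

namespace Cfsg.Agent.Lib.LocalEven2.T33

open scoped commutatorElement

universe u

/-- The relations of a group of order `64`. -/
structure Rel {X : Type*} [Group X] (a b x y : X) : Prop where
  a4 : a ^ 4 = 1
  b4 : b ^ 4 = 1
  ab : a * b = b * a
  axa : a * x * a = x
  bxb : b * x * b = x * (a * a)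
  aya : a * y * a = y * (b * b)
  byb : b * y * b = y
  xy : x * y = y * x
  a2 : a * a ≠ 1
  b2 : b * b ≠ 1
  a2b2 : a * a ≠ b * b

section cm

variable {T : Type u} [Group T]

/-- The commutator `[u, g]`. -/
def cm (u g : T) : T := u⁻¹ * (g⁻¹ * u * g)

theorem conj_eq (u g : T) : g⁻¹ * u * g = u * cm u g := by
  simp [cm]

theorem cm_r (r : T ≃* T) (u g : T) : r (cm u g) = cm (r u) (r g) := by
  simp [cm, map_mul, map_inv]

theorem cm_mul_left (hz : ∀ u g k : T, cm u g * k = k * cm u g) (u v g : T) : cm (u * v) g = cm u g * cm v g := by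
  have h1 : cm (u * v) g = v⁻¹ * u⁻¹ * ((g⁻¹ * u * g) * (g⁻¹ * v * g)) := by
    simp only [cm]
    group
  rw [h1, conj_eq, conj_eq]
  have h2 : u * cm u g * (v * cm v g) = u * (v * cm u g) * cm v g := by
    rw [mul_assoc u, ← mul_assoc (cm u g), hz u g v]
    group
  rw [h2]
  group

theorem cm_mul_right (hz : ∀ u g k : T, cm u g * k = k * cm u g) (u g h : T) : cm u (g * h) = cm u g * cm u h := by
  have h1 : cm u (g * h) = u⁻¹ * (h⁻¹ * (g⁻¹ * u * g) * h) := by
    simp only [cm]
    group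
  rw [h1, conj_eq u g]
  have h2 : h⁻¹ * (u * cm u g) * h = h⁻¹ * u * h * cm u g := by
    rw [mul_assoc h⁻¹, mul_assoc u, hz u g h]
    group
  rw [h2, conj_eq u h]
  have h3 : u⁻¹ * (u * cm u h * cm u g) = cm u h * cm u g := by group
  rw [h3]
  exact (hz u g (cm u h)).symm

theorem cm_one_left (g : T) : cm (1 : T) g = 1 := by simp [cm]

theorem cm_one_right (u : T) : cm u (1 : T) = 1 := by simp [cm]

theorem cm_inv_left (hz : ∀ u g k : T, cm u g * k = k * cm u g) (u g : T) : cm u⁻¹ g = (cm u g)⁻¹ := by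
  apply eq_inv_of_mul_eq_one_left
  rw [← cm_mul_left hz, inv_mul_cancel, cm_one_left]

theorem alg_p {e p A Q W : T} (hQ : ∀ k, Q * k = k * Q) (h1 : e * (A * Q)⁻¹ * W = 1) (h2 : p * Q * W = 1)
    (hAA : A * A = 1) (hQQ : Q * Q = 1) : p = e * A := by
  have hA' : A⁻¹ = A := inv_eq_of_mul_eq_one_left hAA
  have hQ' : Q⁻¹ = Q := inv_eq_of_mul_eq_one_left hQQ
  have hW : W = Q * p⁻¹ := by
    have : W = (p * Q)⁻¹ := eq_inv_of_mul_eq_one_right h2
    rw [this, mul_inv_rev, hQ']
  rw [hW, mul_inv_rev, hQ', hA', hQ A] at h1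
  have h3 : e * (A * Q) * (Q * p⁻¹) = e * A * (Q * Q) * p⁻¹ := by group
  rw [h3, hQQ, mul_one] at h1
  exact (mul_inv_eq_one.mp h1).symm

end cm

section main

variable {T : Type u} [Group T] [Finite T] {τ r : T ≃* T} (D : Data τ r) {B : Subgroup T} (S : St τ r B)

include D

theorem cm_central (u g k : T) : cm u g * k = k * cm u g := by
  haveI : Group.IsNilpotent T := D.p2.isNilpotent
  have h := Cfsg.Agent.Lib.PGroups.Fpf3.lcs_two_eq_bot r.toMonoidHom D.rrr D.fpf
  have h1 : ⁅⁅u⁻¹, g⁻¹⁆, k⁆ ∈ (⊤ : Subgroup T).lowerCentralSeries 2 :=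
    Subgroup.commutator_mem_commutator (Subgroup.commutator_mem_commutator (Subgroup.mem_top _) (Subgroup.mem_top _)) (Subgroup.mem_top _)
  rw [h, Subgroup.mem_bot] at h1
  have h2 : Commute ⁅u⁻¹, g⁻¹⁆ k := commutatorElement_eq_one_iff_commute.mp h1
  have h3 : ⁅u⁻¹, g⁻¹⁆ = cm u g := by
    simp only [commutatorElement_def, inv_inv, cm]
    group
  rw [← h3]
  exact h2

include S

theorem cm_self_B {u v : T} (hu : u ∈ B) (hv : v ∈ B) : cm u v = 1 := by
  have : v⁻¹ * u * v = u := by
    rw [S.ab v⁻¹ (B.inv_mem hv) u hu]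
    group
  simp [cm, this]

theorem cm_sq_one {u : T} (hu : u ∈ B) (g : T) : cm u g * cm u g = 1 := by
  rw [← cm_mul_right (cm_central D), cm_self_B D S hu (sq_mem D S g)]

theorem sq_pw (hnc : ¬ ∀ g h : T, g * h = h * g) {x : T} (hx : x ∉ B) : x * x ∈ pw B S.ab 1 := by
  by_contra h
  apply hnc
  have h1 := gen_of_sq D S hx h
  have h2 := comm_pair (comm_r D S x)
  rw [h1] at h2
  intro g k
  exact h2 g trivial k trivial

theorem fourth_of {x : T} (hx : x ∉ B) (hsq : x * x ∈ pw B S.ab 1) :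
    ∃ v ∈ B, v ^ 2 = x * x ∧ (dl τ x) ^ 4 = (v⁻¹) ^ 8 ∧ v ^ 4 * ((dl τ x) * (dl τ x) * cm (dl τ x) x) = 1 := by
  obtain ⟨v, hv, hv2⟩ := hsq
  rw [pow_one] at hv2
  refine ⟨v, hv, hv2, ?_⟩
  set a := dl τ x with ha
  set e := cm a x with he
  have haB : a ∈ B := S.dlm x
  have hτ : τ x = x * a := by simp [ha, dl]
  have hX : x * x ∈ B := sq_mem D S x
  have h1 : τ (x * x) = (x * x)⁻¹ := S.inv _ hX
  have h2 : τ (x * x) = x * x * (a * a * e) := by
    rw [map_mul, hτ]
    have h3 : a * x = x * (a * e) := by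
      have := conj_eq a x
      rw [← this]
      group
    calc x * a * (x * a) = x * (a * x) * a := by group
      _ = x * (x * (a * e)) * a := by rw [h3]
      _ = x * x * (a * (e * a)) := by group
      _ = x * x * (a * (a * e)) := by rw [cm_central D a x a]
      _ = x * x * (a * a * e) := by group
  rw [h2] at h1
  have hv4 : x * x * (x * x) = v ^ 4 := by
    rw [← hv2, ← pow_add]
  have h5 : v ^ 4 * (a * a * e) = 1 := by
    rw [← hv4, mul_assoc]
    have : x * x * (a * a * e) = (x * x)⁻¹ := h1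
    rw [this]
    group
  have hee : e * e = 1 := cm_sq_one D S haB x
  have hvc : Commute v a := S.ab _ hv _ haB
  have h6 : a ^ 4 = (v⁻¹) ^ 8 := by
    have he' : e = (v ^ 4 * (a * a))⁻¹ := by
      have : v ^ 4 * (a * a) * e = 1 := by rw [mul_assoc]; exact h5
      exact eq_inv_of_mul_eq_one_right this
    have h7 : (v ^ 4 * (a * a))⁻¹ * (v ^ 4 * (a * a))⁻¹ = 1 := by
      rw [← he']
      exact hee
    have h8 : (v ^ 4 * (a * a)) * (v ^ 4 * (a * a)) = 1 := by
      have := congrArg (·⁻¹) h7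
      simpa [mul_assoc] using this
    have hc2 : Commute (v ^ 4) (a * a) := (hvc.pow_left 4).mul_right (hvc.pow_left 4)
    have h9 : v ^ 8 * a ^ 4 = 1 := by
      have e1 : (v ^ 4 * (a * a)) * (v ^ 4 * (a * a)) = v ^ 4 * v ^ 4 * ((a * a) * (a * a)) := by
        rw [mul_assoc, ← mul_assoc (a * a), ← hc2.eq]
        group
      rw [e1] at h8
      have e2 : v ^ 4 * v ^ 4 = v ^ 8 := by rw [← pow_add]
      have e3 : (a * a) * (a * a) = a ^ 4 := by
        simp only [pow_succ, pow_zero, one_mul, mul_assoc]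
      rwa [e2, e3] at h8
    rw [inv_pow]
    exact eq_inv_of_mul_eq_one_right h9
  exact ⟨h6, h5⟩

/-- `B` has exponent dividing four. -/
theorem exp4 (hnc : ¬ ∀ g h : T, g * h = h * g) : ∀ u ∈ B, u ^ 4 = 1 := by
  obtain ⟨x, hx⟩ : ∃ x, x ∉ B := by
    by_contra hcon
    push Not at hcon
    have : B = ⊤ := (Subgroup.eq_top_iff' B).mpr hcon
    have h2 := S.idx
    rw [this, Subgroup.index_top] at h2
    omega
  obtain ⟨v, hv, -, ha4, -⟩ := fourth_of D S hx (sq_pw D S hnc hx)
  set a := dl τ x with ha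
  set b := r a with hb
  have haB : a ∈ B := S.dlm x
  have hbB : b ∈ B := S.rb _ haB
  have hb4 : b ^ 4 = (r v⁻¹) ^ 8 := by
    rw [hb, ← map_pow, ha4, map_pow]
  have hstep : ∀ u ∈ B, ∃ w ∈ B, u ^ 4 = w ^ 8 := by
    intro u hu
    obtain ⟨m, n, rfl⟩ := exists_zpow D S hx hu
    have hc : Commute a b := S.ab _ haB _ hbB
    have hrvB : r v⁻¹ ∈ B := S.rb _ (B.inv_mem hv)
    have hc2 : Commute ((v⁻¹) ^ m) ((r v⁻¹) ^ n) :=
      Commute.zpow_zpow (S.ab _ (B.inv_mem hv) _ hrvB) m n
    refine ⟨(v⁻¹) ^ m * (r v⁻¹) ^ n, B.mul_mem (B.zpow_mem (B.inv_mem hv) _) (B.zpow_mem hrvB _), ?_⟩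
    rw [(hc.zpow_zpow m n).mul_pow, hc2.mul_pow]
    have e1 : (a ^ m) ^ 4 = ((v⁻¹) ^ m) ^ 8 := by
      rw [← zpow_natCast (a ^ m), ← zpow_natCast ((v⁻¹) ^ m), ← zpow_mul, ← zpow_mul, mul_comm, zpow_mul, zpow_natCast, mul_comm m,
        zpow_mul ((v⁻¹)), zpow_natCast]
      push_cast
      rw [ha4]
    have e2 : (b ^ n) ^ 4 = ((r v⁻¹) ^ n) ^ 8 := by
      rw [← zpow_natCast (b ^ n), ← zpow_natCast ((r v⁻¹) ^ n), ← zpow_mul, ← zpow_mul, mul_comm, zpow_mul, zpow_natCast, mul_comm n,
        zpow_mul ((r v⁻¹)), zpow_natCast]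
      push_cast
      rw [hb4]
    rw [e1, e2]
  have hiter : ∀ k, ∀ u ∈ B, ∃ w ∈ B, u ^ 4 = w ^ 2 ^ (k + 3) := by
    intro k
    induction k with
    | zero =>
      intro u hu
      obtain ⟨w, hw, h⟩ := hstep u hu
      exact ⟨w, hw, by rw [h]; norm_num⟩
    | succ k ih =>
      intro u hu
      obtain ⟨w, hw, h⟩ := ih u hu
      obtain ⟨w', hw', h'⟩ := hstep w hw
      refine ⟨w', hw', ?_⟩
      have e1 : w ^ 2 ^ (k + 3) = (w ^ 4) ^ 2 ^ (k + 1) := by
        rw [← pow_mul]
        congr 1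
        ring
      rw [h, e1, h', ← pow_mul]
      congr 1
      ring
  obtain ⟨K, hK⟩ := IsPGroup.iff_card.mp D.p2
  intro u hu
  obtain ⟨w, hw, h⟩ := hiter K u hu
  rw [h]
  have : w ^ 2 ^ (K + 3) = (w ^ 2 ^ K) ^ 2 ^ 3 := by
    rw [← pow_mul]
    congr 1
    ring
  rw [this, ← hK, pow_card_eq_one', one_pow]

/-- Values of commutators at one element. -/
theorem values (hnc : ¬ ∀ g h : T, g * h = h * g) {x : T} (hx : x ∉ B) :
    cm (dl τ x) x = dl τ x * dl τ x ∧
    cm (r (dl τ x)) x = dl τ x * dl τ x * (r (dl τ x) * r (dl τ x)) := by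
  have h4 := exp4 D S hnc
  obtain ⟨v, hv, -, -, h5⟩ := fourth_of D S hx (sq_pw D S hnc hx)
  set a := dl τ x with ha
  set b := r a with hb
  have haB : a ∈ B := S.dlm x
  have hbB : b ∈ B := S.rb _ haB
  rw [h4 v hv, one_mul] at h5
  have ha4 := h4 a haB
  have hinv : (a * a)⁻¹ = a * a := by
    apply inv_eq_of_mul_eq_one_left
    rw [← ha4]
    simp only [pow_succ, pow_zero, one_mul, mul_assoc]
  have he : cm a x = a * a := by
    have : cm a x = (a * a)⁻¹ := eq_inv_of_mul_eq_one_right h5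
    rw [this, hinv]
  refine ⟨he, ?_⟩
  -- the norm of the product
  set y := r x with hy
  set z := r y with hz
  set c := r b with hc
  have hcz := cm_central D (T := T)
  have hxyz : x * y * z = 1 := D.norm_one x
  have h3 : cm a x * cm a y * cm a z = 1 := by
    rw [← cm_mul_right hcz, ← cm_mul_right hcz, hxyz, cm_one_right]
  have hrc : r c = a := D.rrr a
  have hcval : c = (a * b)⁻¹ := D.rr_eq a
  have h6 : cm a y = (r (cm a x) * r (cm b x))⁻¹ := by
    have e1 : cm a y = r (cm c x) := by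
      rw [cm_r, hrc]
    rw [e1, hcval, cm_inv_left hcz, cm_mul_left hcz, map_inv, map_mul]
  have h7 : cm a z = r (r (cm b x)) := by
    rw [cm_r, cm_r, ← hc, hrc]
  rw [h6, h7] at h3
  have hp := alg_p (e := cm a x) (p := cm b x) (A := r (cm a x)) (Q := r (cm b x)) (W := r (r (cm b x)))
    (fun k => by
      rw [cm_r]
      exact hcz _ _ _) h3 (D.norm_one _)
    (by rw [← map_mul, cm_sq_one D S haB, map_one])
    (by rw [← map_mul, cm_sq_one D S hbB, map_one])
  rw [hp, he, map_mul]

end main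

section main2

variable {T : Type u} [Group T] [Finite T] {τ r : T ≃* T} (D : Data τ r) {B : Subgroup T} (S : St τ r B)

include D S

theorem top_of_le {x : T} (hx : x ∉ B) (H : Subgroup T) (h1 : x ∈ H) (h2 : r x ∈ H) (hB : B ≤ H) : H = ⊤ := by
  rw [Subgroup.eq_top_iff']
  intro g
  have h3 : r (r x) ∈ H := by
    rw [D.rr_eq]
    exact H.inv_mem (H.mul_mem h1 h2)
  have h4 : ∀ c, c ∈ H → c⁻¹ * g ∈ B → g ∈ H := by
    intro c hc hg
    have := H.mul_mem hc (hB hg)
    simpa using this
  rcases cosets D S hx g with h | h | h | h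
  · exact hB h
  · exact h4 _ h1 h
  · exact h4 _ h2 h
  · exact h4 _ h3 h

theorem B_le_closure {x : T} (hx : x ∉ B) (H : Subgroup T) (h1 : dl τ x ∈ H) (h2 : r (dl τ x) ∈ H) : B ≤ H := by
  intro u hu
  have hu' : u ∈ Subgroup.closure ({dl τ x, r (dl τ x)} : Set T) := by
    rw [← S.gen x hx]
    exact hu
  refine (Subgroup.closure_le _).mpr ?_ hu'
  rintro y (rfl | rfl)
  · exact h1
  · exact h2

theorem rels (hnc : ¬ ∀ g h : T, g * h = h * g) {x : T} (hx : x ∉ B) :
    Rel (dl τ x) (r (dl τ x)) x (r x) := by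
  have h4 := exp4 D S hnc
  obtain ⟨he, hp⟩ := values D S hnc hx
  set a := dl τ x with ha
  set b := r a with hb
  set y := r x with hy
  set c := r b with hc
  have haB : a ∈ B := S.dlm x
  have hbB : b ∈ B := S.rb _ haB
  have ha4 := h4 a haB
  have hb4 := h4 b hbB
  have hcz := cm_central D (T := T)
  have hab : a * b = b * a := S.ab _ haB _ hbB
  have hAA : a * a * (a * a) = 1 := by
    rw [← ha4]
    simp only [pow_succ, pow_zero, one_mul, mul_assoc]
  have hBB : b * b * (b * b) = 1 := by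
    rw [← hb4]
    simp only [pow_succ, pow_zero, one_mul, mul_assoc]
  have hAB : a * a * (b * b) = b * b * (a * a) := S.ab _ (B.mul_mem haB haB) _ (B.mul_mem hbB hbB)
  have hbq : b * (b * b) = b * b * b := by group
  have hcval : c = (a * b)⁻¹ := D.rr_eq a
  have hcc : c * c = a * a * (b * b) := by
    have e1 : (a * b) * (a * b) = a * a * (b * b) := by
      rw [mul_assoc a b, ← mul_assoc b a, ← hab]
      group
    rw [hcval, ← mul_inv_rev, e1, mul_inv_rev]
    rw [inv_eq_of_mul_eq_one_left hAA, inv_eq_of_mul_eq_one_left hBB, hAB]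
  have hcbb : cm b y = b * b := by
    rw [hb, hy, ← cm_r, he, map_mul]
  have hcaa : cm a y = a * a * (b * b) := by
    have e1 : cm c y = r (a * a * (b * b)) := by
      rw [hy, hc, ← cm_r, hp]
    have e2 : c⁻¹ = a * b := by rw [hcval, inv_inv]
    have e3 : cm (a * b) y = (cm c y)⁻¹ := by
      rw [← e2, cm_inv_left hcz]
    rw [cm_mul_left hcz, hcbb, e1, map_mul, map_mul, map_mul, ← hb, ← hc, hcc] at e3
    have e4 : ((b * b) * (a * a * (b * b)))⁻¹ = a * a := by
      apply inv_eq_of_mul_eq_one_left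
      have : b * b * (a * a * (b * b)) = a * a * (b * b * (b * b)) := by
        rw [← mul_assoc, ← hAB]
        group
      rw [this, hBB, mul_one, hAA]
    rw [e4] at e3
    have e5 := eq_mul_inv_of_mul_eq e3
    rw [e5, inv_eq_of_mul_eq_one_left hBB]
  -- the four relations
  have hconj : ∀ {u g w : T}, cm u g = w → u * g = g * (u * w) := by
    intro u g w h
    rw [← h, ← conj_eq]
    group
  have h_axa : a * x * a = x := by
    rw [hconj he]
    have : a * (a * a) * a = 1 := by
      rw [← hAA]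
      group
    rw [mul_assoc, this, mul_one]
  have h_bxb : b * x * b = x * (a * a) := by
    rw [hconj hp, mul_assoc x]
    congr 1
    have hbA : b * (a * a) = a * a * b := S.ab _ hbB _ (B.mul_mem haB haB)
    calc b * (a * a * (b * b)) * b = (b * (a * a)) * (b * b) * b := by group
      _ = a * a * (b * (b * b) * b) := by rw [hbA]; group
      _ = a * a * (b * b * (b * b)) := by group
      _ = a * a := by rw [hBB, mul_one]
  have h_aya : a * y * a = y * (b * b) := by
    rw [hconj hcaa, mul_assoc y]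
    congr 1
    calc a * (a * a * (b * b)) * a = (a * (a * a)) * (b * b) * a := by group
      _ = (a * (a * a)) * (a * (b * b)) := by
        rw [mul_assoc (a * (a * a)), S.ab _ (B.mul_mem hbB hbB) _ haB]
      _ = (a * a * (a * a)) * (b * b) := by group
      _ = b * b := by rw [hAA, one_mul]
  have h_byb : b * y * b = y := by
    rw [hconj hcbb]
    have : b * (b * b) * b = 1 := by
      rw [← hBB]
      group
    rw [mul_assoc, this, mul_one]
  have hA1 : a * a ≠ 1 := by
    intro h0
    apply hnc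
    have hb0 : b * b = 1 := by rw [hb, ← map_mul, h0, map_one]
    have hgen := top_of_le D S hx (Subgroup.closure ({a, b, x, y} : Set T)) (Subgroup.subset_closure (Or.inr (Or.inr (Or.inl rfl))))
      (Subgroup.subset_closure (Or.inr (Or.inr (Or.inr rfl)))) (B_le_closure D S hx _ (Subgroup.subset_closure (Or.inl rfl)) (Subgroup.subset_closure (Or.inr (Or.inl rfl))))
    have hcomm : ∀ u ∈ ({a, b, x, y} : Set T), ∀ v ∈ ({a, b, x, y} : Set T), u * v = v * u := by
      have h1 : a * x = x * a := by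
        rw [hconj he, h0, mul_one]
      have h2 : b * x = x * b := by
        rw [hconj hp, h0, hb0, mul_one, mul_one]
      have h3 : a * y = y * a := by
        rw [hconj hcaa, h0, hb0, mul_one, mul_one]
      have h5 : b * y = y * b := by
        rw [hconj hcbb, hb0, mul_one]
      have h6 : x * y = y * x := comm_r D S x
      rintro u (rfl | rfl | rfl | rfl) v (rfl | rfl | rfl | rfl)
      · rfl
      · exact hab
      · exact h1
      · exact h3
      · exact hab.symm
      · rfl
      · exact h2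
      · exact h5
      · exact h1.symm
      · exact h2.symm
      · rfl
      · exact h6
      · exact h3.symm
      · exact h5.symm
      · exact h6.symm
      · rfl
    have h7 := comm_closure _ hcomm
    rw [hgen] at h7
    intro g k
    exact h7 g trivial k trivial
  have hA2 : b * b ≠ 1 := by
    intro h0
    rw [hb, ← map_mul, map_eq_one_iff r r.injective] at h0
    exact hA1 h0
  have hA3 : a * a ≠ b * b := by
    intro h0
    apply hA1
    apply D.fpf
    rw [map_mul, ← hb]
    exact h0.symm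
  exact ⟨ha4, hb4, hab, h_axa, h_bxb, h_aya, h_byb, comm_r D S x, hA1, hA2, hA3⟩

theorem sq_cases (hnc : ¬ ∀ g h : T, g * h = h * g) {x : T} (hx : x ∉ B) :
    x * x = 1 ∨ x * x = dl τ x * dl τ x ∨ x * x = r (dl τ x) * r (dl τ x) ∨
      x * x = dl τ x * dl τ x * (r (dl τ x) * r (dl τ x)) := by
  have h4 := exp4 D S hnc
  obtain ⟨v, hv, hv2⟩ := sq_pw D S hnc hx
  rw [pow_one] at hv2
  obtain ⟨m, n, hmn⟩ := exists_zpow D S hx hv
  set a := dl τ x with ha
  set b := r a with hb
  have haB : a ∈ B := S.dlm x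
  have hbB : b ∈ B := S.rb _ haB
  have hc : Commute a b := S.ab _ haB _ hbB
  rw [zpow_split hc m n] at hmn
  set t := a ^ (m / 2) * b ^ (n / 2) with ht
  have htB : t ∈ B := B.mul_mem (B.zpow_mem haB _) (B.zpow_mem hbB _)
  have ht4 : (t ^ 2) ^ 2 = 1 := by
    rw [← pow_mul]
    exact h4 t htB
  have hcomm : ∀ p ∈ B, (p * t ^ 2) ^ 2 = p ^ 2 := by
    intro p hp
    have hc2 : Commute p (t ^ 2) := S.ab _ hp _ (B.pow_mem htB 2)
    rw [hc2.mul_pow, ht4, mul_one]
  have hv3 : x * x = (a ^ (m % 2) * b ^ (n % 2)) ^ 2 := by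
    rw [← hv2, hmn]
    apply hcomm
    exact B.mul_mem (B.zpow_mem haB _) (B.zpow_mem hbB _)
  rcases Int.emod_two_eq m with h1 | h1 <;> rcases Int.emod_two_eq n with h2 | h2 <;> rw [h1, h2] at hv3
  · left
    simpa using hv3
  · right; right; left
    simpa [pow_two] using hv3
  · right; left
    simpa [pow_two] using hv3
  · right; right; right
    simp only [zpow_one] at hv3
    rw [hv3, hc.mul_pow, pow_two, pow_two]

theorem exists_type (hnc : ¬ ∀ g h : T, g * h = h * g) :
    ∃ x, x ∉ B ∧ (x * x = 1 ∨ x * x = r (dl τ x) * r (dl τ x)) := by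
  obtain ⟨x, hx⟩ : ∃ x, x ∉ B := by
    by_contra hcon
    push Not at hcon
    have : B = ⊤ := (Subgroup.eq_top_iff' B).mpr hcon
    have h2 := S.idx
    rw [this, Subgroup.index_top] at h2
    omega
  have hR := rels D S hnc hx
  have h4 := exp4 D S hnc
  have hcases := sq_cases D S hnc hx
  set a := dl τ x with ha
  set b := r a with hb
  have haB : a ∈ B := S.dlm x
  have hbB : b ∈ B := S.rb _ haB
  have hbx : b * x ∉ B := by
    intro h
    apply hx
    have := B.mul_mem (B.inv_mem hbB) h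
    simpa using this
  have hfix : ∀ u ∈ B, u ^ 4 = 1 → τ (u * u) = u * u := by
    intro u hu hu4
    rw [map_mul, S.inv u hu]
    have : u⁻¹ * u⁻¹ = (u * u)⁻¹ := by group
    rw [this]
    apply inv_eq_of_mul_eq_one_left
    rw [← hu4]
    simp only [pow_succ, pow_zero, one_mul, mul_assoc]
  have hAfix := hfix a haB (h4 a haB)
  have hBfix := hfix b hbB (h4 b hbB)
  have hsq : b * x * (b * x) = a * a * (x * x) := by
    calc b * x * (b * x) = b * x * b * x := by group
      _ = x * (a * a) * x := by rw [hR.bxb]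
      _ = (a * a) * x * x := by rw [D.cen _ hAfix x]
      _ = a * a * (x * x) := by group
  -- the value of the new generator
  have hdl : dl τ (b * x) = b * b * a := by
    rw [dl_mul]
    have e1 : dl τ b = b * b := by
      simp only [dl]
      rw [S.inv b hbB]
      have e2 : b⁻¹ * b⁻¹ = (b * b)⁻¹ := by group
      rw [e2]
      apply inv_eq_of_mul_eq_one_left
      have := h4 b hbB
      rw [← this]
      simp only [pow_succ, pow_zero, one_mul, mul_assoc]
    rw [e1]
    have e3 : x⁻¹ * (b * b) * x = b * b := by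
      rw [mul_assoc, D.cen _ hBfix x]
      group
    rw [e3]
  have hdl2 : r (dl τ (b * x)) * r (dl τ (b * x)) = b * b := by
    rw [hdl, map_mul, map_mul, ← hb]
    set c := r b with hc
    have hcB : c ∈ B := S.rb _ hbB
    have e1 : c * c * b * (c * c * b) = c * c * (c * c) * (b * b) := by
      have : b * (c * c) = c * c * b := S.ab _ hbB _ (B.mul_mem hcB hcB)
      calc c * c * b * (c * c * b) = c * c * (b * (c * c)) * b := by group
        _ = c * c * (c * c * b) * b := by rw [this]
        _ = c * c * (c * c) * (b * b) := by group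
    rw [e1]
    have e2 : c * c * (c * c) = 1 := by
      have := h4 c hcB
      rw [← this]
      simp only [pow_succ, pow_zero, one_mul, mul_assoc]
    rw [e2, one_mul]
  have hAA : a * a * (a * a) = 1 := by
    have := h4 a haB
    rw [← this]
    simp only [pow_succ, pow_zero, one_mul, mul_assoc]
  rcases hcases with h | h | h | h
  · exact ⟨x, hx, Or.inl h⟩
  · refine ⟨b * x, hbx, Or.inl ?_⟩
    rw [hsq, h, hAA]
  · exact ⟨x, hx, Or.inr h⟩
  · refine ⟨b * x, hbx, Or.inr ?_⟩
    rw [hsq, h, hdl2, ← mul_assoc, hAA, one_mul]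

/-- The output of the nonabelian analysis. -/
theorem nonab_case (hnc : ¬ ∀ g h : T, g * h = h * g) :
    ∃ a b x y : T, Rel a b x y ∧ ((x * x = 1 ∧ y * y = 1) ∨ (x * x = b * b ∧ y * y = a * a * (b * b))) ∧
      a ∈ B ∧ b ∈ B ∧ x ∉ B ∧ y ∉ B ∧ x * y ∉ B ∧ x * x ∈ B ∧ y * y ∈ B ∧
      Subgroup.closure ({a, b, x, y} : Set T) = ⊤ := by
  obtain ⟨x, hx, hty⟩ := exists_type D S hnc
  have hR := rels D S hnc hx
  have h4 := exp4 D S hnc
  refine ⟨dl τ x, r (dl τ x), x, r x, hR, ?_, S.dlm x, S.rb _ (S.dlm x), hx, r_not_mem D S hx, mul_r_not_mem D S hx,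
    sq_mem D S x, sq_mem D S _, ?_⟩
  · rcases hty with h | h
    · left
      refine ⟨h, ?_⟩
      rw [← map_mul, h, map_one]
    · right
      refine ⟨h, ?_⟩
      rw [← map_mul, h, map_mul]
      set a := dl τ x with ha
      set b := r a with hb
      have haB : a ∈ B := S.dlm x
      have hbB : b ∈ B := S.rb _ haB
      have hab : a * b = b * a := hR.ab
      have hAA : a * a * (a * a) = 1 := by
        have := h4 a haB
        rw [← this]
        simp only [pow_succ, pow_zero, one_mul, mul_assoc]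
      have hBB : b * b * (b * b) = 1 := by
        have := h4 b hbB
        rw [← this]
        simp only [pow_succ, pow_zero, one_mul, mul_assoc]
      have hAB : a * a * (b * b) = b * b * (a * a) := S.ab _ (B.mul_mem haB haB) _ (B.mul_mem hbB hbB)
      have hcval : r b = (a * b)⁻¹ := D.rr_eq a
      have e1 : (a * b) * (a * b) = a * a * (b * b) := by
        rw [mul_assoc a b, ← mul_assoc b a, ← hab]
        group
      rw [hcval, ← mul_inv_rev, e1, mul_inv_rev]
      rw [inv_eq_of_mul_eq_one_left hAA, inv_eq_of_mul_eq_one_left hBB, hAB]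
  · exact top_of_le D S hx _ (Subgroup.subset_closure (Or.inr (Or.inr (Or.inl rfl))))
      (Subgroup.subset_closure (Or.inr (Or.inr (Or.inr rfl)))) (B_le_closure D S hx _ (Subgroup.subset_closure (Or.inl rfl)) (Subgroup.subset_closure (Or.inr (Or.inl rfl))))

end main2

end Cfsg.Agent.Lib.LocalEven2.T33
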