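import Mathlib

/-! Abstract isomorphisms between subgroups generated by explicit elements, from a multiplication table. -/

set_option autoImplicit false
set_option linter.unusedVariables false
set_option linter.unusedSectionVars false

namespace Cfsg.Agent.Lib.LocalEven2.Tab

variable {A B X Y ι : Type*} [Group A] [Group B] [Monoid X] [Monoid Y]

/-- The pairs of elements compatible with the table. -/
theorem table_sub [Finite A] [Finite B] {n : ℕ} [NeZero n]
    (φ : A →* X) (ψ : B →* Y)
    (gA : ι → A) (gB : ι → B) (x : Fin n → X) (y : Fin n → Y) (r : Fin n → ι → Fin n)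
    (hx0 : x 0 = 1) (hy0 : y 0 = 1)
    (hxr : ∀ i s, x (r i s) = x i * φ (gA s)) (hyr : ∀ i s, y (r i s) = y i * ψ (gB s)) :
    ∀ p ∈ Subgroup.closure (Set.range fun s => ((gA s, gB s) : A × B)),
      ∃ i, φ p.1 = x i ∧ ψ p.2 = y i := by
  let S : Set (A × B) := {p | ∃ i, φ p.1 = x i ∧ ψ p.2 = y i}
  let T : Submonoid (A × B) :=
    { carrier := {p | ∀ q ∈ S, q * p ∈ S}
      one_mem' := by
        intro q hq
        simpa using hq
      mul_mem' := by
        intro a b ha hb q hq
        have := hb _ (ha q hq)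
        simpa [mul_assoc] using this }
  have hT : ∀ p ∈ Subgroup.closure (Set.range fun s => ((gA s, gB s) : A × B)), p ∈ T := by
    intro p hp
    induction hp using Subgroup.closure_induction with
    | mem p hp =>
      obtain ⟨s, rfl⟩ := hp
      rintro ⟨a, b⟩ ⟨i, hi, hj⟩
      refine ⟨r i s, ?_, ?_⟩
      · simp only [Prod.mk_mul_mk, map_mul] at *
        rw [hi, hxr]
      · simp only [Prod.mk_mul_mk, map_mul] at *
        rw [hj, hyr]
    | one => exact T.one_mem
    | mul a b _ _ ha hb => exact T.mul_mem ha hb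
    | inv a _ ha =>
      have h1 : a⁻¹ = a ^ (orderOf a - 1) := by
        have h2 : 0 < orderOf a := orderOf_pos a
        apply inv_eq_of_mul_eq_one_left
        rw [← pow_succ, Nat.sub_add_cancel h2, pow_orderOf_eq_one]
      rw [h1]
      exact T.pow_mem ha _
  intro p hp
  have h1 : (1 : A × B) ∈ S := ⟨0, by simp [hx0], by simp [hy0]⟩
  have h2 : 1 * p ∈ S := hT p hp 1 h1
  rw [one_mul] at h2
  exact h2

theorem table_iso [Finite A] [Finite B] {n : ℕ} [NeZero n]
    (φ : A →* X) (ψ : B →* Y) (hφ : Function.Injective φ) (hψ : Function.Injective ψ)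
    (gA : ι → A) (gB : ι → B) (x : Fin n → X) (y : Fin n → Y) (r : Fin n → ι → Fin n)
    (hx0 : x 0 = 1) (hy0 : y 0 = 1)
    (hxr : ∀ i s, x (r i s) = x i * φ (gA s)) (hyr : ∀ i s, y (r i s) = y i * ψ (gB s))
    (hxi : Function.Injective x) (hyi : Function.Injective y)
    (hreach : ∀ i : Fin n, i ≠ 0 → ∃ j, j < i ∧ ∃ s, r j s = i) :
    Nat.card (Subgroup.closure (Set.range gA)) = n ∧
      Nat.card (Subgroup.closure (Set.range gB)) = n ∧
      Nonempty (Subgroup.closure (Set.range gA) ≃* Subgroup.closure (Set.range gB)) := by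
  set D : Subgroup (A × B) := Subgroup.closure (Set.range fun s => ((gA s, gB s) : A × B)) with hD
  have hS := table_sub φ ψ gA gB x y r hx0 hy0 hxr hyr
  -- every row of the table is reached
  have hex : ∀ i : Fin n, ∃ p ∈ D, φ p.1 = x i ∧ ψ p.2 = y i := by
    intro i
    induction i using WellFoundedLT.induction with
    | ind i ih =>
      by_cases hi : i = 0
      · subst hi
        exact ⟨1, D.one_mem, by simp [hx0], by simp [hy0]⟩
      · obtain ⟨j, hj, s, rfl⟩ := hreach i hi
        obtain ⟨p, hp, h1, h2⟩ := ih j hj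
        refine ⟨p * (gA s, gB s), D.mul_mem hp (Subgroup.subset_closure ⟨s, rfl⟩), ?_, ?_⟩
        · simp only [Prod.fst_mul, map_mul]
          rw [h1, hxr]
        · simp only [Prod.snd_mul, map_mul]
          rw [h2, hyr]
  choose f hfD hf1 hf2 using hex
  -- cardinality of D
  have hcardD : Nat.card D = n := by
    let e : Fin n → D := fun i => ⟨f i, hfD i⟩
    have he : Function.Bijective e := by
      constructor
      · intro i j h
        have : f i = f j := congrArg Subtype.val h
        apply hxi
        rw [← hf1, ← hf1, this]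
      · rintro ⟨p, hp⟩
        obtain ⟨i, h1, h2⟩ := hS p hp
        refine ⟨i, Subtype.ext ?_⟩
        apply Prod.ext
        · apply hφ
          rw [hf1, h1]
        · apply hψ
          rw [hf2, h2]
    rw [← Nat.card_congr (Equiv.ofBijective e he)]
    simp
  have hmapA : D.map (MonoidHom.fst A B) = Subgroup.closure (Set.range gA) := by
    rw [hD, MonoidHom.map_closure]
    congr 1
    ext a
    simp
  have hmapB : D.map (MonoidHom.snd A B) = Subgroup.closure (Set.range gB) := by
    rw [hD, MonoidHom.map_closure]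
    congr 1
    ext a
    simp
  have hinjA : Function.Injective ((MonoidHom.fst A B).subgroupMap D) := by
    rintro ⟨p, hp⟩ ⟨q, hq⟩ h
    have h0 : p.1 = q.1 := congrArg Subtype.val h
    obtain ⟨i, h1, h2⟩ := hS p hp
    obtain ⟨j, h3, h4⟩ := hS q hq
    have hij : i = j := by
      apply hxi
      rw [← h1, ← h3, h0]
    subst hij
    apply Subtype.ext
    apply Prod.ext h0
    apply hψ
    rw [h2, h4]
  have hinjB : Function.Injective ((MonoidHom.snd A B).subgroupMap D) := by
    rintro ⟨p, hp⟩ ⟨q, hq⟩ h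
    have h0 : p.2 = q.2 := congrArg Subtype.val h
    obtain ⟨i, h1, h2⟩ := hS p hp
    obtain ⟨j, h3, h4⟩ := hS q hq
    have hij : i = j := by
      apply hyi
      rw [← h2, ← h4, h0]
    subst hij
    apply Subtype.ext
    apply Prod.ext _ h0
    apply hφ
    rw [h1, h3]
  let eA : D ≃* D.map (MonoidHom.fst A B) :=
    MulEquiv.ofBijective _ ⟨hinjA, MonoidHom.subgroupMap_surjective _ _⟩
  let eB : D ≃* D.map (MonoidHom.snd A B) :=
    MulEquiv.ofBijective _ ⟨hinjB, MonoidHom.subgroupMap_surjective _ _⟩
  let eA' : D ≃* Subgroup.closure (Set.range gA) := eA.trans (MulEquiv.subgroupCongr hmapA)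
  let eB' : D ≃* Subgroup.closure (Set.range gB) := eB.trans (MulEquiv.subgroupCongr hmapB)
  refine ⟨?_, ?_, ⟨eA'.symm.trans eB'⟩⟩
  · rw [← Nat.card_congr eA'.toEquiv, hcardD]
  · rw [← Nat.card_congr eB'.toEquiv, hcardD]

/-- A subgroup of the full order of a Sylow subgroup is isomorphic to every Sylow subgroup. -/
theorem sylow_equiv_of_card {G : Type*} [Group G] [Finite G] {p k m : ℕ} [Fact p.Prime]
    (hG : Nat.card G = p ^ k * m) (hm : ¬ p ∣ m) (K : Subgroup G) (hK : Nat.card K = p ^ k)
    (P : Sylow p G) : Nonempty (P ≃* K) := by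
  have h1 : IsPGroup p K := IsPGroup.of_card hK
  have h2 : ¬ p ∣ K.index := by
    intro h
    apply hm
    have h3 := K.card_mul_index
    rw [hK, hG] at h3
    have hp : 0 < p ^ k := pow_pos (Fact.out : p.Prime).pos _
    have : K.index = m := Nat.eq_of_mul_eq_mul_left hp h3
    rwa [this] at h
  have h3 : ((h1.toSylow h2 : Sylow p G) : Subgroup G) = K := IsPGroup.toSylow_coe h1 h2
  refine ⟨(P.equiv (h1.toSylow h2)).trans (MulEquiv.subgroupCongr h3)⟩

end Cfsg.Agent.Lib.LocalEven2.Tab
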