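import Cfsg.Agent.Lib.LocalEven2.T33d
import Cfsg.Agent.Lib.LocalEven2.Tab

/-! Normal forms in groups with the relations of `Rel`, and the resulting isomorphisms. -/

set_option autoImplicit false
set_option linter.unusedVariables false
set_option linter.unusedSectionVars false

namespace Cfsg.Agent.Lib.LocalEven2.T33

universe u

abbrev Mw := Fin 4 × Fin 4 × Fin 2 × Fin 2

def ua : Fin 2 → Fin 2 → Fin 4
  | 0, 0 => 1
  | 1, 0 => 3
  | 0, 1 => 3
  | 1, 1 => 1

def va : Fin 2 → Fin 2 → Fin 4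
  | 0, 0 => 0
  | 1, 0 => 0
  | 0, 1 => 2
  | 1, 1 => 2

def ub : Fin 2 → Fin 2 → Fin 4
  | 0, 0 => 0
  | 1, 0 => 2
  | 0, 1 => 0
  | 1, 1 => 2

def vb : Fin 2 → Fin 2 → Fin 4
  | 0, 0 => 1
  | 1, 0 => 3
  | 0, 1 => 3
  | 1, 1 => 1

/-- The right multiplication table. -/
def rt (p q p' q' : Fin 4) (m : Mw) (s : Fin 4) : Mw :=
  match s with
  | 0 => (m.1 + ua m.2.2.1 m.2.2.2, m.2.1 + va m.2.2.1 m.2.2.2, m.2.2.1, m.2.2.2)
  | 1 => (m.1 + ub m.2.2.1 m.2.2.2, m.2.1 + vb m.2.2.1 m.2.2.2, m.2.2.1, m.2.2.2)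
  | 2 => if m.2.2.1 = 0 then (m.1, m.2.1, 1, m.2.2.2) else (m.1 + p, m.2.1 + q, 0, m.2.2.2)
  | 3 => if m.2.2.2 = 0 then (m.1, m.2.1, m.2.2.1, 1) else (m.1 + p', m.2.1 + q', m.2.2.1, 0)

def enc (m : Mw) : Fin 64 :=
  ⟨m.1.val + 4 * m.2.1.val + 16 * m.2.2.1.val + 32 * m.2.2.2.val, by
    have h1 := m.1.isLt
    have h2 := m.2.1.isLt
    have h3 := m.2.2.1.isLt
    have h4 := m.2.2.2.isLt
    omega⟩

def dec (k : Fin 64) : Mw :=
  (⟨k.val % 4, by omega⟩, ⟨(k.val / 4) % 4, by omega⟩, ⟨(k.val / 16) % 2, by omega⟩, ⟨(k.val / 32) % 2, by omega⟩)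

theorem dec_enc : ∀ m : Mw, dec (enc m) = m := by decide +kernel

theorem enc_dec : ∀ k : Fin 64, enc (dec k) = k := by decide +kernel

theorem reachL : ∀ i : Fin 64, i ≠ 0 → ∃ j, j < i ∧ ∃ s : Fin 4, enc (rt 0 0 0 0 (dec j) s) = i := by decide +kernel

theorem reachU : ∀ i : Fin 64, i ≠ 0 → ∃ j, j < i ∧ ∃ s : Fin 4, enc (rt 0 2 2 2 (dec j) s) = i := by decide +kernel

section word

variable {X : Type*} [Group X] {a b x y : X}

/-- The `a`-`b` part. -/
def wP (a b : X) (i j : Fin 4) : X := a ^ i.val * b ^ j.val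

/-- The `x`-`y` part. -/
def wT (x y : X) (e f : Fin 2) : X := x ^ e.val * y ^ f.val

/-- The normal form. -/
def word (a b x y : X) (m : Mw) : X := wP a b m.1 m.2.1 * wT x y m.2.2.1 m.2.2.2

theorem pow_fin4 {c : X} (h : c ^ 4 = 1) (i u : Fin 4) : c ^ (i + u).val = c ^ i.val * c ^ u.val := by
  rw [← pow_add, Fin.val_add, ← pow_mod_orderOf]
  conv_rhs => rw [← pow_mod_orderOf]
  have hd : orderOf c ∣ 4 := orderOf_dvd_of_pow_eq_one h
  rw [Nat.mod_mod_of_dvd _ hd]

namespace Rel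

variable (R : Rel a b x y)
include R

theorem wP_mul (i j u v : Fin 4) : wP a b i j * wP a b u v = wP a b (i + u) (j + v) := by
  simp only [wP]
  rw [pow_fin4 R.a4, pow_fin4 R.b4]
  have hc : Commute (b ^ j.val) (a ^ u.val) := (Commute.pow_pow (show Commute a b from R.ab) u.val j.val).symm
  rw [mul_assoc, ← mul_assoc (b ^ j.val), hc.eq]
  group

theorem xa : x * a = a ^ 3 * x := by
  have h := R.axa
  have h4 := R.a4
  calc x * a = a⁻¹ * (a * x * a) * a⁻¹ * a := by group
    _ = a⁻¹ * x := by rw [h]; group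
    _ = a ^ 3 * x := by
      congr 1
      apply inv_eq_of_mul_eq_one_right
      rw [← h4]
      group

theorem yb : y * b = b ^ 3 * y := by
  have h := R.byb
  have h4 := R.b4
  calc y * b = b⁻¹ * (b * y * b) * b⁻¹ * b := by group
    _ = b⁻¹ * y := by rw [h]; group
    _ = b ^ 3 * y := by
      congr 1
      apply inv_eq_of_mul_eq_one_right
      rw [← h4]
      group

theorem xb : x * b = a ^ 2 * b ^ 3 * x := by
  have h := R.bxb
  have h4 := R.b4
  have e0 : b⁻¹ = b ^ 3 := by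
    apply inv_eq_of_mul_eq_one_right
    rw [← h4]
    group
  have hxaa : x * (a * a) = a * a * x := by
    have h5 := R.xa
    have h6 : a ^ 3 * a ^ 3 = a * a := by
      have : a ^ 3 * a ^ 3 = a ^ 4 * (a * a) := by group
      rw [this, R.a4, one_mul]
    calc x * (a * a) = (x * a) * a := by group
      _ = (a ^ 3 * x) * a := by rw [h5]
      _ = a ^ 3 * (x * a) := by group
      _ = a ^ 3 * (a ^ 3 * x) := by rw [h5]
      _ = (a ^ 3 * a ^ 3) * x := by group
      _ = a * a * x := by rw [h6]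
  have hc : Commute (a ^ 2) (b ^ 3) := Commute.pow_pow (show Commute a b from R.ab) 2 3
  calc x * b = b⁻¹ * (b * x * b) := by group
    _ = b⁻¹ * (x * (a * a)) := by rw [h]
    _ = b⁻¹ * (a * a * x) := by rw [hxaa]
    _ = b ^ 3 * a ^ 2 * x := by rw [e0, pow_two a]; group
    _ = a ^ 2 * b ^ 3 * x := by rw [hc.eq]

theorem ya : y * a = a ^ 3 * b ^ 2 * y := by
  have h := R.aya
  have h4 := R.a4
  have e0 : a⁻¹ = a ^ 3 := by
    apply inv_eq_of_mul_eq_one_right
    rw [← h4]
    group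
  have hybb : y * (b * b) = b * b * y := by
    have h5 := R.yb
    have h6 : b ^ 3 * b ^ 3 = b * b := by
      have : b ^ 3 * b ^ 3 = b ^ 4 * (b * b) := by group
      rw [this, R.b4, one_mul]
    calc y * (b * b) = (y * b) * b := by group
      _ = (b ^ 3 * y) * b := by rw [h5]
      _ = b ^ 3 * (y * b) := by group
      _ = b ^ 3 * (b ^ 3 * y) := by rw [h5]
      _ = (b ^ 3 * b ^ 3) * y := by group
      _ = b * b * y := by rw [h6]
  calc y * a = a⁻¹ * (a * y * a) := by group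
    _ = a⁻¹ * (y * (b * b)) := by rw [h]
    _ = a⁻¹ * (b * b * y) := by rw [hybb]
    _ = a ^ 3 * b ^ 2 * y := by rw [e0, pow_two b]; group

theorem x_a3 : x * a ^ 3 = a * x := by
  have h := R.axa
  have h4 := R.a4
  have e0 : a⁻¹ = a ^ 3 := by
    apply inv_eq_of_mul_eq_one_right
    rw [← h4]
    group
  rw [← e0]
  calc x * a⁻¹ = (a * x * a) * a⁻¹ := by rw [h]
    _ = a * x := by group

theorem x_b2 : x * b ^ 2 = b ^ 2 * x := by
  have h5 := R.xb
  have hc : Commute (a ^ 2) (b ^ 3) := Commute.pow_pow (show Commute a b from R.ab) 2 3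
  have h4 : a ^ 2 * a ^ 2 = 1 := by
    rw [← pow_add]
    exact R.a4
  have h6 : b ^ 3 * b ^ 3 = b ^ 2 := by
    have : b ^ 3 * b ^ 3 = b ^ 4 * b ^ 2 := by group
    rw [this, R.b4, one_mul]
  calc x * b ^ 2 = (x * b) * b := by rw [pow_two]; group
    _ = (a ^ 2 * b ^ 3 * x) * b := by rw [h5]
    _ = a ^ 2 * b ^ 3 * (x * b) := by group
    _ = a ^ 2 * b ^ 3 * (a ^ 2 * b ^ 3 * x) := by rw [h5]
    _ = a ^ 2 * (b ^ 3 * a ^ 2) * b ^ 3 * x := by group
    _ = a ^ 2 * (a ^ 2 * b ^ 3) * b ^ 3 * x := by rw [hc.eq]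
    _ = (a ^ 2 * a ^ 2) * (b ^ 3 * b ^ 3) * x := by group
    _ = b ^ 2 * x := by rw [h4, h6, one_mul]

theorem t_a (e f : Fin 2) : wT x y e f * a = wP a b (ua e f) (va e f) * wT x y e f := by
  fin_cases e <;> fin_cases f
  · simp [wT, wP, ua, va]
  · simpa [wT, wP, ua, va] using R.ya
  · simpa [wT, wP, ua, va] using R.xa
  · simp only [wT, wP, ua, va]
    show x ^ 1 * y ^ 1 * a = a ^ 1 * b ^ 2 * (x ^ 1 * y ^ 1)
    simp only [pow_one]
    calc x * y * a = x * (y * a) := by group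
      _ = x * (a ^ 3 * b ^ 2 * y) := by rw [R.ya]
      _ = (x * a ^ 3) * b ^ 2 * y := by group
      _ = (a * x) * b ^ 2 * y := by rw [R.x_a3]
      _ = a * (x * b ^ 2) * y := by group
      _ = a * (b ^ 2 * x) * y := by rw [R.x_b2]
      _ = a * b ^ 2 * (x * y) := by group

theorem t_b (e f : Fin 2) : wT x y e f * b = wP a b (ub e f) (vb e f) * wT x y e f := by
  fin_cases e <;> fin_cases f
  · simp [wT, wP, ub, vb]
  · simpa [wT, wP, ub, vb] using R.yb
  · simpa [wT, wP, ub, vb] using R.xb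
  · simp only [wT, wP, ub, vb]
    show x ^ 1 * y ^ 1 * b = a ^ 2 * b ^ 1 * (x ^ 1 * y ^ 1)
    simp only [pow_one]
    have h6 : b ^ 3 * b ^ 2 = b := by
      have : b ^ 3 * b ^ 2 = b ^ 4 * b := by group
      rw [this, R.b4, one_mul]
    calc x * y * b = x * (y * b) := by group
      _ = x * (b ^ 3 * y) := by rw [R.yb]
      _ = (x * b) * b ^ 2 * y := by group
      _ = (a ^ 2 * b ^ 3 * x) * b ^ 2 * y := by rw [R.xb]
      _ = a ^ 2 * b ^ 3 * (x * b ^ 2) * y := by group
      _ = a ^ 2 * b ^ 3 * (b ^ 2 * x) * y := by rw [R.x_b2]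
      _ = a ^ 2 * (b ^ 3 * b ^ 2) * (x * y) := by group
      _ = a ^ 2 * b * (x * y) := by rw [h6]

theorem word_rt {p q p' q' : Fin 4} (hxx : x * x = wP a b p q) (hyy : y * y = wP a b p' q') (m : Mw) (s : Fin 4) :
    word a b x y (rt p q p' q' m s) = word a b x y m * ![a, b, x, y] s := by
  obtain ⟨i, j, e, f⟩ := m
  fin_cases s
  · show wP a b (i + ua e f) (j + va e f) * wT x y e f = wP a b i j * wT x y e f * a
    rw [mul_assoc, R.t_a, ← mul_assoc, R.wP_mul]
  · show wP a b (i + ub e f) (j + vb e f) * wT x y e f = wP a b i j * wT x y e f * b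
    rw [mul_assoc, R.t_b, ← mul_assoc, R.wP_mul]
  · show word a b x y (if e = 0 then (i, j, 1, f) else (i + p, j + q, 0, f)) = wP a b i j * wT x y e f * x
    have hyx : y ^ f.val * x = x * y ^ f.val := ((Commute.pow_left (show Commute y x from R.xy.symm) f.val)).eq
    fin_cases e
    · simp only [word, Fin.zero_eta, if_true]
      show wP a b i j * wT x y 1 f = wP a b i j * wT x y 0 f * x
      simp only [wT, mul_assoc]
      congr 1
      simp only [Fin.val_zero, Fin.val_one, pow_zero, pow_one, one_mul]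
      exact hyx.symm
    · show word a b x y (i + p, j + q, 0, f) = wP a b i j * wT x y 1 f * x
      simp only [word]
      rw [← R.wP_mul, mul_assoc (wP a b i j), ← hxx]
      simp only [wT, mul_assoc]
      congr 1
      simp only [Fin.val_zero, Fin.val_one, pow_zero, pow_one, one_mul]
      rw [hyx]
  · show word a b x y (if f = 0 then (i, j, e, 1) else (i + p', j + q', e, 0)) = wP a b i j * wT x y e f * y
    have hxy : x ^ e.val * (y * y) = (y * y) * x ^ e.val := by
      have h1 : Commute x (y * y) := (show Commute x y from R.xy).mul_right (show Commute x y from R.xy)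
      exact (h1.pow_left e.val).eq
    fin_cases f
    · simp only [word, Fin.zero_eta, if_true]
      show wP a b i j * wT x y e 1 = wP a b i j * wT x y e 0 * y
      simp [wT, mul_assoc]
    · show word a b x y (i + p', j + q', e, 0) = wP a b i j * wT x y e 1 * y
      simp only [word]
      rw [← R.wP_mul, mul_assoc (wP a b i j), ← hyy]
      simp only [wT, mul_assoc]
      congr 1
      simp only [Fin.val_zero, Fin.val_one, pow_zero, pow_one, mul_one]
      rw [← mul_assoc]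
      exact hxy.symm

omit R in
theorem even_lem {A C : X} (hA : A * A = 1) (hC : C * C = 1) (hA1 : A ≠ 1) (hC1 : C ≠ 1) (hAC : A ≠ C) (u v : ℕ)
    (h : A ^ u * C ^ v = 1) : u % 2 = 0 ∧ v % 2 = 0 := by
  have hA2 : A ^ 2 = 1 := by rw [pow_two, hA]
  have hC2 : C ^ 2 = 1 := by rw [pow_two, hC]
  rw [pow_eq_pow_mod u hA2, pow_eq_pow_mod v hC2] at h
  have hu : u % 2 = 0 ∨ u % 2 = 1 := by omega
  have hv : v % 2 = 0 ∨ v % 2 = 1 := by omega
  rcases hu with hu | hu <;> rcases hv with hv | hv <;> rw [hu, hv] at h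
  · exact ⟨hu, hv⟩
  · exact absurd (by simpa using h) hC1
  · exact absurd (by simpa using h) hA1
  · exfalso
    apply hAC
    have h1 : A * C = 1 := by simpa using h
    have h2 : A = C⁻¹ := eq_inv_of_mul_eq_one_left h1
    rw [h2]
    exact inv_eq_of_mul_eq_one_left hC

theorem wP_one {i j : Fin 4} (h : wP a b i j = 1) : i = 0 ∧ j = 0 := by
  simp only [wP] at h
  have hc : Commute a b := R.ab
  have hAA : a * a * (a * a) = 1 := by
    rw [← R.a4]
    simp only [pow_succ, pow_zero, one_mul, mul_assoc]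
  have hBB : b * b * (b * b) = 1 := by
    rw [← R.b4]
    simp only [pow_succ, pow_zero, one_mul, mul_assoc]
  have h2 : (a * a) ^ i.val * (b * b) ^ j.val = 1 := by
    have e : (a ^ i.val * b ^ j.val) ^ 2 = (a * a) ^ i.val * (b * b) ^ j.val := by
      rw [(Commute.pow_pow hc i.val j.val).mul_pow, ← pow_mul, ← pow_mul, mul_comm, mul_comm j.val, pow_mul, pow_mul b, pow_two, pow_two]
    rw [← e, h, one_pow]
  obtain ⟨h3, h4⟩ := even_lem hAA hBB R.a2 R.b2 R.a2b2 _ _ h2
  have hi : i.val = 2 * (i.val / 2) := by omega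
  have hj : j.val = 2 * (j.val / 2) := by omega
  have h5 : (a * a) ^ (i.val / 2) * (b * b) ^ (j.val / 2) = 1 := by
    rw [hi, hj, pow_mul, pow_mul, pow_two, pow_two] at h
    simpa using h
  obtain ⟨h6, h7⟩ := even_lem hAA hBB R.a2 R.b2 R.a2b2 _ _ h5
  constructor
  · apply Fin.ext
    have := i.isLt
    show i.val = 0
    omega
  · apply Fin.ext
    have := j.isLt
    show j.val = 0
    omega

theorem wP_inj {i j i' j' : Fin 4} (h : wP a b i j = wP a b i' j') : i = i' ∧ j = j' := by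
  have h1 : wP a b (i - i') (j - j') = 1 := by
    have h2 := R.wP_mul (i - i') (j - j') i' j'
    rw [sub_add_cancel, sub_add_cancel, h] at h2
    exact mul_eq_right.mp h2
  obtain ⟨h3, h4⟩ := R.wP_one h1
  exact ⟨sub_eq_zero.mp h3, sub_eq_zero.mp h4⟩

theorem wT_mem {K : Subgroup X} (hxK : x ∉ K) (hyK : y ∉ K) (hxyK : x * y ∉ K) (hxx : x * x ∈ K) (hyy : y * y ∈ K)
    {e f e' f' : Fin 2} (h : wT x y e f * (wT x y e' f')⁻¹ ∈ K) : e = e' ∧ f = f' := by
  have hxy := R.xy
  have k1 : x⁻¹ ∉ K := fun h => hxK (by simpa using K.inv_mem h)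
  have k2 : y⁻¹ ∉ K := fun h => hyK (by simpa using K.inv_mem h)
  have k3 : (x * y)⁻¹ ∉ K := fun h => hxyK (by simpa using K.inv_mem h)
  have hyx : y * x = x * y := hxy.symm
  fin_cases e <;> fin_cases f <;> fin_cases e' <;> fin_cases f'
  · exact ⟨rfl, rfl⟩
  · exact (k2 (by simpa [wT] using h)).elim
  · exact (k1 (by simpa [wT] using h)).elim
  · exact (k3 (by simpa [wT] using h)).elim
  · exact (hyK (by simpa [wT] using h)).elim
  · exact ⟨rfl, rfl⟩
  · have h' : y * x⁻¹ ∈ K := by simpa [wT] using h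
    apply False.elim
    apply hxyK
    rw [← hyx]
    have : y * x = (y * x⁻¹) * (x * x) := by group
    rw [this]
    exact K.mul_mem h' hxx
  · have h' : y * (x * y)⁻¹ ∈ K := by simpa [wT] using h
    apply False.elim
    apply k1
    have : x⁻¹ = y * (x * y)⁻¹ := by group
    rw [this]
    exact h'
  · exact (hxK (by simpa [wT] using h)).elim
  · have h' : x * y⁻¹ ∈ K := by simpa [wT] using h
    apply False.elim
    apply hxyK
    have : x * y = (x * y⁻¹) * (y * y) := by group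
    rw [this]
    exact K.mul_mem h' hyy
  · exact ⟨rfl, rfl⟩
  · have h' : x * (x * y)⁻¹ ∈ K := by simpa [wT] using h
    apply False.elim
    apply k2
    have : y⁻¹ = x * (y * x)⁻¹ := by group
    rw [this, hyx]
    exact h'
  · exact (hxyK (by simpa [wT] using h)).elim
  · have h' : x * y * y⁻¹ ∈ K := by
      have h3 : wT x y 1 1 * (wT x y 0 1)⁻¹ ∈ K := h
      simpa [wT] using h3
    apply False.elim
    apply hxK
    simpa using h'
  · have h' : x * y * x⁻¹ ∈ K := by
      have h3 : wT x y 1 1 * (wT x y 1 0)⁻¹ ∈ K := h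
      simpa [wT] using h3
    apply False.elim
    apply hyK
    have : y = x * y * x⁻¹ := by
      rw [hxy]
      group
    rw [this]
    exact h'
  · exact ⟨rfl, rfl⟩

theorem word_inj {K : Subgroup X} (haK : a ∈ K) (hbK : b ∈ K) (hxK : x ∉ K) (hyK : y ∉ K) (hxyK : x * y ∉ K)
    (hxx : x * x ∈ K) (hyy : y * y ∈ K) : Function.Injective (word a b x y) := by
  rintro ⟨i, j, e, f⟩ ⟨i', j', e', f'⟩ h
  simp only [word] at h
  have hP : ∀ u v, wP a b u v ∈ K := fun u v => K.mul_mem (K.pow_mem haK _) (K.pow_mem hbK _)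
  have h1 : wT x y e f * (wT x y e' f')⁻¹ ∈ K := by
    have : wT x y e f * (wT x y e' f')⁻¹ = (wP a b i j)⁻¹ * wP a b i' j' := by
      rw [eq_inv_mul_iff_mul_eq, ← mul_assoc, h]
      group
    rw [this]
    exact K.mul_mem (K.inv_mem (hP _ _)) (hP _ _)
  obtain ⟨rfl, rfl⟩ := R.wT_mem hxK hyK hxyK hxx hyy h1
  obtain ⟨rfl, rfl⟩ := R.wP_inj (mul_right_cancel h)
  rfl

end Rel

end word

theorem range_four {Z : Type*} (c d e f : Z) : Set.range ![c, d, e, f] = {c, d, e, f} := by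
  ext w
  constructor
  · rintro ⟨s, rfl⟩
    fin_cases s <;> simp
  · rintro (rfl | rfl | rfl | rfl)
    · exact ⟨0, rfl⟩
    · exact ⟨1, rfl⟩
    · exact ⟨2, rfl⟩
    · exact ⟨3, rfl⟩

/-- The isomorphism from the relations. -/
theorem iso_of_rel {X Y : Type*} [Group X] [Group Y] [Finite X] [Finite Y] {a b x y : X} {a' b' x' y' : Y}
    (R : Rel a b x y) (R' : Rel a' b' x' y') {p q p' q' : Fin 4}
    (hxx : x * x = wP a b p q) (hyy : y * y = wP a b p' q') (hxx' : x' * x' = wP a' b' p q) (hyy' : y' * y' = wP a' b' p' q')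
    (hreach : ∀ i : Fin 64, i ≠ 0 → ∃ j, j < i ∧ ∃ s : Fin 4, enc (rt p q p' q' (dec j) s) = i)
    {K : Subgroup X} (haK : a ∈ K) (hbK : b ∈ K) (hxK : x ∉ K) (hyK : y ∉ K) (hxyK : x * y ∉ K)
    (hxxK : x * x ∈ K) (hyyK : y * y ∈ K)
    {K' : Subgroup Y} (haK' : a' ∈ K') (hbK' : b' ∈ K') (hxK' : x' ∉ K') (hyK' : y' ∉ K') (hxyK' : x' * y' ∉ K')
    (hxxK' : x' * x' ∈ K') (hyyK' : y' * y' ∈ K') :
    Nat.card (Subgroup.closure ({a, b, x, y} : Set X)) = 64 ∧ Nat.card (Subgroup.closure ({a', b', x', y'} : Set Y)) = 64 ∧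
      Nonempty (Subgroup.closure ({a, b, x, y} : Set X) ≃* Subgroup.closure ({a', b', x', y'} : Set Y)) := by
  have hdi : Function.Injective dec := by
    intro i j h
    rw [← enc_dec i, ← enc_dec j, h]
  have := Cfsg.Agent.Lib.LocalEven2.Tab.table_iso (MonoidHom.id X) (MonoidHom.id Y) Function.injective_id Function.injective_id
    ![a, b, x, y] ![a', b', x', y'] (fun i => word a b x y (dec i)) (fun i => word a' b' x' y' (dec i))
    (fun i s => enc (rt p q p' q' (dec i) s))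
    (by simp [word, wP, wT, dec])
    (by simp [word, wP, wT, dec])
    (by
      intro i s
      simp only [dec_enc, MonoidHom.id_apply]
      exact R.word_rt hxx hyy _ _)
    (by
      intro i s
      simp only [dec_enc, MonoidHom.id_apply]
      exact R'.word_rt hxx' hyy' _ _)
    ((R.word_inj haK hbK hxK hyK hxyK hxxK hyyK).comp hdi)
    ((R'.word_inj haK' hbK' hxK' hyK' hxyK' hxxK' hyyK').comp hdi)
    hreach
  rwa [range_four, range_four] at this



end Cfsg.Agent.Lib.LocalEven2.T33
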