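import Cfsg.Agent.Lib.LocalEven2.T33e
import Cfsg.Agent.Lib.ToddCox.F4
import Cfsg.Agent.Lib.Classical.Card2
import Mathlib.LinearAlgebra.Matrix.ProjectiveSpecialLinearGroup

/-! The model for `L₃(4)`. -/

set_option autoImplicit false
set_option linter.unusedVariables false
set_option linter.unusedSectionVars false

namespace Cfsg.Agent.Lib.LocalEven2.T33

open Matrix Cfsg.Agent.Lib.ToddCox

/-- The Heisenberg group over `F₄`. -/
@[ext] structure Hs where
  a : F4
  b : F4
  c : F4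
  deriving DecidableEq

namespace Hs

instance : Mul Hs := ⟨fun u v => ⟨u.a + v.a, u.b + v.b, u.c + v.c + u.a * v.b⟩⟩
instance : One Hs := ⟨⟨0, 0, 0⟩⟩
instance : Inv Hs := ⟨fun u => ⟨-u.a, -u.b, -u.c + u.a * u.b⟩⟩

@[simp] theorem mul_a (u v : Hs) : (u * v).a = u.a + v.a := rfl
@[simp] theorem mul_b (u v : Hs) : (u * v).b = u.b + v.b := rfl
@[simp] theorem mul_c (u v : Hs) : (u * v).c = u.c + v.c + u.a * v.b := rfl
@[simp] theorem one_a : (1 : Hs).a = 0 := rfl
@[simp] theorem one_b : (1 : Hs).b = 0 := rfl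
@[simp] theorem one_c : (1 : Hs).c = 0 := rfl
@[simp] theorem inv_a (u : Hs) : (u⁻¹).a = -u.a := rfl
@[simp] theorem inv_b (u : Hs) : (u⁻¹).b = -u.b := rfl
@[simp] theorem inv_c (u : Hs) : (u⁻¹).c = -u.c + u.a * u.b := rfl

instance : Group Hs := Group.ofLeftAxioms
  (by
    intro u v w
    ext <;> simp <;> ring)
  (by
    intro u
    ext <;> simp)
  (by
    intro u
    ext <;> simp)

instance : Finite Hs := Finite.of_injective (fun u : Hs => (u.a, u.b, u.c)) (by
  intro u v h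
  simp only [Prod.mk.injEq] at h
  exact Hs.ext h.1 h.2.1 h.2.2)

/-- The matrix. -/
def mat (u : Hs) : Matrix (Fin 3) (Fin 3) F4 := !![1, u.a, u.c; 0, 1, u.b; 0, 0, 1]

theorem mat_mul (u v : Hs) : mat (u * v) = mat u * mat v := by
  ext i j
  fin_cases i <;> fin_cases j <;> simp [mat, Matrix.mul_apply, Fin.sum_univ_three] <;> ring

theorem mat_det (u : Hs) : (mat u).det = 1 := by
  rw [Matrix.det_fin_three]
  simp [mat]

/-- The homomorphism to `SL₃(4)`. -/
def toSL : Hs →* Matrix.SpecialLinearGroup (Fin 3) F4 where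
  toFun u := ⟨mat u, mat_det u⟩
  map_one' := by
    apply Subtype.ext
    show mat 1 = 1
    ext i j
    fin_cases i <;> fin_cases j <;> simp [mat]
  map_mul' u v := Subtype.ext (mat_mul u v)

/-- The homomorphism to `PSL₃(4)`. -/
def toPSL : Hs →* Matrix.ProjectiveSpecialLinearGroup (Fin 3) F4 :=
  (QuotientGroup.mk' _).comp toSL

theorem toPSL_inj : Function.Injective toPSL := by
  rw [injective_iff_map_eq_one]
  intro u hu
  have h1 : toSL u ∈ Subgroup.center (Matrix.SpecialLinearGroup (Fin 3) F4) := (QuotientGroup.eq_one_iff _).mp hu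
  rw [Matrix.SpecialLinearGroup.mem_center_iff] at h1
  obtain ⟨c, -, hc⟩ := h1
  have h01 := congrFun (congrFun hc 0) 1
  have h12 := congrFun (congrFun hc 1) 2
  have h02 := congrFun (congrFun hc 0) 2
  have e : ∀ i j, (toSL u).1 i j = mat u i j := fun _ _ => rfl
  simp [mat, toSL, scalar_apply] at h01 h12 h02
  have h3 : ((toSL u) : Matrix (Fin 3) (Fin 3) F4) = mat u := rfl
  rw [h3] at hc
  have h01' := congrFun (congrFun hc 0) 1
  have h12' := congrFun (congrFun hc 1) 2
  have h02' := congrFun (congrFun hc 0) 2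
  simp [mat, scalar_apply] at h01' h12' h02'
  exact Hs.ext h01'.symm h12'.symm h02'.symm

def a₀ : Hs := ⟨1, 1, 0⟩
def b₀ : Hs := ⟨F4.w, F4.w, 0⟩
def x₀ : Hs := ⟨1, 0, 0⟩
def y₀ : Hs := ⟨F4.w, 0, 0⟩

theorem rel₀ : Rel a₀ b₀ x₀ y₀ := by
  refine ⟨?_, ?_, ?_, ?_, ?_, ?_, ?_, ?_, ?_, ?_, ?_⟩ <;> decide +kernel

/-- The subgroup with equal first coordinates. -/
def K₀ : Subgroup Hs where
  carrier := {u | u.a = u.b}
  mul_mem' := by
    intro u v hu hv
    simp only [Set.mem_setOf_eq] at *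
    simp [hu, hv]
  one_mem' := rfl
  inv_mem' := by
    intro u hu
    simp only [Set.mem_setOf_eq] at *
    simp [hu]

theorem card_psl : Nat.card (Matrix.ProjectiveSpecialLinearGroup (Fin 3) F4) = 2 ^ 6 * 315 := by
  have h1 := Cfsg.Agent.Lib.Classical.card_GL_eq_gcd_mul_card_PSL (F := F4) 3 (by norm_num)
  have h3 : Nat.card F4 = 4 := by rw [Nat.card_eq_fintype_card]; rfl
  have hF : Fintype.card F4 = 4 := rfl
  rw [Matrix.card_GL_field, hF, h3, Fin.prod_univ_three] at h1
  norm_num at h1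
  rw [Nat.card_eq_fintype_card]
  omega

end Hs

end Cfsg.Agent.Lib.LocalEven2.T33
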