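import Cfsg.Agent.Lib.LocalEven2.T33f
import Cfsg.Agent.Lib.TwoFusion.U34Sylow

/-! The model for `U₃(4)` and the abstract theorem. -/

set_option autoImplicit false
set_option linter.unusedVariables false
set_option linter.unusedSectionVars false

namespace Cfsg.Agent.Lib.LocalEven2.T33

open Cfsg.Agent.Lib.TwoFusion

universe u

section ufield

variable {F : Type*} [Field F] [Fintype F]

theorem exists_omega_xi (hF : Fintype.card F = 16) :
    ∃ ω ξ : F, ω ^ 2 + ω + 1 = 0 ∧ ξ ^ 4 + ξ = 1 ∧ ξ ^ 5 = ω ^ 2 := by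
  classical
  have h2 := char2_of_card16 hF
  obtain ⟨hc4, htr⟩ := card_fix4 (F := F) hF
  -- a primitive cube root of unity
  obtain ⟨ω, hω4, hω0, hω1⟩ : ∃ ω : F, ω ^ 4 = ω ∧ ω ≠ 0 ∧ ω ≠ 1 := by
    by_contra hcon
    push Not at hcon
    have hsub : Finset.univ.filter (fun x : F => x ^ 4 = x) ⊆ {0, 1} := by
      intro x hx
      have hx' : x ^ 4 = x := (Finset.mem_filter.mp hx).2
      by_cases h0 : x = 0
      · simp [h0]
      · have := hcon x hx' h0
        simp [this]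
    have := Finset.card_le_card hsub
    rw [hc4] at this
    have h3 : ({0, 1} : Finset F).card ≤ 2 := Finset.card_le_two
    omega
  have hω : ω ^ 2 + ω + 1 = 0 := by
    have h3 : ω * ((ω - 1) * (ω ^ 2 + ω + 1)) = 0 := by linear_combination hω4
    rcases mul_eq_zero.mp h3 with h | h
    · exact absurd h hω0
    · rcases mul_eq_zero.mp h with h | h
      · exact absurd (sub_eq_zero.mp h) hω1
      · exact h
  obtain ⟨c, hc⟩ := htr 1 (one_pow 4)
  have hc4' : c ^ 4 = c + 1 := by linear_combination hc - c * h2 - h2 * 0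
  have hc5 : c ^ 5 = c ^ 2 + c := by
    have : c ^ 5 = c * c ^ 4 := by ring
    rw [this, hc4']
    ring
  have hδ : (c ^ 5 - ω) * (c ^ 5 - ω ^ 2) = 0 := by
    rw [hc5]
    have e1 : (c ^ 2 + c) ^ 2 + (c ^ 2 + c) + 1 = 0 := by
      have e2 : (c ^ 2 + c) ^ 2 = c ^ 4 + c ^ 2 + 2 * c ^ 3 := by ring
      rw [e2, hc4']
      linear_combination (c ^ 3 + c ^ 2 + c + 1) * h2
    have e3 : ω ^ 3 = 1 := by linear_combination (ω - 1) * hω
    linear_combination e1 - (c ^ 2 + c) * hω + e3 - (c ^ 2 + c + 1) * 0 + 0 * h2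
  rcases mul_eq_zero.mp hδ with h | h
  · -- the norm of `c` is `ω`: shift by `ω`
    refine ⟨ω, c + ω, hω, ?_, ?_⟩
    · rw [frob4 h2, hc4', hω4]
      linear_combination (c + ω) * h2
    · have e : (c + ω) ^ 5 = (c + ω) * (c + ω) ^ 4 := by ring
      rw [e, frob4 h2, hc4', hω4]
      have hc5' : c ^ 2 + c = ω := by
        rw [← hc5]
        exact sub_eq_zero.mp h
      linear_combination hc5' + (c * ω + ω) * h2
  · exact ⟨ω, c, hω, by linear_combination hc, sub_eq_zero.mp h⟩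

/-- Elements with the relations. -/
theorem u_elements (hF : Fintype.card F = 16) {X : Type*} [Group X] [Finite X] {aa cc : X → F}
    (h : U34Coords F X aa cc) :
    ∃ a b x y : X, Rel a b x y ∧ x * x = b * b ∧ y * y = a * a * (b * b) ∧
      ∃ K : Subgroup X, a ∈ K ∧ b ∈ K ∧ x ∉ K ∧ y ∉ K ∧ x * y ∉ K ∧ x * x ∈ K ∧ y * y ∈ K := by
  classical
  have h2 := char2_of_card16 hF
  obtain ⟨hc4, htr⟩ := card_fix4 (F := F) hF
  obtain ⟨ω, ξ, hω, hξ, hξ5⟩ := exists_omega_xi hF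
  have hω3 : ω ^ 3 = 1 := by linear_combination (ω - 1) * hω
  have hω4 : ω ^ 4 = ω := by linear_combination ω * hω3
  have hω5 : ω ^ 5 = ω ^ 2 := by linear_combination ω ^ 2 * hω3
  have hsol : ∀ α : F, ∃ γ : F, γ + γ ^ 4 = α ^ 5 := by
    intro α
    apply htr
    rw [← pow_mul]
    have : α ^ (5 * 4) = α ^ 16 * α ^ 4 := by ring
    rw [this, pow16 hF]
    ring
  obtain ⟨g1, hg1⟩ := hsol 1
  obtain ⟨g2, hg2⟩ := hsol ω
  obtain ⟨g3, hg3⟩ := hsol ξ
  obtain ⟨g4, hg4⟩ := hsol (ω * ξ)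
  obtain ⟨a, ha1, ha2⟩ := h.ex 1 g1 hg1
  obtain ⟨b, hb1, hb2⟩ := h.ex ω g2 hg2
  obtain ⟨x, hx1, hx2⟩ := h.ex ξ g3 hg3
  obtain ⟨y, hy1, hy2⟩ := h.ex (ω * ξ) g4 hg4
  have hsqa : ∀ u, aa (u * u) = 0 := by
    intro u
    rw [h.aa_mul]
    linear_combination (aa u) * h2
  have hsqc : ∀ u, cc (u * u) = aa u ^ 5 := by
    intro u
    rw [h.cc_mul]
    linear_combination (cc u) * h2
  have hM := h.model hF
  have h10 : (1 : F) ≠ 0 := one_ne_zero
  have hω0 : ω ≠ 0 := by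
    intro h0
    rw [h0] at hω
    apply h10
    linear_combination hω
  refine ⟨a, b, x, y, ⟨hM.four a, hM.four b, ?_, ?_, ?_, ?_, ?_, ?_, ?_, ?_, ?_⟩, ?_, ?_, ?_⟩
  · -- a * b = b * a
    apply h.ext
    · rw [h.aa_mul, h.aa_mul, add_comm]
    · rw [h.cc_mul, h.cc_mul, ha1, ha2, hb1, hb2]
      linear_combination hω4
  · -- a x a = x
    apply h.ext
    · rw [h.aa_mul, h.aa_mul, ha1, hx1]
      linear_combination h2
    · rw [h.cc_mul, h.cc_mul, h.aa_mul, ha1, ha2, hx1, hx2]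
      linear_combination (g1 + 1) * h2 + hξ
  · -- b x b = x a a
    apply h.ext
    · rw [h.aa_mul, h.aa_mul, h.aa_mul, hsqa, hb1, hx1]
      linear_combination ω * h2
    · rw [h.cc_mul, h.cc_mul, h.cc_mul, h.aa_mul, hsqc, hsqa, ha1, hb1, hb2, hx1, hx2]
      linear_combination (ω + ξ) * hω4 + ω * hξ + hω + (g2 - 1) * h2
  · -- a y a = y b b
    apply h.ext
    · rw [h.aa_mul, h.aa_mul, h.aa_mul, hsqa, ha1, hy1]
      linear_combination h2
    · rw [h.cc_mul, h.cc_mul, h.cc_mul, h.aa_mul, hsqc, hsqa, ha1, ha2, hb1, hy1, hy2]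
      linear_combination ξ ^ 4 * hω4 + ω * hξ - hω5 + hω + (g1 - ω ^ 2) * h2
  · -- b y b = y
    apply h.ext
    · rw [h.aa_mul, h.aa_mul, hb1, hy1]
      linear_combination ω * h2
    · rw [h.cc_mul, h.cc_mul, h.aa_mul, hb1, hb2, hy1, hy2]
      linear_combination (ω ^ 5 * hξ + (g2 + ω ^ 5) * h2)
  · -- x y = y x
    apply h.ext
    · rw [h.aa_mul, h.aa_mul, add_comm]
    · rw [h.cc_mul, h.cc_mul, hx1, hx2, hy1, hy2]
      linear_combination ξ ^ 5 * hω4
  · -- a a ≠ 1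
    intro h0
    have := hsqc a
    rw [h0, h.cc_one, ha1] at this
    apply h10
    linear_combination -this
  · -- b b ≠ 1
    intro h0
    have := hsqc b
    rw [h0, h.cc_one, hb1] at this
    exact hω0 (pow_eq_zero_iff (by norm_num) |>.mp this.symm)
  · -- a a ≠ b b
    intro h0
    have h3 := hsqc a
    have h4 := hsqc b
    rw [h0, h4, ha1, hb1] at h3
    apply h10
    have h5 : ω = 0 := by
      linear_combination hω - h3 + hω5 - (ω ^ 2 * 0) - h2
    exact absurd h5 hω0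
  · -- x x = b b
    apply h.ext
    · rw [hsqa, hsqa]
    · rw [hsqc, hsqc, hx1, hb1]
      linear_combination hξ5 - hω5
  · -- y y = a a b b
    apply h.ext
    · rw [hsqa, h.aa_mul, hsqa, hsqa]
      ring
    · rw [hsqc, h.cc_mul, hsqc, hsqc, hsqa, ha1, hb1, hy1]
      linear_combination ω ^ 5 * hξ5 + (ω ^ 5 - ω ^ 4 - ω ^ 3 + 2 * ω ^ 2 - ω - 1) * hω + ω * h2
  · -- the subgroup
    have f4 := frob4 h2
    let K : Subgroup X :=
      { carrier := {u | aa u ^ 4 = aa u}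
        mul_mem' := by
          intro u v hu hv
          simp only [Set.mem_setOf_eq] at *
          rw [h.aa_mul, f4, hu, hv]
        one_mem' := by
          simp only [Set.mem_setOf_eq]
          rw [h.aa_one]
          ring
        inv_mem' := by
          intro u hu
          simp only [Set.mem_setOf_eq] at *
          have h3 : aa u⁻¹ + aa u = 0 := by
            rw [← h.aa_mul, inv_mul_cancel, h.aa_one]
          have h4 : aa u⁻¹ = aa u := by linear_combination h3 - aa u * h2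
          rw [h4, hu] }
    have hxi : ξ ^ 4 ≠ ξ := by
      intro h0
      apply h10
      linear_combination -hξ + h0 + ξ * h2
    refine ⟨K, ?_, ?_, ?_, ?_, ?_, ?_, ?_⟩
    · show aa a ^ 4 = aa a
      rw [ha1]
      ring
    · show aa b ^ 4 = aa b
      rw [hb1, hω4]
    · show ¬ aa x ^ 4 = aa x
      rw [hx1]
      exact hxi
    · show ¬ aa y ^ 4 = aa y
      rw [hy1]
      intro h0
      apply hxi
      have h3 : ω * (ξ ^ 4 - ξ) = 0 := by linear_combination h0 - ξ ^ 4 * hω4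
      exact sub_eq_zero.mp ((mul_eq_zero.mp h3).resolve_left hω0)
    · show ¬ aa (x * y) ^ 4 = aa (x * y)
      rw [h.aa_mul, hx1, hy1]
      intro h0
      apply hxi
      rw [f4] at h0
      have h3 : ω ^ 2 * (ξ ^ 4 - ξ) = 0 := by
        have e : (ω * ξ) ^ 4 = ω ^ 4 * ξ ^ 4 := by ring
        rw [e] at h0
        linear_combination -h0 + ξ ^ 4 * hω4 + (ξ ^ 4 - ξ) * hω
      exact sub_eq_zero.mp ((mul_eq_zero.mp h3).resolve_left (pow_ne_zero 2 hω0))
    · show aa (x * x) ^ 4 = aa (x * x)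
      rw [hsqa]
      ring
    · show aa (y * y) ^ 4 = aa (y * y)
      rw [hsqa]
      ring

end ufield

section final

variable {T : Type u} [Group T] [Finite T] {τ r : T ≃* T}

/-- The model for `L₃(4)`. -/
theorem model_L {B : Subgroup T} {a b x y : T} (R : Rel a b x y) (hxx : x * x = 1) (hyy : y * y = 1)
    (haB : a ∈ B) (hbB : b ∈ B) (hxB : x ∉ B) (hyB : y ∉ B) (hxyB : x * y ∉ B) (hxxB : x * x ∈ B) (hyyB : y * y ∈ B)
    (htop : Subgroup.closure ({a, b, x, y} : Set T) = ⊤) :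
    ∃ (F : Type) (_ : Field F) (_ : Fintype F), Fintype.card F = 4 ∧
      ∀ P : Sylow 2 (Matrix.ProjectiveSpecialLinearGroup (Fin 3) F),
        Nonempty (T ≃* ↥(P : Subgroup (Matrix.ProjectiveSpecialLinearGroup (Fin 3) F))) := by
  open Cfsg.Agent.Lib.ToddCox in
  refine ⟨F4, inferInstance, inferInstance, rfl, ?_⟩
  intro P
  have hx0 : Hs.x₀ * Hs.x₀ = 1 := by decide +kernel
  have hy0 : Hs.y₀ * Hs.y₀ = 1 := by decide +kernel
  obtain ⟨h1, h2, ⟨e⟩⟩ := iso_of_rel (p := 0) (q := 0) (p' := 0) (q' := 0) R Hs.rel₀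
    (by rw [hxx]; simp [wP]) (by rw [hyy]; simp [wP]) (by rw [hx0]; simp [wP]) (by rw [hy0]; simp [wP])
    reachL haB hbB hxB hyB hxyB hxxB hyyB
    (K' := Hs.K₀) (by show Hs.a₀.a = Hs.a₀.b; decide +kernel) (by show Hs.b₀.a = Hs.b₀.b; decide +kernel)
    (by show ¬ Hs.x₀.a = Hs.x₀.b; decide +kernel) (by show ¬ Hs.y₀.a = Hs.y₀.b; decide +kernel)
    (by show ¬ (Hs.x₀ * Hs.y₀).a = (Hs.x₀ * Hs.y₀).b; decide +kernel)
    (by show (Hs.x₀ * Hs.x₀).a = (Hs.x₀ * Hs.x₀).b; decide +kernel)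
    (by show (Hs.y₀ * Hs.y₀).a = (Hs.y₀ * Hs.y₀).b; decide +kernel)
  set C := Subgroup.closure ({Hs.a₀, Hs.b₀, Hs.x₀, Hs.y₀} : Set Hs) with hC
  let P₀ := C.map Hs.toPSL
  let e₁ : C ≃* P₀ := C.equivMapOfInjective _ Hs.toPSL_inj
  have hP₀ : Nat.card P₀ = 2 ^ 6 := by
    rw [← Nat.card_congr e₁.toEquiv, h2]
    norm_num
  haveI : Fact (Nat.Prime 2) := ⟨Nat.prime_two⟩
  obtain ⟨e₂⟩ := Cfsg.Agent.Lib.LocalEven2.Tab.sylow_equiv_of_card Hs.card_psl (by norm_num) P₀ hP₀ P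
  rw [htop] at e
  exact ⟨(Subgroup.topEquiv.symm.trans e).trans (e₁.trans e₂.symm)⟩

/-- The model for `U₃(4)`. -/
theorem model_U {B : Subgroup T} {a b x y : T} (R : Rel a b x y) (hxx : x * x = b * b) (hyy : y * y = a * a * (b * b))
    (haB : a ∈ B) (hbB : b ∈ B) (hxB : x ∉ B) (hyB : y ∉ B) (hxyB : x * y ∉ B) (hxxB : x * x ∈ B) (hyyB : y * y ∈ B)
    (htop : Subgroup.closure ({a, b, x, y} : Set T) = ⊤) :
    ∃ (F : Type) (_ : Field F) (_ : Fintype F), Fintype.card F = 16 ∧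
      ∀ P : Sylow 2 (Cfsg.PSU 3 F 4), Nonempty (T ≃* ↥(P : Subgroup (Cfsg.PSU 3 F 4))) := by
  letI : Fact (Nat.Prime 2) := ⟨Nat.prime_two⟩
  letI : Fintype (GaloisField 2 4) := Fintype.ofFinite _
  have hF : Fintype.card (GaloisField 2 4) = 16 := by
    rw [← Nat.card_eq_fintype_card, GaloisField.card 2 4 (by norm_num)]
    norm_num
  refine ⟨GaloisField 2 4, inferInstance, inferInstance, hF, ?_⟩
  intro S
  have hcoords := uP_coords hF
  have hm : U34Model ↥(uP hF) := hcoords.model hF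
  obtain ⟨a', b', x', y', R', hxx', hyy', K', h1, h2, h3, h4, h5, h6, h7⟩ := u_elements hF hcoords
  obtain ⟨c1, c2, ⟨e⟩⟩ := iso_of_rel (p := 0) (q := 2) (p' := 2) (q' := 2) R R'
    (by rw [hxx]; simp [wP, pow_two]) (by rw [hyy]; simp [wP, pow_two])
    (by rw [hxx']; simp [wP, pow_two]) (by rw [hyy']; simp [wP, pow_two])
    reachU haB hbB hxB hyB hxyB hxxB hyyB h1 h2 h3 h4 h5 h6 h7
  have hCtop : Subgroup.closure ({a', b', x', y'} : Set ↥(uP hF)) = ⊤ :=
    Subgroup.eq_top_of_card_eq _ (by rw [c2, hm.card])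
  rw [htop, hCtop] at e
  have hc := center_su34 hF
  let e' : Cfsg.SU 3 (GaloisField 2 4) 4 ≃* Cfsg.PSU 3 (GaloisField 2 4) 4 :=
    (QuotientGroup.quotientBot.symm).trans (QuotientGroup.quotientMulEquivOfEq hc.symm)
  have hY : Nat.card (Cfsg.PSU 3 (GaloisField 2 4) 4) = 62400 := by
    rw [← Nat.card_congr e'.toEquiv]
    exact card_su34 hF
  let P' : Subgroup (Cfsg.PSU 3 (GaloisField 2 4) 4) := (uP hF).map e'.toMonoidHom
  let e'' : ↥(uP hF) ≃* ↥P' := (uP hF).equivMapOfInjective _ e'.injective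
  have hP' : Nat.card P' = 64 := by
    rw [← Nat.card_congr e''.toEquiv]
    exact hm.card
  obtain ⟨e2⟩ := sylow_iso_of_card hY P' hP' S
  exact ⟨((Subgroup.topEquiv.symm.trans e).trans Subgroup.topEquiv).trans (e''.trans e2)⟩

/-- The abstract theorem. -/
theorem main_abstract (D : Data τ r) :
    (Nat.card T = 16 ∧ ∀ x : T, x ^ 2 = 1) ∨
    (∃ n : ℕ, 1 ≤ n ∧ Nonempty (T ≃* Multiplicative (ZMod (2 ^ n)) × Multiplicative (ZMod (2 ^ n)))) ∨
    (∃ (F : Type) (_ : Field F) (_ : Fintype F), Fintype.card F = 4 ∧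
      ∀ P : Sylow 2 (Matrix.ProjectiveSpecialLinearGroup (Fin 3) F),
        Nonempty (T ≃* ↥(P : Subgroup (Matrix.ProjectiveSpecialLinearGroup (Fin 3) F)))) ∨
    (∃ (F : Type) (_ : Field F) (_ : Fintype F), Fintype.card F = 16 ∧
      ∀ P : Sylow 2 (Cfsg.PSU 3 F 4), Nonempty (T ≃* ↥(P : Subgroup (Cfsg.PSU 3 F 4)))) := by
  obtain ⟨B, S⟩ := exists_struct _ T τ r D rfl
  by_cases hcomm : ∀ g h : T, g * h = h * g
  · rcases abelian_case D S hcomm with h | h
    · exact Or.inl h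
    · exact Or.inr (Or.inl h)
  · obtain ⟨a, b, x, y, R, hty, h1, h2, h3, h4, h5, h6, h7, h8⟩ := nonab_case D S hcomm
    rcases hty with ⟨hxx, hyy⟩ | ⟨hxx, hyy⟩
    · exact Or.inr (Or.inr (Or.inl (model_L R hxx hyy h1 h2 h3 h4 h5 h6 h7 h8)))
    · exact Or.inr (Or.inr (Or.inr (model_U R hxx hyy h1 h2 h3 h4 h5 h6 h7 h8)))

end final

end Cfsg.Agent.Lib.LocalEven2.T33
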