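import Mathlib
import Cfsg.Prelude.Def_Classical
import Cfsg.Agent.Lib.LocalEven2.Tab
import Cfsg.Agent.Lib.Classical.IsoTransfer
import Cfsg.Agent.Lib.Classical.OrthMinus

/-! Sylow `2`-subgroups of `S₈` and of `O⁻₆(2)` are isomorphic. -/

set_option autoImplicit false
set_option linter.unusedVariables false
set_option linter.unusedSectionVars false

namespace Cfsg.Agent.Lib.LocalEven2.Tab2

open Matrix Cfsg.Agent.Lib.LocalEven2.Tab

abbrev Idx := (Fin 2 ⊕ Fin 2) ⊕ Fin 2

/-- Position of a coordinate. -/
def idx : Idx → ℕ := Sum.elim (Sum.elim (fun i => i.val) (fun i => i.val + 2)) (fun i => i.val + 4)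

/-- A permutation table, octal digits. -/
def pf (c : ℕ) (k : Fin 8) : Fin 8 := Fin.ofNat 8 (c / 8 ^ k.val)

/-- A matrix code, binary digits. -/
def bm (c : ℕ) : Matrix Idx Idx (ZMod 2) := fun a b => ((c / 2 ^ (6 * idx a + idx b) : ℕ) : ZMod 2)

def pc : List ℕ := [
  16434824, 14598234, 5015934, 14598227, 16434369, 2206071, 16434376, 6852069,
  11788371, 6852076, 16434817, 2177399, 14598675, 6822270, 14598682, 372645,
  11760840, 372652, 6850942, 5016375, 16404570, 5016382, 9954945, 2178540,
  9954952, 5015927, 16433242, 4987262, 343973, 11761288, 343980, 342391,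
  4988389, 11788826, 4988396, 371063, 2206526, 14570689, 2206519, 9924691,
  6852524, 9924698, 2206078, 14599361, 5017061, 11788378, 5017068, 6852517,
  14570696, 9953363, 11788819, 342398, 11759699, 14599368, 6823397, 6823404,
  2177854, 14571137, 2177847, 5017516, 2177406, 14599809, 2178981, 11761281,
  2178988, 6822711, 16405011, 6822718, 9954504, 372204, 9954497, 6822263,
  16433683, 2207653, 11760833, 2207660, 372197, 16405018, 9925832, 11789512,
  16433690, 6851383, 16404563, 6851390, 2207212, 6850935, 16433235, 14569562,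
  11789953, 2178533, 11789960, 343532, 9926273, 9926280, 4987703, 4987710,
  4987255, 343525, 342846, 14571144, 342839, 9925146, 4988844, 9925139,
  14599816, 4988837, 9953818, 11760154, 371518, 371511, 6823852, 371070,
  16405697, 11759706, 9953370, 5017509, 16405704, 9953811, 16406152, 11760147,
  6823845, 16406145, 14570003, 11789505, 9925825, 2207205, 14570010, 14569555]

def mc : List ℕ := [
  34630287489, 52901081217, 52947480705, 52884267201, 35704098945, 37898506369, 34647232705, 35746828417,
  37856301185, 34673184961, 35721040065, 37915246785, 51827404929, 51873796225, 51810463937, 54017093761,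
  53979598977, 55090671809, 52930728129, 51874066561, 51827134593, 51873640641, 53979345025, 54017347713,
  55036145857, 52947706049, 52900843713, 51857055937, 54000279745, 53962723521, 55073927297, 36824703105,
  34673025153, 36782489729, 35746996417, 36841578689, 36824432769, 34630557825, 36824928449, 36782760065,
  34672754817, 36799766721, 37898342593, 35704398017, 35763642561, 37873176769, 34689937537, 35746730177,
  35721306305, 36782596289, 36799500481, 36824670401, 37856526529, 34647470209, 34689827009, 35763736705,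
  36841312449, 34647498945, 36841607297, 34689577153, 37915152513, 35721277569, 55090761857, 55053275265,
  54016987329, 52947734657, 52900810881, 52947439809, 55053021313, 55091032193, 53962465473, 51873890497,
  51827167425, 55074083009, 55036395713, 54000107649, 54017253569, 52884000961, 55053377729, 53979304129,
  51810156673, 51857313985, 51810189505, 51856818305, 54000537793, 52930891905, 52883968129, 51827433665,
  55053111489, 55090921665, 53962358913, 55074349249, 53979570369, 55036440705, 52930994369, 52930637953,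
  51857088641, 54000377985, 37898252417, 35704369281, 37898608833, 37856571521, 35746574465, 37873443009,
  34630594753, 34672926913, 37856276673, 36782854337, 37914996929, 37915422849, 35763376321, 36841353345,
  34630320321, 37873471617, 36799410305, 35763482753, 35721007233, 37873217665, 35704131777, 36799664257,
  34689667201, 34647199873, 52901109953, 55036170369, 53962629249, 55074181249, 52884238465, 51810427009]

def rt : List ℕ := [
  1, 2, 3, 4, 5, 6, 7, 8,
  9, 10, 11, 0, 12, 13, 14, 15,
  16, 17, 3, 18, 1, 19, 20, 21,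
  22, 23, 24, 25, 26, 2, 14, 27,
  12, 28, 29, 30, 0, 31, 10, 32,
  33, 34, 6, 35, 4, 36, 37, 38,
  39, 40, 41, 42, 43, 5, 44, 45,
  46, 40, 39, 47, 37, 36, 48, 9,
  49, 7, 33, 32, 50, 31, 0, 51,
  45, 44, 8, 47, 52, 40, 43, 42,
  53, 54, 50, 55, 56, 57, 58, 41,
  59, 39, 60, 61, 11, 62, 63, 64,
  65, 66, 67, 68, 69, 70, 71, 72,
  13, 73, 74, 75, 69, 68, 76, 66,
  65, 77, 17, 78, 15, 63, 62, 29,
  2, 1, 25, 74, 73, 16, 76, 79,
  69, 72, 71, 80, 81, 82, 83, 70,
  84, 68, 85, 86, 18, 21, 87, 19,
  82, 81, 20, 88, 89, 90, 24, 91,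
  22, 89, 88, 23, 92, 64, 93, 86,
  85, 26, 94, 77, 95, 96, 80, 27,
  91, 24, 97, 77, 94, 66, 30, 93,
  28, 18, 3, 85, 97, 90, 91, 80,
  96, 72, 98, 99, 100, 101, 102, 103,
  51, 104, 31, 102, 101, 105, 99, 98,
  57, 34, 106, 32, 8, 7, 45, 5,
  4, 42, 50, 54, 33, 105, 107, 102,
  104, 51, 61, 108, 48, 109, 103, 110,
  101, 111, 53, 35, 38, 112, 36, 48,
  108, 37, 52, 47, 113, 49, 9, 114,
  53, 111, 43, 59, 41, 115, 57, 56,
  99, 46, 114, 44, 35, 6, 111, 115,
  113, 59, 61, 60, 104, 112, 38, 116,
  106, 34, 117, 100, 118, 98, 114, 46,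
  49, 11, 10, 60, 107, 105, 119, 113,
  115, 52, 110, 103, 120, 55, 117, 54,
  120, 119, 110, 58, 121, 56, 23, 22,
  89, 20, 19, 82, 64, 92, 62, 16,
  15, 74, 13, 12, 71, 29, 28, 63,
  26, 25, 86, 67, 122, 65, 79, 76,
  123, 78, 17, 124, 84, 70, 125, 75,
  124, 73, 27, 14, 96, 125, 123, 84,
  122, 67, 126, 124, 75, 78, 123, 125,
  79, 83, 127, 81, 127, 83, 87, 90,
  97, 88, 87, 21, 127, 93, 30, 92,
  95, 126, 94, 126, 95, 122, 118, 100,
  121, 117, 55, 106, 119, 120, 107, 109,
  116, 108, 116, 109, 112, 121, 58, 118]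

def gc : List ℕ := [
  14598234, 5015934, 14598227]

def gci : List ℕ := [
  14598675, 2178540, 14598227]

def gm : List ℕ := [
  52901081217, 52947480705, 52884267201]

def gmi : List ℕ := [
  51827404929, 54017347713, 52884267201]

/-- The table. -/
def r (i : Fin 128) (s : Fin 3) : Fin 128 := Fin.ofNat 128 (rt.getD (3 * i.val + s.val) 0)

/-- The form over the prime field. -/
abbrev Q₂ : (Idx → ZMod 2) → ZMod 2 := Cfsg.quadFormMinus 2 (ZMod 2) 1 1

def x (i : Fin 128) : Function.End (Fin 8) := pf (pc.getD i.val 0)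

def y (i : Fin 128) : Matrix Idx Idx (ZMod 2) := bm (mc.getD i.val 0)

set_option maxRecDepth 100000 in
theorem gA_h₁ : ∀ (s : Fin 3) (k : Fin 8), pf (gc.getD s.val 0) (pf (gci.getD s.val 0) k) = k := by
  decide +kernel

set_option maxRecDepth 100000 in
theorem gA_h₂ : ∀ (s : Fin 3) (k : Fin 8), pf (gci.getD s.val 0) (pf (gc.getD s.val 0) k) = k := by
  decide +kernel

/-- Generators in the symmetric group. -/
def gA (s : Fin 3) : Equiv.Perm (Fin 8) :=
  ⟨pf (gc.getD s.val 0), pf (gci.getD s.val 0), gA_h₂ s, gA_h₁ s⟩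

set_option maxRecDepth 100000 in
theorem gB_h₁ : ∀ s : Fin 3, bm (gm.getD s.val 0) * bm (gmi.getD s.val 0) = 1 := by
  decide +kernel

set_option maxRecDepth 100000 in
theorem gB_h₂ : ∀ s : Fin 3, bm (gmi.getD s.val 0) * bm (gm.getD s.val 0) = 1 := by
  decide +kernel

set_option maxRecDepth 100000 in
theorem gB_h₃ : ∀ (s : Fin 3) (v : Idx → ZMod 2), Q₂ (bm (gm.getD s.val 0) *ᵥ v) = Q₂ v := by
  decide +kernel

/-- Generators in the isometry group. -/
def gB (s : Fin 3) : Cfsg.isometryGroup (ZMod 2) Q₂ :=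
  ⟨⟨bm (gm.getD s.val 0), bm (gmi.getD s.val 0), gB_h₁ s, gB_h₂ s⟩, fun u _ => gB_h₃ s u⟩

/-- Permutations as endomorphisms. -/
def φ : Equiv.Perm (Fin 8) →* Function.End (Fin 8) where
  toFun g := ⇑g
  map_one' := rfl
  map_mul' _ _ := rfl

/-- Isometries as matrices. -/
def ψ : Cfsg.isometryGroup (ZMod 2) Q₂ →* Matrix Idx Idx (ZMod 2) :=
  (Units.coeHom _).comp (Subgroup.subtype _)

theorem φ_inj : Function.Injective φ := fun _ _ h => Equiv.ext (fun k => congrFun h k)

theorem ψ_inj : Function.Injective ψ := fun _ _ h => Subtype.ext (Units.ext h)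

set_option maxRecDepth 100000 in
theorem x0_aux : ∀ k : Fin 8, pf (pc.getD 0 0) k = k := by decide +kernel

set_option maxRecDepth 100000 in
theorem y0_aux : bm (mc.getD 0 0) = 1 := by decide +kernel

set_option maxRecDepth 100000 in
theorem xr_aux : ∀ (i : Fin 128) (s : Fin 3) (k : Fin 8),
    pf (pc.getD (r i s).val 0) k = pf (pc.getD i.val 0) (pf (gc.getD s.val 0) k) := by
  decide +kernel

set_option maxRecDepth 100000 in
theorem yr_aux : ∀ (i : Fin 128) (s : Fin 3),
    bm (mc.getD (r i s).val 0) = bm (mc.getD i.val 0) * bm (gm.getD s.val 0) := by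
  decide +kernel

set_option maxRecDepth 100000 in
theorem xi_aux : ∀ i j : Fin 128, (∀ k : Fin 8, pf (pc.getD i.val 0) k = pf (pc.getD j.val 0) k) → i = j := by
  decide +kernel

set_option maxRecDepth 100000 in
theorem yi_aux : ∀ i j : Fin 128, bm (mc.getD i.val 0) = bm (mc.getD j.val 0) → i = j := by
  decide +kernel

set_option maxRecDepth 100000 in
theorem reach_aux : ∀ i : Fin 128, i ≠ 0 → ∃ j, j < i ∧ ∃ s, r j s = i := by
  decide +kernel

theorem main_table :
    Nat.card (Subgroup.closure (Set.range gA)) = 128 ∧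
      Nat.card (Subgroup.closure (Set.range gB)) = 128 ∧
      Nonempty (Subgroup.closure (Set.range gA) ≃* Subgroup.closure (Set.range gB)) := by
  haveI : Finite (Cfsg.isometryGroup (ZMod 2) Q₂) := by
    apply Subtype.finite
  refine table_iso (n := 128) φ ψ φ_inj ψ_inj gA gB x y r ?_ ?_ ?_ ?_ ?_ ?_ reach_aux
  · funext k
    exact x0_aux k
  · exact y0_aux
  · intro i s
    funext k
    exact xr_aux i s k
  · intro i s
    exact yr_aux i s
  · intro i j h
    exact xi_aux i j (fun k => congrFun h k)
  · intro i j h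
    exact yi_aux i j h

end Cfsg.Agent.Lib.LocalEven2.Tab2
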